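import Mathlib

/-!
# Action on the orbits of a normal subgroup, and signs (helper73)
-/

set_option autoImplicit false

namespace Cfsg.Agent.H73.OrbAct

open Subgroup MulAction

variable {N : Type*} [Group N] {X : Type*} [MulAction N X] (P : Subgroup N) [hPn : P.Normal]

/-- The set of orbits of `P`. -/
abbrev Orb (P : Subgroup N) (X : Type*) [MulAction N X] : Type _ := orbitRel.Quotient P X

include hPn in
theorem orbit_smul {x y : X} (n : N) (h : x ∈ orbit P y) : n • x ∈ orbit P (n • y) := by
  obtain ⟨⟨c, hc⟩, rfl⟩ := h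
  refine ⟨⟨n * c * n⁻¹, hPn.conj_mem c hc n⟩, ?_⟩
  change (n * c * n⁻¹) • n • y = n • c • y
  rw [← mul_smul, ← mul_smul]
  congr 1
  group

/-- `N` acts on the orbits of the normal subgroup `P`. -/
instance instMulActionOrb : MulAction N (Orb P X) where
  smul n := Quotient.map (n • ·) (fun _ _ h => orbit_smul P n h)
  one_smul := by
    rintro ⟨x⟩
    exact congrArg (Quotient.mk'' : X → Orb P X) (one_smul N x)
  mul_smul := by
    rintro a b ⟨x⟩
    exact congrArg (Quotient.mk'' : X → Orb P X) (mul_smul a b x)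

theorem smul_mk (n : N) (x : X) :
    n • (Quotient.mk'' x : Orb P X) = (Quotient.mk'' (n • x) : Orb P X) := rfl

theorem smul_mk_eq_of_fixed {n : N} {x : X} (h : n • x = x) :
    n • (Quotient.mk'' x : Orb P X) = (Quotient.mk'' x : Orb P X) := by
  rw [smul_mk, h]

theorem mem_orbit_of_mk_eq {x y : X} (h : (Quotient.mk'' x : Orb P X) = Quotient.mk'' y) :
    x ∈ orbit P y := by
  have := Quotient.exact h
  exact this

/-- An element centralizing `P` and fixing all orbits: its `|P|`-th power is trivial. -/
theorem pow_smul_eq {w : N} (hw : ∀ c ∈ P, w * c = c * w)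
    (hfix : ∀ o : Orb P X, w • o = o) {m : ℕ} (hm : ∀ c ∈ P, c ^ m = 1) (x : X) :
    w ^ m • x = x := by
  have h1 := hfix (Quotient.mk'' x)
  rw [smul_mk] at h1
  obtain ⟨⟨c, hc⟩, hcx⟩ := mem_orbit_of_mk_eq P h1
  have hcx : c • x = w • x := hcx
  have key : ∀ k : ℕ, w ^ k • x = c ^ k • x := by
    intro k
    induction k with
    | zero => simp
    | succ k ih =>
      have e1 : w ^ (k + 1) • x = w ^ k • (w • x) := by rw [pow_succ, mul_smul]
      have hcomm : w ^ k * c = c * w ^ k := by
        have : Commute w c := hw c hc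
        exact (this.pow_left k).eq
      rw [e1, ← hcx, ← mul_smul, hcomm, mul_smul, ih, ← mul_smul, ← pow_succ']
  rw [key, hm c hc, one_smul]

section Sign

variable (hsemi : ∀ c ∈ P, ∀ x : X, c • x = x → c = 1)

/-- Coordinates for a semiregular normal subgroup. -/
noncomputable def coord : Orb P X × P ≃ X :=
  Equiv.ofBijective (fun q => q.2 • (Quotient.out q.1 : X)) (by
    constructor
    · rintro ⟨o, c⟩ ⟨o', c'⟩ h
      have h : c • (Quotient.out o : X) = c' • (Quotient.out o' : X) := h
      have ho : o = o' := by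
        rw [← Quotient.out_eq' o, ← Quotient.out_eq' o']
        apply Quotient.sound
        refine ⟨c⁻¹ * c', ?_⟩
        change (c⁻¹ * c') • (Quotient.out o' : X) = Quotient.out o
        rw [mul_smul, ← h, inv_smul_smul]
      subst ho
      have h2 : (c'⁻¹ * c) • (Quotient.out o : X) = Quotient.out o := by
        rw [mul_smul, h, inv_smul_smul]
      have h3 : c'⁻¹ * c = 1 := Subtype.ext (hsemi _ (c'⁻¹ * c).2 _ h2)
      rw [inv_mul_eq_one] at h3
      rw [h3]
    · intro x
      have h1 : x ∈ orbit P (Quotient.out (Quotient.mk'' x : Orb P X) : X) := by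
        apply mem_orbit_of_mk_eq
        exact (Quotient.out_eq' _).symm
      obtain ⟨c, hc⟩ := h1
      exact ⟨(_, c), hc⟩)

theorem coord_apply (o : Orb P X) (c : P) :
    coord P hsemi (o, c) = c • (Quotient.out o : X) := rfl

include hsemi in
theorem card_orb_mul [Finite X] : Nat.card (Orb P X) * Nat.card P = Nat.card X := by
  rw [← Nat.card_prod]
  exact Nat.card_congr (coord P hsemi)

/-- The cocycle. -/
theorem exists_cocycle (w : N) (o : Orb P X) :
    ∃ c : P, w • (Quotient.out o : X) = c • (Quotient.out (w • o) : X) := by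
  have h1 : w • (Quotient.out o : X) ∈ orbit P (Quotient.out (w • o) : X) := by
    apply mem_orbit_of_mk_eq
    rw [← smul_mk, Quotient.out_eq', Quotient.out_eq']
  obtain ⟨c, hc⟩ := h1
  exact ⟨c, hc.symm⟩

theorem int_units_eq_one_of_pow {u : ℤˣ} {m : ℕ} (hm : Odd m) (h : u ^ m = 1) : u = 1 := by
  rcases Int.units_eq_one_or u with rfl | rfl
  · rfl
  · rw [hm.neg_one_pow] at h
    exact h

include hsemi in
/-- For a semiregular normal subgroup of odd order with an even number of orbits the sign can be
computed on the orbits. -/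
theorem sign_eq [Fintype X] [DecidableEq X] [Fintype (Orb P X)] [DecidableEq (Orb P X)]
    [Finite P]
    (hodd : Odd (Nat.card P)) (heven : Even (Nat.card (Orb P X))) (w : N) :
    Equiv.Perm.sign (MulAction.toPerm w : Equiv.Perm X) =
      Equiv.Perm.sign (MulAction.toPerm w : Equiv.Perm (Orb P X)) := by
  classical
  have hfP : Fintype P := Fintype.ofFinite _
  choose c hc using exists_cocycle P (X := X) w
  let cw : Equiv.Perm P := (MulAut.conjNormal w : MulAut P).toEquiv
  let e := coord P hsemi
  let L : Equiv.Perm (Orb P X × P) := Equiv.prodCongrLeft (fun _ : P => (MulAction.toPerm w : Equiv.Perm (Orb P X)))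
  let R : Equiv.Perm (Orb P X × P) := Equiv.prodCongrRight (fun o : Orb P X => Equiv.mulRight (c o) * cw)
  have hLR : e.permCongr (L * R) = (MulAction.toPerm w : Equiv.Perm X) := by
    ext x
    obtain ⟨⟨o, d⟩, rfl⟩ := e.surjective x
    rw [Equiv.permCongr_apply, Equiv.symm_apply_apply]
    change e (w • o, (⟨w * d * w⁻¹, hPn.conj_mem d d.2 w⟩ : P) * c o) = w • e (o, d)
    rw [coord_apply, coord_apply, mul_smul, ← hc]
    change (w * d * w⁻¹) • (w • (Quotient.out o : X)) = w • ((d : N) • (Quotient.out o : X))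
    rw [← mul_smul, ← mul_smul]
    congr 1
    group
  rw [← hLR, Equiv.Perm.sign_permCongr, map_mul, Equiv.Perm.sign_prodCongrLeft,
    Equiv.Perm.sign_prodCongrRight]
  have h1 : ∀ d : P, Equiv.Perm.sign (Equiv.mulRight d) = 1 := by
    intro d
    apply int_units_eq_one_of_pow hodd
    rw [← map_pow]
    have : ∀ k : ℕ, (Equiv.mulRight d) ^ k = Equiv.mulRight (d ^ k) := by
      intro k
      induction k with
      | zero => ext x; simp
      | succ k ih =>
        rw [pow_succ, ih]
        ext x
        simp [pow_succ', mul_assoc]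
    rw [this, pow_card_eq_one']
    have : Equiv.mulRight (1 : P) = 1 := by ext x; simp
    rw [this, map_one]
  simp only [map_mul, h1, one_mul, Finset.prod_const, Finset.card_univ]
  have h2 : Equiv.Perm.sign cw ^ Fintype.card (Orb P X) = 1 := by
    rw [← Nat.card_eq_fintype_card]
    obtain ⟨k, hk⟩ := heven
    rw [hk, ← two_mul, pow_mul, Int.units_sq, one_pow]
  rw [h2, mul_one, ← Nat.card_eq_fintype_card]
  obtain ⟨k, hk⟩ := hodd
  rw [hk, pow_succ, pow_mul, Int.units_sq, one_pow, one_mul]

end Sign

end Cfsg.Agent.H73.OrbAct
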