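import Mathlib
import Cfsg.Agent.Transfer.Fusion
import Cfsg.Agent.Transfer.SmallSylow
import Cfsg.Agent.H17.Orbits

/-!
# Counting Sylow subgroups: reductions (helper73)
-/

set_option autoImplicit false

namespace Cfsg.Agent.H73.SylCount

open Subgroup MulAction

variable {G : Type*} [Group G] {p : ℕ}

/-- A normal subgroup of index prime to `p` has the same number of Sylow `p`-subgroups. -/
theorem card_sylow_eq_of_coprime_index [Fact p.Prime] [Finite G] (K : Subgroup G) [K.Normal]
    (h : ¬ p ∣ K.index) : Nat.card (Sylow p K) = Nat.card (Sylow p G) := by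
  have hle : ∀ P : Sylow p G, (P : Subgroup G) ≤ K := by
    intro P x hx
    obtain ⟨k, hk⟩ := Transfer.isPGroup_mem_pow P.2 hx
    have h1 : (QuotientGroup.mk x : G ⧸ K) ^ p ^ k = 1 := by
      rw [← QuotientGroup.mk_pow, hk, QuotientGroup.mk_one]
    have h2 : orderOf (QuotientGroup.mk x : G ⧸ K) ∣ p ^ k := orderOf_dvd_of_pow_eq_one h1
    have h3 : orderOf (QuotientGroup.mk x : G ⧸ K) ∣ K.index := by
      rw [index_eq_card]; exact orderOf_dvd_natCard _
    have hp : p.Prime := Fact.out
    have h4 : Nat.Coprime (p ^ k) K.index := ((Nat.Prime.coprime_iff_not_dvd hp).2 h).pow_left k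
    have h5 := Nat.Coprime.eq_one_of_dvd (Nat.Coprime.coprime_dvd_left h2 h4) h3
    rw [orderOf_eq_one_iff] at h5
    exact (QuotientGroup.eq_one_iff x).1 h5
  symm
  apply Nat.card_eq_of_bijective (fun P : Sylow p G => P.subtype (hle P))
  constructor
  · intro P Q hPQ
    exact Sylow.subtype_injective hPQ
  · intro R
    have hR : IsPGroup p ((R : Subgroup K).map K.subtype) := R.2.map _
    obtain ⟨P, hP⟩ := hR.exists_le_sylow
    refine ⟨P, ?_⟩
    apply Sylow.ext
    apply R.3 (P.subtype (hle P)).2
    intro x hx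
    rw [Sylow.coe_subtype, mem_subgroupOf]
    exact hP ⟨x, hx, rfl⟩

/-- The kernel of the action on Sylow subgroups can be factored out. -/
theorem card_sylow_quotient_ker [Fact p.Prime] [Finite G] (K : Subgroup G) [K.Normal]
    (hK : ∀ P : Sylow p G, K ≤ normalizer ((P : Subgroup G) : Set G)) :
    Nat.card (Sylow p (G ⧸ K)) = Nat.card (Sylow p G) := by
  symm
  apply Nat.card_eq_of_bijective (Sylow.mapSurjective (QuotientGroup.mk'_surjective K))
  constructor
  · intro P Q hPQ
    have h1 : (P : Subgroup G).map (QuotientGroup.mk' K) = (Q : Subgroup G).map (QuotientGroup.mk' K) :=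
      congrArg (fun S : Sylow p (G ⧸ K) => (S : Subgroup (G ⧸ K))) hPQ
    have h2 : (P : Subgroup G) ≤ normalizer ((Q : Subgroup G) : Set G) := by
      have h3 : (P : Subgroup G) ≤ (Q : Subgroup G) ⊔ K := by
        have h4 := Subgroup.le_comap_map (QuotientGroup.mk' K) (P : Subgroup G)
        rw [h1, Subgroup.comap_map_eq, QuotientGroup.ker_mk'] at h4
        exact h4
      exact h3.trans (sup_le le_normalizer (hK Q))
    have h3 : (P : Subgroup G) ⊓ normalizer ((Q : Subgroup G) : Set G) = (P : Subgroup G) ⊓ Q :=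
      P.2.inf_normalizer_sylow Q
    have h4 : (P : Subgroup G) ≤ Q := by
      have : (P : Subgroup G) ⊓ normalizer ((Q : Subgroup G) : Set G) = P := inf_eq_left.2 h2
      rw [← this, h3]
      exact inf_le_right
    apply Sylow.ext
    exact (P.3 Q.2 h4).symm
  · exact Sylow.mapSurjective_surjective _ p

end Cfsg.Agent.H73.SylCount
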