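import Mathlib
import Cfsg.Agent.H73.SylCount

/-!
# Twenty-one Sylow 5-subgroups: the Sylow subgroups have order 5 (helper73)
-/

set_option autoImplicit false
set_option linter.unusedSectionVars false

namespace Cfsg.Agent.H73.Syl21

open Subgroup MulAction

open scoped Pointwise commutatorElement

instance fact5 : Fact (Nat.Prime 5) := ⟨by norm_num⟩
instance fact11 : Fact (Nat.Prime 11) := ⟨by norm_num⟩

variable {G : Type*} [Group G] [Finite G]

/-- Fixed points of an element on the Sylow 5-subgroups. -/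
def fx (y : G) : Set (Sylow 5 G) := {Q | y • Q = Q}

theorem mem_fx {y : G} {Q : Sylow 5 G} : Q ∈ fx y ↔ y • Q = Q := Iff.rfl

theorem fx_iff_mem {P : Sylow 5 G} {y : G} (hy : y ∈ P) (Q : Sylow 5 G) :
    y • Q = Q ↔ y ∈ Q := by
  rw [Sylow.smul_eq_iff_mem_normalizer]
  constructor
  · intro h
    obtain ⟨k, hk⟩ := Transfer.isPGroup_mem_pow P.2 hy
    exact Transfer.mem_sylow_of_mem_normalizer h hk
  · intro h
    exact le_normalizer h

theorem exists_smul_eq_of_le (H : Subgroup G) (P Q : Sylow 5 G)
    (hP : (P : Subgroup G) ≤ H) (hQ : (Q : Subgroup G) ≤ H) : ∃ s ∈ H, s • P = Q :=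
  Transfer.exists_smul_eq_of_le H P Q hP hQ

theorem index_eq_five (h21 : Nat.card (Sylow 5 G) = 21) {P Q : Sylow 5 G} (hPQ : P ≠ Q) :
    ((Q : Subgroup G).subgroupOf (P : Subgroup G)).index = 5 := by
  rw [← H17.stabilizer_sylow_eq]
  obtain ⟨n, hn⟩ := P.2.index (stabilizer (P : Subgroup G) Q)
  have h1 : (stabilizer (P : Subgroup G) Q).index ≤ 21 := by
    rw [index_stabilizer, ← h21, ← Nat.card_coe_set_eq]
    exact Finite.card_subtype_le _
  have h2 : (stabilizer (P : Subgroup G) Q).index ≠ 1 := by
    rw [Ne, index_eq_one, H17.stabilizer_sylow_eq, subgroupOf_eq_top]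
    intro h
    apply hPQ
    apply Sylow.ext
    exact (P.3 Q.2 h).symm
  rw [hn] at h1 h2 ⊢
  have h3 : n < 2 := by
    by_contra h
    push Not at h
    have := Nat.pow_le_pow_right (show 0 < 5 by norm_num) h
    omega
  interval_cases n
  · simp at h2
  · norm_num

theorem comm_of_faithful (h21 : Nat.card (Sylow 5 G) = 21)
    (hf : ∀ g : G, (∀ Q : Sylow 5 G, g • Q = Q) → g = 1) (P : Sylow 5 G) {x y : G}
    (hx : x ∈ P) (hy : y ∈ P) : x * y = y * x := by
  rw [← mul_inv_eq_one, mul_inv_rev, ← mul_assoc]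
  apply hf
  intro Q
  have hz : x * y * x⁻¹ * y⁻¹ ∈ P :=
    mul_mem (mul_mem (mul_mem hx hy) (inv_mem hx)) (inv_mem hy)
  by_cases hPQ : P = Q
  · subst hPQ
    exact (fx_iff_mem hz P).2 hz
  rw [fx_iff_mem hz Q]
  set D := (Q : Subgroup G).subgroupOf (P : Subgroup G) with hD
  have hi : D.index = 5 := index_eq_five h21 hPQ
  have hc : (Nat.card (P : Subgroup G)).minFac = 5 := by
    obtain ⟨k, hk⟩ := IsPGroup.iff_card.1 P.2
    rw [hk, Nat.Prime.pow_minFac (by norm_num)]
    rintro rfl
    have := D.card_mul_index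
    rw [hk, hi] at this
    omega
  have hn : D.Normal := normal_of_index_eq_minFac_card (by rw [hi, hc])
  have hcy : IsCyclic ((P : Subgroup G) ⧸ D) := isCyclic_of_prime_card (p := 5) (by
    rw [← index_eq_card, hi])
  have h1 : (⟨x, hx⟩ * ⟨y, hy⟩ * ⟨x, hx⟩⁻¹ * ⟨y, hy⟩⁻¹ : (P : Subgroup G)) ∈ D := by
    rw [← QuotientGroup.eq_one_iff]
    have : ∀ a b : (P : Subgroup G) ⧸ D, a * b = b * a := fun a b => (IsCyclic.commGroup).mul_comm a b
    rw [QuotientGroup.mk_mul, QuotientGroup.mk_mul, QuotientGroup.mk_mul, QuotientGroup.mk_inv,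
      QuotientGroup.mk_inv, this (QuotientGroup.mk ⟨x, hx⟩)]
    group
  rw [hD, mem_subgroupOf] at h1
  exact h1

theorem isPreprimitive (h21 : Nat.card (Sylow 5 G) = 21) : IsPreprimitive G (Sylow 5 G) := by
  have hnt : Nontrivial (Sylow 5 G) := by
    rw [← Finite.one_lt_card_iff_nontrivial, h21]; norm_num
  obtain ⟨P⟩ : Nonempty (Sylow 5 G) := inferInstance
  rw [← isCoatom_stabilizer_iff_preprimitive G P, Sylow.stabilizer_eq_normalizer]
  change IsCoatom (normalizer ((P : Subgroup G) : Set G))
  have hi : (normalizer ((P : Subgroup G) : Set G)).index = 21 := by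
    rw [← h21, P.card_eq_index_normalizer]
    rfl
  constructor
  · intro h
    rw [h, index_top] at hi
    norm_num at hi
  · intro H hH
    have hPH : (P : Subgroup G) ≤ H := le_normalizer.trans hH.le
    have h1 := (P.subtype hPH).card_eq_index_normalizer
    have h2 : (normalizer ((P.subtype hPH : Subgroup H) : Set H)) =
        (normalizer ((P : Subgroup G) : Set G)).subgroupOf H := by
      rw [Sylow.coe_subtype, subgroupOf_normalizer_eq hPH]
    have h3 : Nat.card (Sylow 5 H) = (normalizer ((P : Subgroup G) : Set G)).relIndex H := by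
      rw [h1, relIndex, ← h2]; rfl
    have h4 := card_sylow_modEq_one 5 H
    have h5 := relIndex_mul_index hH.le
    rw [← h3, hi] at h5
    have h6 : Nat.card (Sylow 5 H) ∈ Nat.divisors 21 := by
      rw [Nat.mem_divisors]
      exact ⟨Dvd.intro _ h5, by norm_num⟩
    have h7 : Nat.divisors 21 = {1, 3, 7, 21} := by decide
    rw [h7] at h6
    simp only [Finset.mem_insert, Finset.mem_singleton] at h6
    rcases h6 with h6 | h6 | h6 | h6
    · exfalso
      rw [h6] at h3
      exact hH.not_ge (relIndex_eq_one.1 h3.symm)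
    · rw [h6] at h4; exact absurd h4 (by decide)
    · rw [h6] at h4; exact absurd h4 (by decide)
    · rw [h6] at h5
      rw [← index_eq_one]
      omega

/-- Jordan's theorem excludes cycles of prime length fixing the other points. -/
theorem no_cycle (h21 : Nat.card (Sylow 5 G) = 21)
    {y : G} {r : ℕ} (hr : r.Prime) (hyr : y ^ r = 1) (hF : (fx y).ncard + r = 21)
    (hF0 : (fx y).ncard ≠ 0) : False := by
  have hpr := isPreprimitive h21
  have hfr : Fact r.Prime := ⟨hr⟩
  obtain ⟨n, hn⟩ := Nat.exists_eq_succ_of_ne_zero hF0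
  have hr2 := hr.two_le
  have hcompl : ((fx y)ᶜ).ncard = r := by
    have := Set.ncard_add_ncard_compl (fx y)
    rw [h21] at this
    omega
  -- transitivity
  have htr : IsPretransitive (fixingSubgroup G (fx y))
      (SubMulAction.ofFixingSubgroup G (fx y)) := by
    have hyfix : ∀ k : ℤ, y ^ k ∈ fixingSubgroup G (fx y) := by
      intro k
      rw [mem_fixingSubgroup_iff]
      intro Q hQ
      have : y ∈ stabilizer G Q := hQ
      exact zpow_mem this k
    have key : ∀ a : Sylow 5 G, a ∉ fx y → orbit (zpowers y) a = (fx y)ᶜ := by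
      intro a ha
      apply Set.eq_of_subset_of_ncard_le
      · rintro _ ⟨⟨_, k, rfl⟩, rfl⟩
        intro h
        apply ha
        have h1 : y • (y ^ k • a) = y ^ k • a := h
        have h2 : y ^ k • (y • a) = y ^ k • a := by
          rw [← mul_smul, (Commute.self_zpow y k).eq.symm, mul_smul]
          exact h1
        exact smul_left_cancel _ h2
      · rw [hcompl, ← index_stabilizer]
        have hyo : orderOf y = r := by
          rcases (Nat.dvd_prime hr).1 (orderOf_dvd_of_pow_eq_one hyr) with h | h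
          · exfalso
            rw [orderOf_eq_one_iff] at h
            apply ha
            rw [mem_fx, h, one_smul]
          · exact h
        have h1 := (stabilizer (zpowers y) a).card_mul_index
        rw [Nat.card_zpowers, hyo] at h1
        rcases (Nat.dvd_prime hr).1 (Dvd.intro_left _ h1) with h | h
        · exfalso
          rw [index_eq_one] at h
          apply ha
          have : (⟨y, mem_zpowers y⟩ : zpowers y) ∈ stabilizer (zpowers y) a := by
            rw [h]; trivial
          exact this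
        · exact h.ge
      · exact Set.toFinite _
    rw [isPretransitive_iff]
    rintro ⟨a, ha⟩ ⟨b, hb⟩
    have ha' : a ∉ fx y := ha
    have hb' : b ∉ fx y := hb
    have : b ∈ orbit (zpowers y) a := by rw [key a ha']; exact hb'
    obtain ⟨⟨_, k, rfl⟩, hk⟩ := this
    exact ⟨⟨y ^ k, hyfix k⟩, Subtype.ext hk⟩
  have hprim : IsPreprimitive (fixingSubgroup G (fx y))
      (SubMulAction.ofFixingSubgroup G (fx y)) := by
    apply IsPreprimitive.of_prime_card
    have : Nat.card (SubMulAction.ofFixingSubgroup G (fx y)) = ((fx y)ᶜ).ncard :=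
      Nat.card_coe_set_eq _
    rw [this, hcompl]
    exact hr
  have h2 : IsMultiplyPreprimitive G (Sylow 5 G) 2 :=
    hpr.is_two_preprimitive (s := fx y) (n := n) hn (by rw [h21]; omega) hprim
  obtain ⟨P⟩ : Nonempty (Sylow 5 G) := inferInstance
  have h3 : IsPreprimitive (fixingSubgroup G ({P} : Set (Sylow 5 G)))
      (SubMulAction.ofFixingSubgroup G ({P} : Set (Sylow 5 G))) :=
    h2.isPreprimitive_ofFixingSubgroup (by rw [Set.encard_singleton]; norm_num)
  set F := fixingSubgroup G ({P} : Set (Sylow 5 G)) with hFdef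
  set X := SubMulAction.ofFixingSubgroup G ({P} : Set (Sylow 5 G)) with hX
  have hFle : F ≤ normalizer ((P : Subgroup G) : Set G) := by
    intro g hg
    rw [hFdef, mem_fixingSubgroup_iff] at hg
    exact Sylow.smul_eq_iff_mem_normalizer.1 (hg P rfl)
  have hPF : (P : Subgroup G) ≤ F := by
    intro g hg
    rw [hFdef, mem_fixingSubgroup_iff]
    rintro _ rfl
    exact Sylow.smul_eq_iff_mem_normalizer.2 (le_normalizer hg)
  have hN : ((P : Subgroup G).subgroupOf F).Normal := by
    rw [← normalizer_eq_top_iff, ← subgroupOf_normalizer_eq hPF]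
    exact subgroupOf_eq_top.2 hFle
  have h4 : IsQuasiPreprimitive F X := IsPreprimitive.isQuasiPreprimitive
  have hXc : Nat.card X = 20 := by
    have : Nat.card X = (({P} : Set (Sylow 5 G))ᶜ).ncard := Nat.card_coe_set_eq _
    rw [this]
    have := Set.ncard_add_ncard_compl ({P} : Set (Sylow 5 G))
    rw [h21, Set.ncard_singleton] at this
    omega
  have hne : fixedPoints ((P : Subgroup G).subgroupOf F) X ≠ Set.univ := by
    intro h
    have hXn : Nonempty X := by
      rw [← Finite.card_pos_iff, hXc]; norm_num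
    obtain ⟨Q, hQ⟩ := hXn
    apply hQ
    have h5 : (⟨Q, hQ⟩ : X) ∈ fixedPoints ((P : Subgroup G).subgroupOf F) X := by rw [h]; trivial
    have h6 : (P : Subgroup G) ≤ Q := by
      intro g hg
      have h7 := h5 ⟨⟨g, hPF hg⟩, by rw [mem_subgroupOf]; exact hg⟩
      have h8 : g • Q = Q := congrArg Subtype.val h7
      exact (fx_iff_mem hg Q).1 h8
    exact Sylow.ext (P.3 Q.2 h6)
  have h5 : IsPretransitive ((P : Subgroup G).subgroupOf F) X := h4.isPretransitive_of_normal hne
  have h6 : Nat.card X ∣ Nat.card ((P : Subgroup G).subgroupOf F) := by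
    have hXn : Nonempty X := by
      rw [← Finite.card_pos_iff, hXc]; norm_num
    obtain ⟨x⟩ := hXn
    rw [← index_stabilizer_of_transitive ((P : Subgroup G).subgroupOf F) x]
    exact index_dvd_card _
  have h7 : Nat.card ((P : Subgroup G).subgroupOf F) = Nat.card P :=
    Nat.card_congr (subgroupOfEquivOfLe hPF).toEquiv
  obtain ⟨k, hk⟩ := IsPGroup.iff_card.1 P.2
  rw [h7, hXc, hk] at h6
  have h8 : 2 ∣ 5 ^ k := (by norm_num : 2 ∣ 20).trans h6
  have := Nat.Prime.dvd_of_dvd_pow Nat.prime_two h8
  norm_num at this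

end Cfsg.Agent.H73.Syl21
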