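import Mathlib
import Cfsg.Agent.H73.Syl21a

/-!
# Twenty-one Sylow 5-subgroups: fixed points of 5-elements (helper73)
-/

set_option autoImplicit false
set_option linter.unusedSectionVars false

namespace Cfsg.Agent.H73.Syl21

open Subgroup MulAction

open scoped Pointwise commutatorElement

variable {G : Type*} [Group G] [Finite G]

theorem fx_eq_fixedPoints (y : G) : fx y = fixedPoints (zpowers y) (Sylow 5 G) := by
  ext Q
  constructor
  · rintro hQ ⟨_, k, rfl⟩
    have : y ∈ stabilizer G Q := hQ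
    exact zpow_mem this k
  · intro h
    exact h ⟨y, mem_zpowers y⟩

theorem ncard_fx_mod {r : ℕ} [Fact r.Prime] (h21 : Nat.card (Sylow 5 G) = 21) {y : G} {k : ℕ}
    (hy : y ^ r ^ k = 1) : 21 ≡ (fx y).ncard [MOD r] := by
  have h1 : IsPGroup r (zpowers y) := by
    rintro ⟨_, ⟨m, rfl⟩⟩
    refine ⟨k, ?_⟩
    ext
    change (y ^ m) ^ r ^ k = 1
    rw [← zpow_natCast, ← zpow_mul, mul_comm, zpow_mul, zpow_natCast, hy, one_zpow]
  have h2 := h1.card_modEq_card_fixedPoints (Sylow 5 G)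
  rw [h21, ← fx_eq_fixedPoints] at h2
  exact h2

theorem ncard_fx_le (h21 : Nat.card (Sylow 5 G) = 21) (y : G) : (fx y).ncard ≤ 21 := by
  rw [← h21]
  have := Set.ncard_add_ncard_compl (fx y)
  omega

theorem eq_one_of_ncard (h21 : Nat.card (Sylow 5 G) = 21)
    (hf : ∀ g : G, (∀ Q : Sylow 5 G, g • Q = Q) → g = 1) {y : G} (hy : (fx y).ncard = 21) :
    y = 1 := by
  apply hf
  have h1 : fx y = Set.univ := by
    apply Set.eq_of_subset_of_ncard_le (Set.subset_univ _)
    rw [Set.ncard_univ, h21, hy]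
  intro Q
  have : Q ∈ fx y := by rw [h1]; trivial
  exact this

theorem ncard_fx_of_orderOf_eleven (h21 : Nat.card (Sylow 5 G) = 21)
    (hf : ∀ g : G, (∀ Q : Sylow 5 G, g • Q = Q) → g = 1) {y : G} (hy : orderOf y = 11) :
    False := by
  have h1 : y ^ 11 = 1 := by rw [← hy]; exact pow_orderOf_eq_one y
  have h2 := ncard_fx_mod (r := 11) (k := 1) h21 (y := y) (by simpa using h1)
  have h3 := ncard_fx_le h21 y
  have h4 : (fx y).ncard ≠ 21 := by
    intro h
    rw [eq_one_of_ncard h21 hf h, orderOf_one] at hy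
    norm_num at hy
  have h5 : (fx y).ncard = 10 := by
    have : 21 % 11 = (fx y).ncard % 11 := h2
    omega
  exact no_cycle h21 (r := 11) (by norm_num) h1 (by omega) (by omega)

/-- If 5-elements of prime order: at most six fixed points. -/
theorem ncard_fx_of_orderOf_five (h21 : Nat.card (Sylow 5 G) = 21)
    (hf : ∀ g : G, (∀ Q : Sylow 5 G, g • Q = Q) → g = 1) {y : G} (hy : orderOf y = 5) :
    (fx y).ncard ≤ 6 := by
  have h1 : y ^ 5 = 1 := by rw [← hy]; exact pow_orderOf_eq_one y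
  have h2 := ncard_fx_mod (r := 5) (k := 1) h21 (y := y) (by simpa using h1)
  have h3 := ncard_fx_le h21 y
  have h4 : (fx y).ncard ≠ 21 := by
    intro h
    rw [eq_one_of_ncard h21 hf h, orderOf_one] at hy
    norm_num at hy
  have h5 : (fx y).ncard ≠ 16 := by
    intro h
    exact no_cycle h21 (r := 5) (by norm_num) h1 (by omega) (by omega)
  have h6 : (fx y).ncard ≠ 11 := by
    intro h
    -- the centralizer acts transitively on the fixed points
    set C : Subgroup G := centralizer {y} with hC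
    have hyP : ∀ Q ∈ fx y, y ∈ Q := by
      intro Q hQ
      obtain ⟨P, hP⟩ := (IsPGroup.of_card (p := 5) (n := 1) (G := zpowers y) (by
        rw [Nat.card_zpowers, hy]; norm_num)).exists_le_sylow
      have hyP : y ∈ P := hP (mem_zpowers y)
      exact (fx_iff_mem hyP Q).1 hQ
    have hle : ∀ Q ∈ fx y, (Q : Subgroup G) ≤ C := by
      intro Q hQ z hz
      rw [hC, mem_centralizer_singleton_iff]
      exact comm_of_faithful h21 hf Q hz (hyP Q hQ)
    have hne : (fx y).Nonempty := by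
      rw [← Set.ncard_pos, h]; norm_num
    obtain ⟨Q0, hQ0⟩ := hne
    have horb : orbit C Q0 = fx y := by
      ext Q
      constructor
      · rintro ⟨⟨c, hc⟩, rfl⟩
        rw [hC, mem_centralizer_singleton_iff] at hc
        change y • (c • Q0) = c • Q0
        rw [← mul_smul, ← hc, mul_smul, hQ0]
      · intro hQ
        obtain ⟨c, hc, e⟩ := exists_smul_eq_of_le C Q0 Q (hle Q0 hQ0) (hle Q hQ)
        exact ⟨⟨c, hc⟩, e⟩
    have h7 : 11 ∣ Nat.card C := by
      have h8 := index_stabilizer C Q0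
      rw [horb, h] at h8
      rw [← h8]
      exact index_dvd_card _
    obtain ⟨u, hu⟩ := exists_prime_orderOf_dvd_card' 11 h7
    exact ncard_fx_of_orderOf_eleven h21 hf (y := (u : G)) (by rw [orderOf_coe, hu])
  have h7 : 21 % 5 = (fx y).ncard % 5 := h2
  omega

theorem ncard_fx_of_mem (h21 : Nat.card (Sylow 5 G) = 21)
    (hf : ∀ g : G, (∀ Q : Sylow 5 G, g • Q = Q) → g = 1) {P : Sylow 5 G} {y : G} (hy : y ∈ P)
    (hy1 : y ≠ 1) : (fx y).ncard ≤ 6 := by
  obtain ⟨k, hk⟩ := Transfer.isPGroup_mem_pow P.2 hy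
  have h5 : 5 ∣ orderOf y := by
    obtain ⟨j, -, hj⟩ := (Nat.dvd_prime_pow (by norm_num : Nat.Prime 5)).1 (orderOf_dvd_of_pow_eq_one hk)
    rw [hj]
    apply dvd_pow_self
    rintro rfl
    rw [pow_zero, orderOf_eq_one_iff] at hj
    exact hy1 hj
  obtain ⟨m, hm⟩ := h5
  have hm0 : m ≠ 0 := by
    rintro rfl
    exact (orderOf_pos y).ne' (by simpa using hm)
  have h1 : orderOf (y ^ m) = 5 := by
    rw [orderOf_pow_of_dvd hm0 ⟨5, by rw [hm]; ring⟩, hm]
    exact Nat.mul_div_cancel _ (Nat.pos_of_ne_zero hm0)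
  refine le_trans (Set.ncard_le_ncard ?_) (ncard_fx_of_orderOf_five h21 hf h1)
  intro Q hQ
  have : y ∈ stabilizer G Q := hQ
  exact pow_mem this m

theorem card_inf (h21 : Nat.card (Sylow 5 G) = 21) {P Q : Sylow 5 G} (hPQ : P ≠ Q) :
    Nat.card ((P : Subgroup G) ⊓ (Q : Subgroup G) : Subgroup G) * 5 = Nat.card P := by
  have h1 := ((Q : Subgroup G).subgroupOf (P : Subgroup G)).card_mul_index
  rw [index_eq_five h21 hPQ] at h1
  rw [← h1]
  congr 1
  rw [inf_comm, ← subgroupOf_map_subtype, card_map_of_injective (subtype_injective _)]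

theorem card_sylow_eq (P Q : Sylow 5 G) : Nat.card P = Nat.card Q := by
  rw [P.card_eq_multiplicity, Q.card_eq_multiplicity]

theorem inf_eq_of_le (h21 : Nat.card (Sylow 5 G) = 21) {P Q R S : Sylow 5 G} (hPQ : P ≠ Q)
    (hRS : R ≠ S) (h : (P : Subgroup G) ⊓ (Q : Subgroup G) ≤ (R : Subgroup G) ⊓ (S : Subgroup G)) :
    (P : Subgroup G) ⊓ (Q : Subgroup G) = (R : Subgroup G) ⊓ (S : Subgroup G) := by
  apply eq_of_le_of_card_ge h
  have h1 := card_inf h21 hPQ
  have h2 := card_inf h21 hRS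
  rw [card_sylow_eq R P] at h2
  omega

/-- The Sylow subgroups containing `P ∩ Q`. -/
theorem ncard_above (h21 : Nat.card (Sylow 5 G) = 21) {P Q : Sylow 5 G} (hPQ : P ≠ Q) :
    6 ≤ {R : Sylow 5 G | (P : Subgroup G) ⊓ (Q : Subgroup G) ≤ R}.ncard := by
  set D := (P : Subgroup G) ⊓ (Q : Subgroup G) with hD
  have hDp : IsPGroup 5 D := P.2.to_le inf_le_left
  have h1 := hDp.card_modEq_card_fixedPoints (Sylow 5 G)
  have h2 : fixedPoints D (Sylow 5 G) = {R : Sylow 5 G | D ≤ R} := by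
    ext R
    exact hDp.sylow_mem_fixedPoints_iff
  rw [h21, h2, Nat.card_coe_set_eq] at h1
  have h3 : 1 < {R : Sylow 5 G | D ≤ R}.ncard := by
    rw [Set.one_lt_ncard]
    exact ⟨P, (inf_le_left : (P : Subgroup G) ⊓ (Q : Subgroup G) ≤ P), Q,
      (inf_le_right : (P : Subgroup G) ⊓ (Q : Subgroup G) ≤ Q), hPQ⟩
  have h4 : 21 % 5 = {R : Sylow 5 G | D ≤ R}.ncard % 5 := h1
  omega

theorem le_of_mem (h21 : Nat.card (Sylow 5 G) = 21)
    (hf : ∀ g : G, (∀ Q : Sylow 5 G, g • Q = Q) → g = 1) {P Q R : Sylow 5 G} (hPQ : P ≠ Q)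
    {y : G} (hyP : y ∈ P) (hyQ : y ∈ Q) (hy1 : y ≠ 1) (hyR : y ∈ R) :
    (P : Subgroup G) ⊓ (Q : Subgroup G) ≤ R ∧
      {R : Sylow 5 G | (P : Subgroup G) ⊓ (Q : Subgroup G) ≤ R}.ncard = 6 := by
  have h1 := ncard_above h21 hPQ
  have h2 := ncard_fx_of_mem h21 hf hyP hy1
  have h3 : {R : Sylow 5 G | (P : Subgroup G) ⊓ (Q : Subgroup G) ≤ R} ⊆ fx y := by
    intro S hS
    exact (fx_iff_mem hyP S).2 (hS ⟨hyP, hyQ⟩)
  have h4 := Set.eq_of_subset_of_ncard_le h3 (h2.trans h1)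
  have h5 : R ∈ fx y := (fx_iff_mem hyP R).2 hyR
  rw [← h4] at h5
  refine ⟨h5, ?_⟩
  rw [← h4] at h2
  omega

theorem card_eq_five (h21 : Nat.card (Sylow 5 G) = 21)
    (hf : ∀ g : G, (∀ Q : Sylow 5 G, g • Q = Q) → g = 1) (P : Sylow 5 G) : Nat.card P = 5 := by
  classical
  have hfin : Fintype (Sylow 5 G) := Fintype.ofFinite _
  by_contra hP
  have hne : ∀ Q R : Sylow 5 G, Q ≠ R → ∃ y : G, y ∈ Q ∧ y ∈ R ∧ y ≠ 1 := by
    intro Q R hQR
    have h1 := card_inf h21 hQR
    have h2 : Nat.card ((Q : Subgroup G) ⊓ (R : Subgroup G) : Subgroup G) ≠ 1 := by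
      intro h
      rw [h, card_sylow_eq Q P] at h1
      omega
    rw [Ne, card_eq_one, eq_bot_iff_forall] at h2
    push Not at h2
    obtain ⟨y, hy, hy1⟩ := h2
    exact ⟨y, hy.1, hy.2, hy1⟩
  have hnt : Nontrivial (Sylow 5 G) := by
    rw [← Finite.one_lt_card_iff_nontrivial, h21]; norm_num
  obtain ⟨Q, hQP⟩ := exists_ne P
  obtain ⟨y, hyP, hyQ, hy1⟩ := hne P Q hQP.symm
  have h6 := (le_of_mem h21 hf hQP.symm hyP hyQ hy1 hyP).2
  set F := {R : Sylow 5 G | (P : Subgroup G) ⊓ (Q : Subgroup G) ≤ R} with hF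
  have hR : ∃ R : Sylow 5 G, R ∉ F := by
    by_contra hc
    push Not at hc
    have : F = Set.univ := Set.eq_univ_of_forall hc
    rw [this, Set.ncard_univ, h21] at h6
    norm_num at h6
  obtain ⟨R, hR⟩ := hR
  have hRS : ∀ S ∈ F, R ≠ S := by
    rintro S hS rfl
    exact hR hS
  let A : Sylow 5 G → Finset (Sylow 5 G) := fun S =>
    Finset.univ.filter fun U => (R : Subgroup G) ⊓ (S : Subgroup G) ≤ U ∧ U ≠ R
  have hA : ∀ S ∈ F, (A S).card = 5 := by
    intro S hS
    obtain ⟨z, hz1, hz2, hz3⟩ := hne R S (hRS S hS)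
    have h7 := (le_of_mem h21 hf (hRS S hS) hz1 hz2 hz3 hz1).2
    have h8 : A S = ({R' : Sylow 5 G | (R : Subgroup G) ⊓ (S : Subgroup G) ≤ R'} : Set _).toFinset.erase R := by
      ext U
      simp only [A, Finset.mem_filter, Finset.mem_univ, true_and, Finset.mem_erase, Set.mem_toFinset,
        Set.mem_ofPred_eq]
      exact and_comm
    rw [h8, Finset.card_erase_of_mem, ← Set.ncard_eq_toFinset_card', h7]
    rw [Set.mem_toFinset]
    exact (inf_le_left : (R : Subgroup G) ⊓ (S : Subgroup G) ≤ R)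
  have hdisj : ∀ S ∈ F.toFinset, ∀ T ∈ F.toFinset, S ≠ T → Disjoint (A S) (A T) := by
    intro S hS T hT hST
    rw [Set.mem_toFinset] at hS hT
    rw [Finset.disjoint_left]
    intro U hU hU'
    simp only [A, Finset.mem_filter, Finset.mem_univ, true_and] at hU hU'
    have e1 : (R : Subgroup G) ⊓ (S : Subgroup G) = (R : Subgroup G) ⊓ (U : Subgroup G) :=
      inf_eq_of_le h21 (hRS S hS) hU.2.symm (le_inf inf_le_left hU.1)
    have e2 : (R : Subgroup G) ⊓ (T : Subgroup G) = (R : Subgroup G) ⊓ (U : Subgroup G) :=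
      inf_eq_of_le h21 (hRS T hT) hU.2.symm (le_inf inf_le_left hU'.1)
    obtain ⟨z, hz1, hz2, hz3⟩ := hne R S (hRS S hS)
    have hzT : z ∈ (R : Subgroup G) ⊓ (T : Subgroup G) := by
      rw [e2, ← e1]
      exact ⟨hz1, hz2⟩
    have e3 : (P : Subgroup G) ⊓ (Q : Subgroup G) = (S : Subgroup G) ⊓ (T : Subgroup G) :=
      inf_eq_of_le h21 hQP.symm hST (le_inf hS hT)
    have hz : z ∈ (P : Subgroup G) ⊓ (Q : Subgroup G) := by
      rw [e3]
      exact ⟨hz2, hzT.2⟩
    exact hR (le_of_mem h21 hf hQP.symm hz.1 hz.2 hz3 hz1).1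
  have h9 : (F.toFinset.biUnion A).card = 30 := by
    rw [Finset.card_biUnion hdisj, Finset.sum_congr rfl (fun S hS => hA S (by simpa using hS)),
      Finset.sum_const, ← Set.ncard_eq_toFinset_card', h6]
    norm_num
  have h10 : (F.toFinset.biUnion A).card ≤ Fintype.card (Sylow 5 G) := Finset.card_le_univ _
  rw [← Nat.card_eq_fintype_card, h21, h9] at h10
  norm_num at h10

end Cfsg.Agent.H73.Syl21
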