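import Mathlib
import Cfsg.Agent.H73.Syl21b
import Cfsg.Agent.H73.OrbAct

/-!
# Twenty-one Sylow 5-subgroups: the action of the normalizer on the four orbits (helper73)
-/

set_option autoImplicit false
set_option linter.unusedSectionVars false

namespace Cfsg.Agent.H73.Syl21

open Subgroup MulAction

open scoped Pointwise commutatorElement

section Fin4

open Equiv

set_option maxRecDepth 100000 in
theorem f4_pow_twelve : ∀ a : Perm (Fin 4), a ^ 12 = 1 := by decide

set_option maxRecDepth 100000 in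
theorem f4_fix : ∀ a : Perm (Fin 4), Perm.sign a = 1 → a ^ 4 = 1 → (∃ i, a i = i) → a = 1 := by
  decide

set_option maxRecDepth 100000 in
theorem f4_sq : ∀ a : Perm (Fin 4), Perm.sign a = 1 → a ^ 4 = 1 → a * a = 1 := by decide

variable {Y : Type*} [Fintype Y] [DecidableEq Y]

theorem pow_four_of_pow {H : Type*} [Group H] {a : H} (h12 : a ^ 12 = 1) {k : ℕ}
    (hk : a ^ 2 ^ k = 1) : a ^ 4 = 1 := by
  have h1 : orderOf a ∣ 12 := orderOf_dvd_of_pow_eq_one h12
  have h2 : orderOf a ∣ 2 ^ k := orderOf_dvd_of_pow_eq_one hk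
  obtain ⟨j, -, hj⟩ := (Nat.dvd_prime_pow Nat.prime_two).1 h2
  have h3 : orderOf a ∣ 4 := by
    rw [hj] at h1 ⊢
    have h4 : j ≤ 2 := by
      by_contra hc
      push Not at hc
      have := (pow_dvd_pow 2 hc).trans h1
      norm_num at this
    exact pow_dvd_pow 2 h4
  exact orderOf_dvd_iff_pow_eq_one.1 h3

theorem y4_pow_twelve (hY : Fintype.card Y = 4) (a : Perm Y) : a ^ 12 = 1 := by
  let e : Y ≃ Fin 4 := Fintype.equivFinOfCardEq hY
  have h := f4_pow_twelve (e.permCongrHom a)
  rw [← map_pow] at h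
  exact (map_eq_one_iff _ e.permCongrHom.injective).1 h

theorem y4_fix (hY : Fintype.card Y = 4) (a : Perm Y) (ha : Perm.sign a = 1) {k : ℕ}
    (hk : a ^ 2 ^ k = 1) (hi : ∃ i, a i = i) : a = 1 := by
  let e : Y ≃ Fin 4 := Fintype.equivFinOfCardEq hY
  have h4 := pow_four_of_pow (y4_pow_twelve hY a) hk
  have h := f4_fix (e.permCongrHom a) (by
    change Perm.sign (e.permCongr a) = 1
    rw [Perm.sign_permCongr, ha]) (by rw [← map_pow, h4, map_one]) (by
    obtain ⟨i, hi⟩ := hi
    refine ⟨e i, ?_⟩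
    change e (a (e.symm (e i))) = e i
    rw [Equiv.symm_apply_apply, hi])
  exact (map_eq_one_iff _ e.permCongrHom.injective).1 h

theorem y4_sq (hY : Fintype.card Y = 4) (a : Perm Y) (ha : Perm.sign a = 1) {k : ℕ}
    (hk : a ^ 2 ^ k = 1) : a * a = 1 := by
  let e : Y ≃ Fin 4 := Fintype.equivFinOfCardEq hY
  have h4 := pow_four_of_pow (y4_pow_twelve hY a) hk
  have h := f4_sq (e.permCongrHom a) (by
    change Perm.sign (e.permCongr a) = 1
    rw [Perm.sign_permCongr, ha]) (by rw [← map_pow, h4, map_one])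
  rw [← map_mul] at h
  exact (map_eq_one_iff _ e.permCongrHom.injective).1 h

end Fin4

variable {G : Type*} [Group G] [Finite G]

/-- The points different from `P`. -/
abbrev XX (P : Sylow 5 G) : SubMulAction (stabilizer G P) (Sylow 5 G) :=
  SubMulAction.ofStabilizer G P

/-- `P` inside the stabilizer of `P`. -/
abbrev PP (P : Sylow 5 G) : Subgroup (stabilizer G P) :=
  (P : Subgroup G).subgroupOf (stabilizer G P)

theorem le_stab (P : Sylow 5 G) : (P : Subgroup G) ≤ stabilizer G P := by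
  rw [Sylow.stabilizer_eq_normalizer]
  exact le_normalizer

instance PP_normal (P : Sylow 5 G) : (PP P).Normal := by
  rw [← normalizer_eq_top_iff, ← subgroupOf_normalizer_eq (le_stab P)]
  apply subgroupOf_eq_top.2
  rw [Sylow.stabilizer_eq_normalizer]
  rfl

theorem card_PP {P : Sylow 5 G} (h5 : Nat.card P = 5) : Nat.card (PP P) = 5 := by
  exact (Nat.card_congr (subgroupOfEquivOfLe (le_stab P)).toEquiv).trans h5

theorem card_XX (h21 : Nat.card (Sylow 5 G) = 21) (P : Sylow 5 G) : Nat.card (XX P) = 20 := by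
  have : Nat.card (XX P) = (({P} : Set (Sylow 5 G))ᶜ).ncard := Nat.card_coe_set_eq _
  rw [this]
  have := Set.ncard_add_ncard_compl ({P} : Set (Sylow 5 G))
  rw [h21, Set.ncard_singleton] at this
  omega

theorem XX_ne {P : Sylow 5 G} (x : XX P) : (x : Sylow 5 G) ≠ P := x.2

theorem semireg (h21 : Nat.card (Sylow 5 G) = 21) {P : Sylow 5 G} (h5 : Nat.card P = 5) :
    ∀ c ∈ PP P, ∀ x : XX P, c • x = x → c = 1 := by
  intro c hc x hx
  have hcP : (c : G) ∈ P := hc
  have h1 : (c : G) • (x : Sylow 5 G) = x := congrArg Subtype.val hx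
  rw [fx_iff_mem hcP] at h1
  have h2 := card_inf h21 (XX_ne x).symm
  rw [h5] at h2
  have h3 : Nat.card ((P : Subgroup G) ⊓ ((x : Sylow 5 G) : Subgroup G) : Subgroup G) = 1 := by
    omega
  rw [card_eq_one] at h3
  have h4 : (c : G) ∈ (P : Subgroup G) ⊓ ((x : Sylow 5 G) : Subgroup G) := ⟨hcP, h1⟩
  rw [h3, mem_bot] at h4
  exact Subtype.ext h4

theorem card_orb (h21 : Nat.card (Sylow 5 G) = 21) {P : Sylow 5 G} (h5 : Nat.card P = 5) :
    Nat.card (OrbAct.Orb (PP P) (XX P)) = 4 := by
  have h := OrbAct.card_orb_mul (PP P) (X := XX P) (semireg h21 h5)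
  rw [card_PP h5, card_XX h21] at h
  omega

/-- The action on the four orbits. -/
noncomputable def sig (P : Sylow 5 G) :
    stabilizer G P →* Equiv.Perm (OrbAct.Orb (PP P) (XX P)) :=
  MulAction.toPermHom _ _

theorem sig_apply {P : Sylow 5 G} (w : stabilizer G P) (o : OrbAct.Orb (PP P) (XX P)) :
    sig P w o = w • o := rfl

theorem eq_top_of_index (hres : ∀ K : Subgroup G, K.Normal → ¬ 5 ∣ K.index → K = ⊤)
    {A : Type*} [Group A] [Finite A] (hA : ¬ 5 ∣ Nat.card A) (f : G →* A) (g : G) : f g = 1 := by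
  have h1 : f.ker = ⊤ := by
    apply hres _ inferInstance
    intro h
    apply hA
    rw [index_ker] at h
    exact h.trans (card_subgroup_dvd_card _)
  rw [← MonoidHom.mem_ker, h1]
  trivial

theorem sign_sig [Fintype (Sylow 5 G)] [DecidableEq (Sylow 5 G)]
    (h21 : Nat.card (Sylow 5 G) = 21)
    (hres : ∀ K : Subgroup G, K.Normal → ¬ 5 ∣ K.index → K = ⊤)
    {P : Sylow 5 G} (h5 : Nat.card P = 5) [Fintype (OrbAct.Orb (PP P) (XX P))]
    [DecidableEq (OrbAct.Orb (PP P) (XX P))] (w : stabilizer G P) :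
    Equiv.Perm.sign (sig P w) = 1 := by
  classical
  have hfX : Fintype (XX P) := Fintype.ofFinite _
  have h1 := OrbAct.sign_eq (PP P) (X := XX P) (semireg h21 h5)
    (by rw [card_PP h5]; decide) (by rw [card_orb h21 h5]; decide) w
  have h2 : Equiv.Perm.sign (MulAction.toPerm (w : G) : Equiv.Perm (Sylow 5 G)) = 1 := by
    have := eq_top_of_index hres (A := ℤˣ) (by
      rw [Nat.card_eq_fintype_card]; decide)
      ((Equiv.Perm.sign (α := Sylow 5 G)).comp (MulAction.toPermHom G (Sylow 5 G))) (w : G)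
    exact this
  have h3 : Equiv.Perm.sign (MulAction.toPerm w : Equiv.Perm (XX P)) =
      Equiv.Perm.sign (MulAction.toPerm (w : G) : Equiv.Perm (Sylow 5 G)) := by
    have hw : ∀ Q : Sylow 5 G, Q ∈ XX P ↔ (MulAction.toPerm (w : G) : Equiv.Perm (Sylow 5 G)) Q ∈ XX P := by
      intro Q
      change Q ≠ P ↔ (w : G) • Q ≠ P
      have hwP : (w : G) • P = P := w.2
      constructor
      · intro h h'
        apply h
        exact smul_left_cancel _ (h'.trans hwP.symm)
      · rintro h rfl
        exact h hwP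
    rw [← Equiv.Perm.sign_subtypePerm (MulAction.toPerm (w : G) : Equiv.Perm (Sylow 5 G))
      (p := fun Q => Q ∈ XX P) (fun Q => (hw Q).symm) (by
        intro Q hQ
        change Q ≠ P
        rintro rfl
        exact hQ w.2)]
    congr!
  change Equiv.Perm.sign (MulAction.toPerm w : Equiv.Perm (OrbAct.Orb (PP P) (XX P))) = 1
  rw [← h1, h3, h2]

/-- Elements centralizing `P` and fixing all four orbits lie in `P`. -/
theorem pow_five_eq_one
    (hf : ∀ g : G, (∀ Q : Sylow 5 G, g • Q = Q) → g = 1) {P : Sylow 5 G} (h5 : Nat.card P = 5)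
    {w : stabilizer G P} (hw : (w : G) ∈ centralizer ((P : Subgroup G) : Set G)) (hs : sig P w = 1) :
    w ^ 5 = 1 := by
  have hw' : ∀ c ∈ PP P, w * c = c * w := by
    intro c hc
    apply Subtype.ext
    exact ((mem_centralizer_iff.1 hw) c hc).symm
  have hfix : ∀ o : OrbAct.Orb (PP P) (XX P), w • o = o := by
    intro o
    rw [← sig_apply, hs]
    rfl
  have hm : ∀ c ∈ PP P, c ^ 5 = 1 := by
    intro c hc
    have h1 : (⟨c, hc⟩ : PP P) ^ Nat.card (PP P) = 1 := pow_card_eq_one'
    rw [card_PP h5] at h1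
    exact congrArg Subtype.val h1
  apply Subtype.ext
  apply hf
  intro Q
  by_cases hQ : Q = P
  · subst hQ
    exact (w ^ 5).2
  · have := OrbAct.pow_smul_eq (PP P) (X := XX P) hw' hfix hm ⟨Q, hQ⟩
    exact congrArg Subtype.val this

theorem mem_P_of_sig
    (hf : ∀ g : G, (∀ Q : Sylow 5 G, g • Q = Q) → g = 1) {P : Sylow 5 G} (h5 : Nat.card P = 5)
    {w : stabilizer G P} {m : ℕ} (hm : Nat.Coprime 5 m) (hwm : w ^ m = 1)
    (hw : (w : G) ∈ centralizer ((P : Subgroup G) : Set G)) (hs : sig P w = 1) :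
    w = 1 := by
  have h1 := pow_five_eq_one hf h5 hw hs
  rw [← orderOf_eq_one_iff]
  exact Nat.eq_one_of_dvd_coprimes hm (orderOf_dvd_of_pow_eq_one h1) (orderOf_dvd_of_pow_eq_one hwm)

/-- The action of the stabilizer on `P`. -/
noncomputable def phi (P : Sylow 5 G) : stabilizer G P →* MulAut (P : Subgroup G) :=
  (normalizerMonoidHom (P : Subgroup G)).comp
    (Subgroup.inclusion (by rw [Sylow.stabilizer_eq_normalizer]; rfl :
      stabilizer G P ≤ normalizer ((P : Subgroup G) : Set G)))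

theorem phi_eq_one_iff {P : Sylow 5 G} (w : stabilizer G P) :
    phi P w = 1 ↔ (w : G) ∈ centralizer ((P : Subgroup G) : Set G) := by
  rw [phi, MonoidHom.comp_apply, ← MonoidHom.mem_ker, normalizerMonoidHom_ker, mem_subgroupOf]
  rfl

theorem card_mulAut {A : Type*} [Group A] [Finite A] {q : ℕ} [Fact q.Prime] (h : Nat.card A = q) :
    Nat.card (MulAut A) = q - 1 ∧ ∀ x y : MulAut A, x * y = y * x := by
  have hc : IsCyclic A := isCyclic_of_prime_card h
  constructor
  · rw [Nat.card_congr (IsCyclic.mulAutMulEquiv A).toEquiv, Nat.card_eq_fintype_card,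
      ZMod.card_units_eq_totient, h, Nat.totient_prime Fact.out]
  · intro x y
    apply (IsCyclic.mulAutMulEquiv A).injective
    rw [map_mul, map_mul, mul_comm]

theorem isCyclic_mulAut {A : Type*} [Group A] [Finite A] {q : ℕ} [hq : Fact q.Prime]
    (h : Nat.card A = q) : IsCyclic (MulAut A) := by
  subst h
  have hc : IsCyclic A := isCyclic_of_prime_card rfl
  have : IsCyclic (ZMod (Nat.card A))ˣ := inferInstance
  exact isCyclic_of_surjective _ (IsCyclic.mulAutMulEquiv A).symm.surjective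

end Cfsg.Agent.H73.Syl21
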