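import Mathlib
import Cfsg.Agent.H17.Basic
import Cfsg.Agent.S0105
import Cfsg.Agent.H34.Sharp3PGL
import Cfsg.Agent.H73.PGLTwo
import Cfsg.Agent.Transfer.NPC

/-!
Simple groups of order 504.
-/

set_option autoImplicit false
set_option linter.unusedSectionVars false

namespace Cfsg.Agent.H73.Ord504

open Subgroup

/-- Count of the elements in a TI union of Sylow subgroups. -/
theorem card_union_sylow {G : Type*} [Group G] [Finite G] {p : ℕ} [Fact p.Prime] {n k : ℕ}
    (hn : Nat.card (Sylow p G) = n) (hk : ∀ P : Sylow p G, Nat.card P = k)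
    (hTI : ∀ (P Q : Sylow p G) (x : G), x ∈ P → x ∈ Q → x ≠ 1 → P = Q) :
    {x : G | x ≠ 1 ∧ ∃ P : Sylow p G, x ∈ P}.ncard = n * (k - 1) := by
  classical
  have : Fintype (Sylow p G) := Fintype.ofFinite _
  have e : (Σ P : Sylow p G, {x : P // x ≠ 1}) ≃ {x : G | x ≠ 1 ∧ ∃ P : Sylow p G, x ∈ P} := by
    refine Equiv.ofBijective (fun z => ⟨(z.2.1 : G), fun h => z.2.2 (Subtype.ext h), z.1, z.2.1.2⟩) ⟨?_, ?_⟩
    · rintro ⟨P, ⟨x, hx⟩, hx1⟩ ⟨Q, ⟨y, hy⟩, hy1⟩ hxy
      have h1 : x = y := congrArg Subtype.val hxy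
      subst h1
      have h2 : P = Q := hTI P Q x hx hy (fun h => hx1 (Subtype.ext h))
      subst h2
      rfl
    · rintro ⟨x, hx1, P, hxP⟩
      exact ⟨⟨P, ⟨x, hxP⟩, fun h => hx1 (congrArg Subtype.val h)⟩, rfl⟩
  rw [← Nat.card_coe_set_eq, ← Nat.card_congr e]
  rw [Nat.card_sigma]
  have : ∀ P : Sylow p G, Nat.card {x : P // x ≠ 1} = k - 1 := by
    intro P
    have h1 : Nat.card P = k := hk P
    have : Fintype P := Fintype.ofFinite P
    rw [Nat.card_eq_fintype_card, Fintype.card_subtype_compl, Fintype.card_subtype_eq,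
      ← Nat.card_eq_fintype_card]
    exact congrArg (· - 1) h1
  simp_rw [this]
  rw [Finset.sum_const, Finset.card_univ, ← Nat.card_eq_fintype_card, hn, smul_eq_mul]

variable {G : Type*} [Group G] [Finite G] [IsSimpleGroup G]

theorem noncomm (h : Nat.card G = 504) : ¬ IsMulCommutative G :=
  H17.not_comm_of_not_prime (by rw [h]; norm_num)

/-- no subgroup of index at most 7 -/
theorem eq_top_of_index (h : Nat.card G = 504) (H : Subgroup G) (hH : H.index ≤ 7) : H = ⊤ := by
  by_contra hne
  have h0 : H.index ≠ 0 := FiniteIndex.index_ne_zero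
  have h1 : H.index ≠ 1 := by rwa [Ne, index_eq_one]
  have h2 := H17.two_mul_dvd_factorial_of_index (noncomm h) H (n := H.index) (N := 504) rfl h1 h
  have h7 : H.index = 7 := by
    generalize H.index = k at *
    interval_cases k <;> first | rfl | omega | (exfalso; revert h2; decide)
  obtain ⟨f, hf⟩ := H17.exists_hom_alternating_fin (noncomm h) H hne 7 h7
  have hA : Nat.card (alternatingGroup (Fin 7)) = 2520 := by
    have h3 := two_mul_nat_card_alternatingGroup (α := Fin 7)
    rw [Nat.card_perm, Nat.card_fin] at h3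
    have h4 : Nat.factorial 7 = 5040 := by decide
    omega
  have hs : IsSimpleGroup (alternatingGroup (Fin 7)) :=
    alternatingGroup.isSimpleGroup (by rw [Nat.card_fin]; norm_num)
  have hnc : ¬ IsMulCommutative (alternatingGroup (Fin 7)) :=
    H17.not_comm_of_not_prime (by rw [hA]; norm_num)
  have h5 : Nat.card f.range = 504 := by
    rw [← h]
    exact (Nat.card_congr (MonoidHom.ofInjective hf).toEquiv).symm
  have h6 := f.range.card_mul_index
  rw [h5, hA] at h6
  have h8 : f.range.index = 5 := by omega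
  have h9 := H17.two_mul_dvd_factorial_of_index hnc f.range (n := 5) (N := 2520) h8 (by norm_num) hA
  revert h9; decide

theorem eq_top_of_card (h : Nat.card G = 504) (H : Subgroup G) (hH : 72 ∣ Nat.card H) : H = ⊤ := by
  apply eq_top_of_index h
  have h1 := H.card_mul_index
  obtain ⟨k, hk⟩ := hH
  rw [hk, h] at h1
  have h0 : k ≠ 0 := by rintro rfl; omega
  have : 1 ≤ k := by omega
  nlinarith

theorem pow_of_mem {p : ℕ} [Fact p.Prime] {P : Sylow p G} {x : G} (hx : x ∈ P) {n : ℕ} (hn : Nat.card P = n) :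
    x ^ n = 1 := by
  have h1 := pow_card_eq_one' (x := (⟨x, hx⟩ : (P : Subgroup G)))
  rw [show Nat.card (P : Subgroup G) = n from hn] at h1
  exact congrArg Subtype.val h1

/-- the action on Sylow subgroups is faithful -/
theorem faithful_sylow (hG : ¬ IsMulCommutative G) {p : ℕ} [Fact p.Prime] (hp : p ∣ Nat.card G) {w : G}
    (hw : ∀ Q : Sylow p G, w • Q = Q) : w = 1 := by
  have h1 : (MulAction.toPermHom G (Sylow p G)).ker = ⊥ := by
    rcases (inferInstance : (MulAction.toPermHom G (Sylow p G)).ker.Normal).eq_bot_or_eq_top with h | h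
    · exact h
    · exfalso
      apply H17.card_sylow_ne_one hG hp
      rw [Nat.card_eq_one_iff_unique]
      refine ⟨⟨fun P Q => ?_⟩, inferInstance⟩
      obtain ⟨g, hg⟩ := MulAction.exists_smul_eq G P Q
      have h2 : g ∈ (MulAction.toPermHom G (Sylow p G)).ker := h ▸ mem_top g
      have h3 : g • P = P := congrArg (fun σ : Equiv.Perm (Sylow p G) => σ P) (MonoidHom.mem_ker.mp h2)
      rw [← hg, h3]
  have h2 : w ∈ (MulAction.toPermHom G (Sylow p G)).ker := by
    rw [MonoidHom.mem_ker]
    ext1 Q
    exact hw Q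
  rwa [h1, mem_bot] at h2

instance fact7 : Fact (Nat.Prime 7) := ⟨by norm_num⟩

theorem card7 (h : Nat.card G = 504) (R : Sylow 7 G) : Nat.card R = 7 := by
  have := H17.card_sylow_eq R (k := 1) (m := 72) (by rw [h]; norm_num) (by norm_num)
  simpa using this

theorem card3 (h : Nat.card G = 504) (R : Sylow 3 G) : Nat.card R = 9 := by
  have := H17.card_sylow_eq R (k := 2) (m := 56) (by rw [h]; norm_num) (by norm_num)
  simpa using this

theorem card2 (h : Nat.card G = 504) (R : Sylow 2 G) : Nat.card R = 8 := by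
  have := H17.card_sylow_eq R (k := 3) (m := 63) (by rw [h]; norm_num) (by norm_num)
  simpa using this

/-- the relative index of the centralizer of a Sylow 7-subgroup -/
theorem rel7 (h : Nat.card G = 504) (R : Sylow 7 G) :
    ∃ r, r ∣ 6 ∧ r ≠ 1 ∧ r * Nat.card (centralizer ((R : Subgroup G) : Set G)) =
      Nat.card (normalizer ((R : Subgroup G) : Set G)) := by
  refine ⟨(centralizer ((R : Subgroup G) : Set G)).relIndex (normalizer ((R : Subgroup G) : Set G)), ?_, ?_, ?_⟩
  · exact H17.relIndex_dvd_of_card_prime (by norm_num) (R : Subgroup G) (card7 h R)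
  · exact H17.relIndex_ne_one (noncomm h) (by rw [h]; norm_num) R
  · exact H17.relIndex_mul_card_of_le (centralizer_le_normalizer _)

/-- The number of Sylow 7-subgroups is 36. -/
theorem n7 (h : Nat.card G = 504) : Nat.card (Sylow 7 G) = 36 := by
  classical
  have h1 := H17.card_sylow_mem (G := G) (p := 7) (k := 1) (m := 72) (by rw [h]; norm_num) (by norm_num)
  have h2 : (Nat.divisors 72).filter (· % 7 = 1) = {1, 8, 36} := by decide
  rw [h2] at h1
  simp only [Finset.mem_insert, Finset.mem_singleton] at h1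
  rcases h1 with h1 | h1 | h1
  · exact absurd h1 (H17.card_sylow_ne_one (noncomm h) (by rw [h]; norm_num))
  · exfalso
    obtain ⟨R⟩ : Nonempty (Sylow 7 G) := inferInstance
    obtain ⟨r, hr6, hr1, hr⟩ := rel7 h R
    have h3 := H17.card_normalizer_mul R
    rw [h1, h] at h3
    have h4 : Nat.card (normalizer ((R : Subgroup G) : Set G)) = 63 := by omega
    rw [h4] at hr
    have hr' : r = 3 := by
      have h5 : r ∈ Nat.divisors 6 := Nat.mem_divisors.mpr ⟨hr6, by norm_num⟩
      have h6 : Nat.divisors 6 = {1, 2, 3, 6} := by decide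
      rw [h6] at h5
      simp only [Finset.mem_insert, Finset.mem_singleton] at h5
      rcases h5 with rfl | rfl | rfl | rfl <;> omega
    have h5 : Nat.card (centralizer ((R : Subgroup G) : Set G)) = 21 := by
      subst hr'; omega
    obtain ⟨⟨u, hu⟩, hu3⟩ := exists_prime_orderOf_dvd_card' (G := centralizer ((R : Subgroup G) : Set G)) 3
      (by rw [h5]; norm_num)
    have hu3' : orderOf u = 3 := by
      rw [← hu3, ← Subgroup.orderOf_coe]
    have hcomm : ∀ x ∈ (R : Subgroup G), x * u = u * x := fun x hx => mem_centralizer_iff.mp hu x hx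
    have huR : u • R = R := by
      rw [Sylow.smul_eq_iff_mem_normalizer]
      exact centralizer_le_normalizer _ hu
    -- another Sylow
    have hnt : Nontrivial (Sylow 7 G) := by
      rw [← Finite.one_lt_card_iff_nontrivial, h1]; norm_num
    obtain ⟨Q, hQ⟩ := exists_ne R
    -- the orbit
    have hnofix : ∀ Q : Sylow 7 G, Q ≠ R → ¬ (R : Subgroup G) ≤ normalizer ((Q : Subgroup G) : Set G) := by
      intro Q hQ hle
      apply hQ
      have h6 : (R : Subgroup G) ⊓ normalizer ((Q : Subgroup G) : Set G) = (R : Subgroup G) ⊓ Q :=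
        R.2.inf_normalizer_sylow Q
      rw [inf_eq_left.mpr hle] at h6
      have h7 : (R : Subgroup G) ≤ Q := by rw [h6]; exact inf_le_right
      exact Sylow.ext (Subgroup.eq_of_le_of_card_ge h7 (by
        rw [show Nat.card (R : Subgroup G) = 7 from card7 h R,
          show Nat.card (Q : Subgroup G) = 7 from card7 h Q])).symm
    have horb : ∀ Q' : Sylow 7 G, Q' ≠ R → ∃ x ∈ (R : Subgroup G), x • Q = Q' := by
      have hcard : (MulAction.orbit R Q).ncard = 7 := by
        have h6 := MulAction.index_stabilizer R Q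
        have h7 : (MulAction.orbit R Q).ncard ∣ Nat.card R := by
          rw [← h6]; exact Subgroup.index_dvd_card _
        rw [card7 h R] at h7
        rcases (Nat.dvd_prime (by norm_num : Nat.Prime 7)).mp h7 with h8 | h8
        · exfalso
          apply hnofix Q hQ
          intro x hx
          refine Sylow.smul_eq_iff_mem_normalizer.mp ?_
          obtain ⟨a, ha⟩ := Set.ncard_eq_one.mp h8
          have h9 : (⟨x, hx⟩ : R) • Q = a := by
            have : (⟨x, hx⟩ : R) • Q ∈ MulAction.orbit R Q := MulAction.mem_orbit _ _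
            rwa [ha] at this
          have h10 : Q = a := by
            have : Q ∈ MulAction.orbit R Q := MulAction.mem_orbit_self _
            rwa [ha] at this
          exact h9.trans h10.symm
        · exact h8
      intro Q' hQ'
      by_contra hcon
      push Not at hcon
      have hsub : (MulAction.orbit R Q : Set (Sylow 7 G)) ⊆ Set.univ \ {R, Q'} := by
        rintro _ ⟨x, rfl⟩
        refine ⟨Set.mem_univ _, ?_⟩
        rintro (h6 | h6)
        · apply hQ
          have h7 : (x : G) • Q = R := h6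
          have h8 : (x : G) • R = R := by
            rw [Sylow.smul_eq_iff_mem_normalizer]
            exact le_normalizer x.2
          exact (MulAction.injective (x : G)) (h7.trans h8.symm)
        · exact hcon x x.2 h6
      have h6 := Set.ncard_le_ncard hsub (Set.toFinite _)
      rw [Set.ncard_sdiff (Set.subset_univ _), Set.ncard_univ, h1, Set.ncard_pair hQ'.symm,
        hcard] at h6
      omega
    have huQ : u • Q ≠ R := by
      intro h6
      rw [← huR] at h6
      exact hQ ((MulAction.injective u) h6)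
    obtain ⟨x, hx, hxQ⟩ := horb _ huQ
    have hw : ∀ Q' : Sylow 7 G, (x⁻¹ * u) • Q' = Q' := by
      intro Q'
      by_cases hQ' : Q' = R
      · rw [hQ', mul_smul, huR, Sylow.smul_eq_iff_mem_normalizer]
        exact le_normalizer (inv_mem hx)
      · obtain ⟨y, hy, hyQ⟩ := horb Q' hQ'
        have hxy : x * y = y * x := by
          have hc : IsCyclic R := isCyclic_of_prime_card (p := 7) (card7 h R)
          have hcc := hc.isMulCommutative
          exact congrArg Subtype.val (hcc.is_comm.comm (⟨x, hx⟩ : R) ⟨y, hy⟩)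
        have h6 : x⁻¹ * u * y = y * (x⁻¹ * u) := by
          have h7 := hcomm y hy
          calc x⁻¹ * u * y = x⁻¹ * (y * u) := by rw [h7]; group
            _ = x⁻¹ * (y * x) * x⁻¹ * u := by group
            _ = x⁻¹ * (x * y) * x⁻¹ * u := by rw [hxy]
            _ = y * (x⁻¹ * u) := by group
        rw [← hyQ, ← mul_smul, h6, mul_smul, mul_smul x⁻¹ u, ← hxQ, inv_smul_smul]
    have h6 := faithful_sylow (noncomm h) (p := 7) (by rw [h]; norm_num) hw
    have h7 : u = x := by
      have : x * (x⁻¹ * u) = x * 1 := by rw [h6]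
      rwa [mul_inv_cancel_left, mul_one] at this
    have h8 : orderOf x ∣ 7 := orderOf_dvd_of_pow_eq_one (pow_of_mem (P := R) hx (card7 h R))
    rw [← h7, hu3'] at h8
    revert h8; norm_num
  · exact h1

theorem cent7 (h : Nat.card G = 504) (R : Sylow 7 G) :
    centralizer ((R : Subgroup G) : Set G) ≤ (R : Subgroup G) := by
  obtain ⟨r, hr6, hr1, hr⟩ := rel7 h R
  have h3 := H17.card_normalizer_mul R
  rw [n7 h, h] at h3
  have h4 : Nat.card (normalizer ((R : Subgroup G) : Set G)) = 14 := by omega
  rw [h4] at hr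
  have hRC : (R : Subgroup G) ≤ centralizer ((R : Subgroup G) : Set G) := by
    have hc : IsCyclic R := isCyclic_of_prime_card (p := 7) (card7 h R)
    have hcc := hc.isMulCommutative
    intro x hx
    rw [mem_centralizer_iff]
    intro y hy
    exact congrArg Subtype.val (hcc.is_comm.comm (⟨y, hy⟩ : R) ⟨x, hx⟩)
  have h5 : Nat.card (centralizer ((R : Subgroup G) : Set G)) = 7 := by
    have h5 : r ∈ Nat.divisors 6 := Nat.mem_divisors.mpr ⟨hr6, by norm_num⟩
    have h6 : Nat.divisors 6 = {1, 2, 3, 6} := by decide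
    rw [h6] at h5
    simp only [Finset.mem_insert, Finset.mem_singleton] at h5
    rcases h5 with rfl | rfl | rfl | rfl <;> omega
  exact (Subgroup.eq_of_le_of_card_ge hRC (by
    rw [h5, show Nat.card (R : Subgroup G) = 7 from card7 h R])).ge

theorem mem_sylow_of_pow {p : ℕ} [Fact p.Prime] {y : G} {k : ℕ} (hy : orderOf y = p ^ k) :
    ∃ P : Sylow p G, y ∈ P := by
  have hz : IsPGroup p (zpowers y) := by
    rw [IsPGroup.iff_card]
    exact ⟨k, by rw [Nat.card_zpowers, hy]⟩
  obtain ⟨P, hP⟩ := hz.exists_le_sylow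
  exact ⟨P, hP (mem_zpowers y)⟩

theorem cent_seven (h : Nat.card G = 504) {x y : G} (hy : orderOf y = 7) (hxy : x * y = y * x) :
    x ^ 7 = 1 := by
  obtain ⟨R, hR⟩ := mem_sylow_of_pow (p := 7) (k := 1) (y := y) (by rw [hy]; norm_num)
  have hRz : zpowers y = (R : Subgroup G) := by
    apply Subgroup.eq_of_le_of_card_ge ((zpowers_le).mpr hR)
    rw [Nat.card_zpowers, hy]
    exact (card7 h R).le
  have hx : x ∈ (R : Subgroup G) := by
    apply cent7 h R
    rw [← hRz, mem_centralizer_iff]
    rintro _ ⟨k, rfl⟩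
    exact ((show Commute x y from hxy).zpow_right k).eq.symm
  have h1 := pow_card_eq_one' (x := (⟨x, hx⟩ : (R : Subgroup G)))
  rw [show Nat.card (R : Subgroup G) = 7 from card7 h R] at h1
  exact congrArg Subtype.val h1

theorem normalizer_index_gt (h : Nat.card G = 504) {p : ℕ} [Fact p.Prime] (hp : p ∣ Nat.card G) :
    7 < Nat.card (Sylow p G) := by
  by_contra hcon
  push Not at hcon
  obtain ⟨P⟩ : Nonempty (Sylow p G) := inferInstance
  rw [P.card_eq_index_normalizer] at hcon
  exact H17.normalizer_ne_top (noncomm h) hp P (eq_top_of_index h _ hcon)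

theorem n3 (h : Nat.card G = 504) : Nat.card (Sylow 3 G) = 28 := by
  have h1 := H17.card_sylow_mem (G := G) (p := 3) (k := 2) (m := 56) (by rw [h]; norm_num) (by norm_num)
  have h2 : (Nat.divisors 56).filter (· % 3 = 1) = {1, 4, 7, 28} := by decide
  rw [h2] at h1
  have h3 := normalizer_index_gt h (p := 3) (by rw [h]; norm_num)
  simp only [Finset.mem_insert, Finset.mem_singleton] at h1
  omega

theorem comm3 (h : Nat.card G = 504) (P : Sylow 3 G) : IsMulCommutative (P : Subgroup G) := by
  have h1 : Nat.card (P : Subgroup G) = 3 ^ 2 := by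
    rw [show Nat.card (P : Subgroup G) = 9 from card3 h P]; norm_num
  have := IsPGroup.isMulCommutative_of_card_eq_prime_sq h1
  exact this

theorem eq_one_of_pows {x : G} {m n : ℕ} (hm : x ^ m = 1) (hn : x ^ n = 1) (hmn : Nat.Coprime m n) : x = 1 := by
  rw [← orderOf_eq_one_iff]
  exact Nat.eq_one_of_dvd_coprimes hmn (orderOf_dvd_of_pow_eq_one hm) (orderOf_dvd_of_pow_eq_one hn)

theorem centralizer_ne_top (h : Nat.card G = 504) {x : G} (hx : x ≠ 1) : centralizer {x} ≠ ⊤ := by
  intro hcon
  have h1 : x ∈ center G := by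
    rw [mem_center_iff]
    intro g
    have : g ∈ centralizer {x} := hcon ▸ mem_top g
    exact (mem_centralizer_iff.mp this x rfl).symm
  rw [H17.center_eq_bot (noncomm h), mem_bot] at h1
  exact hx h1

theorem not_seven_dvd (h : Nat.card G = 504) {x : G} (hx : x ≠ 1) {n : ℕ} (hxn : x ^ n = 1)
    (hn : Nat.Coprime n 7) : ¬ 7 ∣ Nat.card (centralizer {x}) := by
  intro h7
  obtain ⟨⟨y, hy⟩, hy7⟩ := exists_prime_orderOf_dvd_card' (G := centralizer {x}) 7 h7
  rw [← Subgroup.orderOf_coe] at hy7
  have h1 := cent_seven h hy7 (mem_centralizer_iff.mp hy x rfl)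
  exact hx (eq_one_of_pows hxn h1 hn)

theorem ti3 (h : Nat.card G = 504) (P Q : Sylow 3 G) (x : G) (hxP : x ∈ P) (hxQ : x ∈ Q) (hx : x ≠ 1) :
    P = Q := by
  classical
  by_contra hPQ
  have h9 := pow_of_mem hxP (card3 h P)
  have hle : ∀ (P : Sylow 3 G), x ∈ P → (P : Subgroup G) ≤ centralizer {x} := by
    intro P hxP c hc
    have := comm3 h P
    rw [mem_centralizer_iff]
    rintro y rfl
    exact congrArg Subtype.val (this.is_comm.comm (⟨y, hxP⟩ : (P : Subgroup G)) ⟨c, hc⟩)
  have h7 := not_seven_dvd h hx h9 (by norm_num)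
  have hdvd := (centralizer {x}).card_subgroup_dvd_card
  have hPc : Nat.card (P : Subgroup G) = 9 := card3 h P
  have h9d : 9 ∣ Nat.card (centralizer {x}) := by
    rw [← hPc]; exact card_dvd_of_le (hle P hxP)
  obtain ⟨k, hk⟩ := h9d
  have hk8 : k ∣ 8 := by
    rw [hk, h] at hdvd
    rw [hk] at h7
    have h1 : k ∣ 56 := by
      have : 9 * k ∣ 9 * 56 := by simpa using hdvd
      exact Nat.dvd_of_mul_dvd_mul_left (by norm_num) this
    have h2 : Nat.Coprime k 7 := by
      rw [Nat.coprime_comm, Nat.Prime.coprime_iff_not_dvd (by norm_num)]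
      intro h3
      exact h7 (h3.mul_left 9)
    have h3 : k ∣ 8 * 7 := by simpa using h1
    exact h2.dvd_of_dvd_mul_right h3
  have hcC : Nat.card (centralizer {x}) = 3 ^ 2 * k := by rw [hk]; norm_num
  have hk3 : ¬ 3 ∣ k := by
    intro h3
    have := h3.trans hk8
    revert this; norm_num
  let P' : Sylow 3 (centralizer {x}) := P.subtype (hle P hxP)
  let Q' : Sylow 3 (centralizer {x}) := Q.subtype (hle Q hxQ)
  have hPQ' : P' ≠ Q' := fun h1 => hPQ (Sylow.subtype_injective h1)
  have hn1 : Nat.card (Sylow 3 (centralizer {x})) ≠ 1 := by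
    intro h1
    have := (Nat.card_eq_one_iff_unique.mp h1).1
    exact hPQ' (Subsingleton.elim _ _)
  have hnk := H17.card_sylow_dvd (G := centralizer {x}) (p := 3) hcC hk3
  have hnm := H17.card_sylow_mod (G := centralizer {x}) (p := 3)
  have hn4 : Nat.card (Sylow 3 (centralizer {x})) = 4 := by
    have h1 : Nat.card (Sylow 3 (centralizer {x})) ∈ Nat.divisors 8 :=
      Nat.mem_divisors.mpr ⟨hnk.trans hk8, by norm_num⟩
    have h2 : Nat.divisors 8 = {1, 2, 4, 8} := by decide
    rw [h2] at h1
    simp only [Finset.mem_insert, Finset.mem_singleton] at h1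
    omega
  have hk4 : k = 4 := by
    rw [hn4] at hnk
    have h1 : k ∈ Nat.divisors 8 := Nat.mem_divisors.mpr ⟨hk8, by norm_num⟩
    have h2 : Nat.divisors 8 = {1, 2, 4, 8} := by decide
    rw [h2] at h1
    simp only [Finset.mem_insert, Finset.mem_singleton] at h1
    rcases h1 with rfl | rfl | rfl | rfl
    · omega
    · omega
    · rfl
    · exfalso
      apply centralizer_ne_top h hx
      apply eq_top_of_card h
      rw [hk]
  subst hk4
  -- normal complement
  have hP'c : Nat.card P' = 9 := by
    have := H17.card_sylow_eq (G := centralizer {x}) P' hcC hk3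
    simpa using this
  have hNP : normalizer ((P' : Subgroup (centralizer {x})) : Set (centralizer {x})) ≤
      centralizer ((P' : Subgroup (centralizer {x})) : Set (centralizer {x})) := by
    have h1 := H17.card_normalizer_mul P'
    rw [hn4, hcC] at h1
    have h2 : (P' : Subgroup (centralizer {x})) =
        normalizer ((P' : Subgroup (centralizer {x})) : Set (centralizer {x})) := by
      apply Subgroup.eq_of_le_of_card_ge le_normalizer
      rw [show Nat.card (P' : Subgroup (centralizer {x})) = 9 from hP'c]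
      omega
    rw [← h2]
    have h3 : IsMulCommutative (P' : Subgroup (centralizer {x})) :=
      IsPGroup.isMulCommutative_of_card_eq_prime_sq (p := 3)
        (show Nat.card (P' : Subgroup (centralizer {x})) = 3 ^ 2 by
          rw [show Nat.card (P' : Subgroup (centralizer {x})) = 9 from hP'c]; norm_num)
    intro y hy
    rw [mem_centralizer_iff]
    intro z hz
    exact congrArg Subtype.val (h3.is_comm.comm (⟨z, hz⟩ : (P' : Subgroup (centralizer {x}))) ⟨y, hy⟩)
  obtain ⟨P₀, K, hK, hKP⟩ := Transfer.hasNPC_of_normalizer_le_centralizer P' hNP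
  have hKc : Nat.card K = 4 := by
    have h1 := hKP.card_mul_card
    have h2 : Nat.card (P₀ : Subgroup (centralizer {x})) = 9 := by
      have := H17.card_sylow_eq (G := centralizer {x}) P₀ hcC hk3
      simpa using this
    rw [h2, hcC] at h1
    omega
  have hTc : Nat.card (K.map (centralizer {x}).subtype) = 4 := by
    rw [← hKc]
    exact (Nat.card_congr (K.equivMapOfInjective _ (centralizer {x}).subtype_injective).toEquiv).symm
  have hCN : centralizer {x} ≤ normalizer ((K.map (centralizer {x}).subtype : Subgroup G) : Set G) := by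
    intro c hc
    rw [mem_normalizer_iff]
    intro t
    have key : ∀ (c : G) (hc : c ∈ centralizer {x}) (t : G), t ∈ K.map (centralizer {x}).subtype →
        c * t * c⁻¹ ∈ K.map (centralizer {x}).subtype := by
      rintro c hc _ ⟨t, ht, rfl⟩
      exact ⟨⟨c, hc⟩ * t * ⟨c, hc⟩⁻¹, hK.conj_mem t ht _, rfl⟩
    constructor
    · exact key c hc t
    · intro h1
      have := key c⁻¹ (inv_mem hc) _ h1
      rwa [show c⁻¹ * (c * t * c⁻¹) * c⁻¹⁻¹ = t by group] at this
  have hT2 : IsPGroup 2 (K.map (centralizer {x}).subtype) := by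
    rw [IsPGroup.iff_card]; exact ⟨2, by rw [hTc]; norm_num⟩
  obtain ⟨S, hS⟩ := hT2.exists_le_sylow
  have hSN : (S : Subgroup G) ≤ normalizer ((K.map (centralizer {x}).subtype : Subgroup G) : Set G) := by
    rw [← normal_subgroupOf_iff_le_normalizer hS]
    apply normal_of_index_eq_two
    have h1 := H17.relIndex_mul_card_of_le hS
    rw [hTc, show Nat.card (S : Subgroup G) = 8 from card2 h S] at h1
    have : (K.map (centralizer {x}).subtype).relIndex (S : Subgroup G) = 2 := by omega
    exact this
  have h8 : 8 ∣ Nat.card (normalizer ((K.map (centralizer {x}).subtype : Subgroup G) : Set G)) := by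
    rw [← show Nat.card (S : Subgroup G) = 8 from card2 h S]
    exact card_dvd_of_le hSN
  have h36 : 36 ∣ Nat.card (normalizer ((K.map (centralizer {x}).subtype : Subgroup G) : Set G)) := by
    have h1 := card_dvd_of_le hCN
    rw [hcC] at h1
    simpa using h1
  have h72 : 72 ∣ Nat.card (normalizer ((K.map (centralizer {x}).subtype : Subgroup G) : Set G)) := by
    omega
  have hN := eq_top_of_card h _ h72
  rw [normalizer_eq_top_iff] at hN
  rcases hN.eq_bot_or_eq_top with h1 | h1
  · rw [h1, card_bot] at hTc; omega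
  · rw [h1, card_top, h] at hTc; omega

/-- centralizers of nontrivial 3-elements -/
theorem cent3 (h : Nat.card G = 504) (P : Sylow 3 G) {x : G} (hxP : x ∈ P) (hx : x ≠ 1) :
    centralizer {x} ≤ (P : Subgroup G) := by
  have hP9 : Nat.card (P : Subgroup G) = 9 := card3 h P
  have h1 : centralizer {x} ≤ normalizer ((P : Subgroup G) : Set G) := by
    intro c hc
    refine Sylow.smul_eq_iff_mem_normalizer.mp ?_
    apply ti3 h _ _ x _ hxP hx
    have h2 : c * x * c⁻¹ ∈ c • P := by
      rw [Sylow.smul_def]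
      exact Subgroup.smul_mem_pointwise_smul x (MulAut.conj c) (P : Subgroup G) hxP
    have h3 : c * x * c⁻¹ = x := by
      have := mem_centralizer_iff.mp hc x rfl
      rw [← this]; group
    rwa [h3] at h2
  have h2 : (P : Subgroup G) ≤ centralizer {x} := by
    intro c hc
    have := comm3 h P
    rw [mem_centralizer_iff]
    rintro y rfl
    exact congrArg Subtype.val (this.is_comm.comm (⟨y, hxP⟩ : (P : Subgroup G)) ⟨c, hc⟩)
  have h3 := H17.card_normalizer_mul P
  rw [n3 h, h] at h3
  have h4 : Nat.card (normalizer ((P : Subgroup G) : Set G)) = 18 := by omega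
  have h5 := card_dvd_of_le h1
  have h6 := card_dvd_of_le h2
  rw [h4] at h5
  rw [hP9] at h6
  obtain ⟨a, ha⟩ := h6
  rw [ha] at h5
  have h7 : a ∣ 2 := by
    have : 9 * a ∣ 9 * 2 := by simpa using h5
    exact Nat.dvd_of_mul_dvd_mul_left (by norm_num) this
  rcases (Nat.dvd_prime Nat.prime_two).mp h7 with rfl | rfl
  · exact (Subgroup.eq_of_le_of_card_ge h2 (by rw [ha, hP9])).ge
  · exfalso
    have h8 : centralizer {x} = normalizer ((P : Subgroup G) : Set G) :=
      Subgroup.eq_of_le_of_card_ge h1 (by rw [ha, h4])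
    obtain ⟨N, hN, ⟨e⟩⟩ := S0105.result P (comm3 h P)
    have hxm : x ∈ (P : Subgroup G) ⊓ centralizer (normalizer ((P : Subgroup G) : Set G) : Set G) := by
      have h9 : x ∈ centralizer (normalizer ((P : Subgroup G) : Set G) : Set G) := by
        rw [← h8, mem_centralizer_iff]
        intro c hc
        exact (mem_centralizer_iff.mp hc x rfl).symm
      exact ⟨hxP, h9⟩
    rcases hN.eq_bot_or_eq_top with h9 | h9
    · apply noncomm h
      subst h9
      have hcm := comm3 h P
      refine ⟨⟨fun a b => ?_⟩⟩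
      apply (QuotientGroup.quotientBot (G := G)).symm.injective
      apply e.injective
      rw [map_mul, map_mul, map_mul, map_mul]
      generalize e ((QuotientGroup.quotientBot (G := G)).symm a) = u
      generalize e ((QuotientGroup.quotientBot (G := G)).symm b) = v
      have h10 : (u : G) * (v : G) = (v : G) * (u : G) :=
        congrArg Subtype.val (hcm.is_comm.comm (⟨u, u.2.1⟩ : (P : Subgroup G)) ⟨v, v.2.1⟩)
      exact Subtype.ext h10
    · subst h9
      have h10 : Subsingleton (G ⧸ (⊤ : Subgroup G)) := QuotientGroup.subsingleton_quotient_top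
      have h11 := e.symm.injective (Subsingleton.elim (e.symm ⟨x, hxm⟩) (e.symm 1))
      exact hx (congrArg Subtype.val h11)

theorem ti7 (h : Nat.card G = 504) (P Q : Sylow 7 G) (x : G) (hxP : x ∈ P) (hxQ : x ∈ Q) (hx : x ≠ 1) :
    P = Q := by
  have h1 : orderOf x = 7 := by
    have h2 := orderOf_dvd_of_pow_eq_one (pow_of_mem hxP (card7 h P))
    rcases (Nat.dvd_prime (by norm_num : Nat.Prime 7)).mp h2 with h3 | h3
    · exact absurd (orderOf_eq_one_iff.mp h3) hx
    · exact h3
  have key : ∀ P : Sylow 7 G, x ∈ P → zpowers x = (P : Subgroup G) := by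
    intro P hP
    apply Subgroup.eq_of_le_of_card_ge ((zpowers_le).mpr hP)
    rw [Nat.card_zpowers, h1]
    exact (card7 h P).le
  exact Sylow.ext ((key P hxP).symm.trans (key Q hxQ))

/-- union of Sylow `p` minus 1 -/
def A (G : Type*) [Group G] (p : ℕ) : Set G := {x : G | x ≠ 1 ∧ ∃ P : Sylow p G, x ∈ P}

theorem cardA7 (h : Nat.card G = 504) : (A G 7).ncard = 216 :=
  card_union_sylow (n7 h) (card7 h) (ti7 h)

theorem cardA3 (h : Nat.card G = 504) : (A G 3).ncard = 224 :=
  card_union_sylow (n3 h) (card3 h) (ti3 h)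

theorem pow_of_A7 (h : Nat.card G = 504) {x : G} (hx : x ∈ A G 7) : x ^ 7 = 1 := by
  obtain ⟨-, P, hP⟩ := hx
  exact pow_of_mem hP (card7 h P)

theorem pow_of_A3 (h : Nat.card G = 504) {x : G} (hx : x ∈ A G 3) : x ^ 9 = 1 := by
  obtain ⟨-, P, hP⟩ := hx
  exact pow_of_mem hP (card3 h P)

theorem pow_of_A2 (h : Nat.card G = 504) {x : G} (hx : x ∈ A G 2) : x ^ 8 = 1 := by
  obtain ⟨-, P, hP⟩ := hx
  exact pow_of_mem hP (card2 h P)

theorem ncard_A2_le (h : Nat.card G = 504) : (A G 2).ncard ≤ 63 := by
  have h1 : Disjoint (A G 7) (A G 3) := by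
    rw [Set.disjoint_left]
    intro x h7 h3
    exact h7.1 (eq_one_of_pows (pow_of_A7 h h7) (pow_of_A3 h h3) (by norm_num))
  have h2 : Disjoint (A G 7 ∪ A G 3) (A G 2) := by
    rw [Set.disjoint_left]
    rintro x (h7 | h3) h2
    · exact h7.1 (eq_one_of_pows (pow_of_A7 h h7) (pow_of_A2 h h2) (by norm_num))
    · exact h3.1 (eq_one_of_pows (pow_of_A3 h h3) (pow_of_A2 h h2) (by norm_num))
  have h3 : (1 : G) ∉ (A G 7 ∪ A G 3) ∪ A G 2 := by
    rintro ((h3 | h3) | h3) <;> exact h3.1 rfl
  have h4 := Set.ncard_insert_of_notMem h3 (Set.toFinite _)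
  rw [Set.ncard_union_eq h2, Set.ncard_union_eq h1, cardA7 h, cardA3 h] at h4
  have h5 : (insert 1 ((A G 7 ∪ A G 3) ∪ A G 2)).ncard ≤ 504 := by
    rw [← h]; exact Set.ncard_le_card _
  omega

/-- centralizer of a central involution -/
theorem cent_card (h : Nat.card G = 504) (S : Sylow 2 G) {z : G} (hz : z ∈ S) (hz1 : z ≠ 1)
    (hc : (S : Subgroup G) ≤ centralizer {z}) : centralizer {z} = (S : Subgroup G) := by
  have h8 := pow_of_mem hz (card2 h S)
  have h7 := not_seven_dvd h hz1 h8 (by norm_num)
  have h3 : ¬ 3 ∣ Nat.card (centralizer {z}) := by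
    intro h3
    obtain ⟨⟨y, hy⟩, hy3⟩ := exists_prime_orderOf_dvd_card' (G := centralizer {z}) 3 h3
    rw [← Subgroup.orderOf_coe] at hy3
    obtain ⟨P, hP⟩ := mem_sylow_of_pow (p := 3) (k := 1) (y := y) (by rw [hy3]; norm_num)
    have hy1 : y ≠ 1 := by
      rintro rfl
      rw [orderOf_one] at hy3; omega
    have h4 : z ∈ (P : Subgroup G) := by
      apply cent3 h P hP hy1
      rw [mem_centralizer_iff]
      rintro w rfl
      exact (mem_centralizer_iff.mp hy z rfl).symm
    exact hz1 (eq_one_of_pows h8 (pow_of_mem (P := P) h4 (card3 h P)) (by norm_num))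
  have hS8 : Nat.card (S : Subgroup G) = 8 := card2 h S
  have hd : Nat.card (centralizer {z}) ∣ 8 * 63 := by
    have := (centralizer {z}).card_subgroup_dvd_card
    rw [h] at this
    simpa using this
  have hcop : Nat.Coprime (Nat.card (centralizer {z})) 63 := by
    have h63 : (63 : ℕ) = 3 * 3 * 7 := by norm_num
    rw [h63]
    have a3 : Nat.Coprime (Nat.card (centralizer {z})) 3 := by
      rw [Nat.coprime_comm, Nat.Prime.coprime_iff_not_dvd (by norm_num)]; exact h3
    have a7 : Nat.Coprime (Nat.card (centralizer {z})) 7 := by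
      rw [Nat.coprime_comm, Nat.Prime.coprime_iff_not_dvd (by norm_num)]; exact h7
    exact (a3.mul_right a3).mul_right a7
  have h9 := hcop.dvd_of_dvd_mul_right hd
  exact (Subgroup.eq_of_le_of_card_ge hc (by
    rw [hS8]; exact Nat.le_of_dvd (by norm_num) h9)).symm

theorem exists_central (h : Nat.card G = 504) (S : Sylow 2 G) :
    ∃ z : G, z ∈ S ∧ z ^ 2 = 1 ∧ z ≠ 1 ∧ centralizer {z} = (S : Subgroup G) := by
  have hS8 : Nat.card (S : Subgroup G) = 8 := card2 h S
  have hnt : Nontrivial (S : Subgroup G) := by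
    rw [← Finite.one_lt_card_iff_nontrivial, hS8]; norm_num
  have hcn : Nontrivial (center (S : Subgroup G)) := S.2.center_nontrivial
  have h2 : 2 ∣ Nat.card (center (S : Subgroup G)) := by
    have hp : IsPGroup 2 (center (S : Subgroup G)) := S.2.to_subgroup _
    obtain ⟨n, hn⟩ := IsPGroup.iff_card.mp hp
    rw [hn]
    apply dvd_pow_self
    rintro rfl
    rw [pow_zero] at hn
    exact absurd hn (by
      have := Finite.one_lt_card_iff_nontrivial.mpr hcn
      omega)
  obtain ⟨⟨⟨z, hzS⟩, hzc⟩, hz2⟩ := exists_prime_orderOf_dvd_card' (G := center (S : Subgroup G)) 2 h2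
  rw [← Subgroup.orderOf_coe, ← Subgroup.orderOf_coe] at hz2
  have hz1 : z ≠ 1 := by
    rintro rfl
    rw [orderOf_one] at hz2; omega
  refine ⟨z, hzS, ?_, hz1, cent_card h S hzS hz1 ?_⟩
  · rw [← hz2]; exact pow_orderOf_eq_one z
  · intro c hc
    rw [mem_centralizer_iff]
    rintro w rfl
    exact (congrArg Subtype.val (mem_center_iff.mp hzc ⟨c, hc⟩)).symm

/-- all nontrivial 2-elements are conjugate involutions with centralizer of order 8 -/
theorem A2_eq (h : Nat.card G = 504) (S : Sylow 2 G) {z : G} (hz : z ∈ S) (hz1 : z ≠ 1)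
    (hc : centralizer {z} = (S : Subgroup G)) : A G 2 = MulAction.orbit (ConjAct G) z ∧ (A G 2).ncard = 63 := by
  have h1 : (MulAction.orbit (ConjAct G) z).ncard = 63 := by
    have h2 := MulAction.index_stabilizer (ConjAct G) z
    rw [← h2]
    have h3 : (MulAction.stabilizer (ConjAct G) z).index = (centralizer {z}).index := by
      rw [ConjAct.stabilizer_eq_centralizer]
      rfl
    rw [h3, hc]
    exact H17.card_sylow_mul S (k := 3) (m := 63) (by rw [h]; norm_num) (by norm_num)
  have h2 : MulAction.orbit (ConjAct G) z ⊆ A G 2 := by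
    rintro _ ⟨g, rfl⟩
    refine ⟨?_, ConjAct.ofConjAct g • S, ?_⟩
    · intro h3
      apply hz1
      have h4 : ConjAct.ofConjAct g * z * (ConjAct.ofConjAct g)⁻¹ = 1 := h3
      have h5 : z = (ConjAct.ofConjAct g)⁻¹ * (ConjAct.ofConjAct g * z * (ConjAct.ofConjAct g)⁻¹) *
        ConjAct.ofConjAct g := by group
      rw [h5, h4]; group
    · rw [Sylow.smul_def]
      exact Subgroup.smul_mem_pointwise_smul z (MulAut.conj (ConjAct.ofConjAct g)) (S : Subgroup G) hz
  have h3 := Set.eq_of_subset_of_ncard_le h2 (by rw [h1]; exact ncard_A2_le h)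
  exact ⟨h3.symm, by rw [← h3, h1]⟩

theorem sq_one (h : Nat.card G = 504) (T : Sylow 2 G) {x : G} (hx : x ∈ T) : x ^ 2 = 1 := by
  by_cases hx1 : x = 1
  · rw [hx1, one_pow]
  obtain ⟨z, hz, hz2, hz1, hc⟩ := exists_central h T
  have h1 := (A2_eq h T hz hz1 hc).1
  have h2 : x ∈ A G 2 := ⟨hx1, T, hx⟩
  rw [h1] at h2
  obtain ⟨g, rfl⟩ := h2
  show (g • z) ^ 2 = 1
  rw [← smul_pow', hz2, smul_one]

theorem ti2 (h : Nat.card G = 504) (P Q : Sylow 2 G) (x : G) (hxP : x ∈ P) (hxQ : x ∈ Q) (hx : x ≠ 1) :
    P = Q := by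
  have key : ∀ P : Sylow 2 G, x ∈ P → centralizer {x} = (P : Subgroup G) := by
    intro P hxP
    apply cent_card h P hxP hx
    intro c hc
    rw [mem_centralizer_iff]
    rintro w rfl
    have h1 : w * w = 1 := by rw [← pow_two]; exact sq_one h P hxP
    have h2 : c * c = 1 := by rw [← pow_two]; exact sq_one h P hc
    have h3 : (w * c) * (w * c) = 1 := by rw [← pow_two]; exact sq_one h P (mul_mem hxP hc)
    calc w * c = w * c * (c * (w * w) * c) := by rw [h1, mul_one, h2, mul_one]
      _ = (w * (c * c) * w * (w * c)) := by rw [h2]; simp only [mul_one]; rw [h1, one_mul, mul_one, h2, mul_one]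
      _ = c * w := by
        rw [h2, mul_one, h1, one_mul]
        have h4 : w * c * (w * c) * (c * w) = 1 * (c * w) := by rw [h3]
        have h5 : w * c * (w * c) * (c * w) = w * c := by
          calc w * c * (w * c) * (c * w) = w * c * w * (c * c) * w := by group
            _ = w * c * (w * w) := by rw [h2]; group
            _ = w * c := by rw [h1, mul_one]
        rw [h5, one_mul] at h4
        exact h4
  exact Sylow.ext ((key P hxP).symm.trans (key Q hxQ))

theorem n2 (h : Nat.card G = 504) : Nat.card (Sylow 2 G) = 9 := by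
  obtain ⟨S⟩ : Nonempty (Sylow 2 G) := inferInstance
  obtain ⟨z, hz, hz2, hz1, hc⟩ := exists_central h S
  have h1 := (A2_eq h S hz hz1 hc).2
  have h2 : (A G 2).ncard = Nat.card (Sylow 2 G) * (8 - 1) :=
    card_union_sylow rfl (card2 h) (ti2 h)
  omega

theorem sharp (h : Nat.card G = 504) : H34.Sharp3 G (Sylow 2 G) := by
  have hfix : ∀ (g : G) {a b c : Sylow 2 G}, a ≠ b → b ≠ c → a ≠ c → g • a = a → g • b = b → g • c = c →
      g = 1 := by
    intro g a b c hab hbc hac ha hb hc
    by_contra hg
    have ho : orderOf g ≠ 1 := by rwa [Ne, orderOf_eq_one_iff]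
    obtain ⟨q, hq, hqd⟩ := Nat.exists_prime_and_dvd ho
    obtain ⟨k, hk⟩ := hqd
    have hk0 : k ≠ 0 := by
      rintro rfl
      rw [mul_zero] at hk
      exact (orderOf_pos g).ne' hk
    have hy : orderOf (g ^ k) = q := by
      rw [orderOf_pow_of_dvd hk0 ⟨q, by rw [hk, mul_comm]⟩, hk, Nat.mul_div_cancel _ (by omega)]
    have hpow : ∀ P : Sylow 2 G, g • P = P → (g ^ k) • P = P := by
      intro P hP
      exact (MulAction.stabilizer G P).pow_mem hP k
    have hya := hpow a ha
    have hyb := hpow b hb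
    have hyc := hpow c hc
    generalize g ^ k = y at hy hya hyb hyc
    have hq504 : q ∣ 504 := by
      rw [← h, ← hy]; exact orderOf_dvd_natCard y
    have hq3 : q = 2 ∨ q = 3 ∨ q = 7 := by
      have h1 : q ∈ Nat.primeFactors 504 := Nat.mem_primeFactors.mpr ⟨hq, hq504, by norm_num⟩
      have h2 : Nat.primeFactors 504 = {2, 3, 7} := by decide +kernel
      rw [h2] at h1
      simpa using h1
    rcases hq3 with rfl | rfl | rfl
    · have hy1 : y ≠ 1 := by
        rintro rfl
        rw [orderOf_one] at hy; omega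
      have hz : IsPGroup 2 (zpowers y) := by
        rw [IsPGroup.iff_card]
        exact ⟨1, by rw [Nat.card_zpowers, hy]; norm_num⟩
      have key : ∀ P : Sylow 2 G, y • P = P → y ∈ P := by
        intro P hP
        rw [Sylow.smul_eq_iff_mem_normalizer] at hP
        have h1 := hz.inf_normalizer_sylow P
        have h2 : y ∈ zpowers y ⊓ (normalizer (P : Set G)) := ⟨mem_zpowers y, hP⟩
        rw [h1] at h2
        exact h2.2
      exact hab (ti2 h a b y (key a hya) (key b hyb) hy1)
    · rw [Sylow.smul_eq_iff_mem_normalizer] at hya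
      have h1 := orderOf_dvd_natCard (⟨y, hya⟩ : normalizer ((a : Subgroup G) : Set G))
      rw [← Subgroup.orderOf_coe] at h1
      have h2 := H17.card_normalizer_mul a
      rw [n2 h, h] at h2
      have h3 : Nat.card (normalizer ((a : Subgroup G) : Set G)) = 56 := by omega
      rw [h3] at h1
      have h4 : orderOf y ∣ 56 := h1
      rw [hy] at h4
      revert h4; norm_num
    · have hz : IsPGroup 7 (zpowers y) := by
        rw [IsPGroup.iff_card]
        exact ⟨1, by rw [Nat.card_zpowers, hy]; norm_num⟩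
      have h1 := hz.card_modEq_card_fixedPoints (Sylow 2 G)
      rw [n2 h] at h1
      have hmem : ∀ P : Sylow 2 G, y • P = P → P ∈ MulAction.fixedPoints (zpowers y) (Sylow 2 G) := by
        rintro P hP ⟨_, k, rfl⟩
        exact (MulAction.stabilizer G P).zpow_mem hP k
      have h2 : ({a, b, c} : Set (Sylow 2 G)) ⊆ MulAction.fixedPoints (zpowers y) (Sylow 2 G) := by
        rintro P (rfl | rfl | rfl)
        · exact hmem _ hya
        · exact hmem _ hyb
        · exact hmem _ hyc
      have h3 := Set.ncard_le_ncard h2 (Set.toFinite _)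
      rw [Set.ncard_eq_three.mpr ⟨a, b, c, hab, hac, hbc, rfl⟩] at h3
      have h4 : (MulAction.fixedPoints (zpowers y) (Sylow 2 G)).ncard ≤ 9 := by
        rw [← n2 h]; exact Set.ncard_le_card _
      rw [Nat.card_coe_set_eq] at h1
      have h5 : (MulAction.fixedPoints (zpowers y) (Sylow 2 G)).ncard = 9 := by
        have : 9 % 7 = (MulAction.fixedPoints (zpowers y) (Sylow 2 G)).ncard % 7 := h1
        omega
      have h6 : MulAction.fixedPoints (zpowers y) (Sylow 2 G) = Set.univ := by
        apply Set.eq_of_subset_of_ncard_le (Set.subset_univ _)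
        rw [Set.ncard_univ, n2 h, h5]
      have h7 : y = 1 := by
        apply faithful_sylow (noncomm h) (p := 2) (by rw [h]; norm_num)
        intro Q
        have h8 : Q ∈ MulAction.fixedPoints (zpowers y) (Sylow 2 G) := h6 ▸ Set.mem_univ Q
        exact h8 ⟨y, mem_zpowers y⟩
      rw [h7, orderOf_one] at hy
      omega
  have hstab : ∀ x : Fin 3 ↪ Sylow 2 G, MulAction.stabilizer G x = ⊥ := by
    intro x
    rw [eq_bot_iff]
    intro g hg
    have h1 : ∀ i, g • x i = x i := fun i => congrArg (fun y : Fin 3 ↪ Sylow 2 G => y i) hg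
    rw [mem_bot]
    exact hfix g (a := x 0) (b := x 1) (c := x 2) (fun e => absurd (x.injective e) (by decide))
      (fun e => absurd (x.injective e) (by decide)) (fun e => absurd (x.injective e) (by decide))
      (h1 0) (h1 1) (h1 2)
  apply H34.sharp3_of
  · show MulAction.IsPretransitive G (Fin 3 ↪ Sylow 2 G)
    have hcard : Nat.card (Fin 3 ↪ Sylow 2 G) = 504 := by
      have : Fintype (Sylow 2 G) := Fintype.ofFinite _
      rw [Nat.card_eq_fintype_card, Fintype.card_embedding_eq, ← Nat.card_eq_fintype_card (α := Sylow 2 G),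
        n2 h, Fintype.card_fin]
      decide
    constructor
    intro x y
    have hinj : Function.Injective (fun g : G => g • x) := by
      intro g k hgk
      have h1 : k⁻¹ * g ∈ MulAction.stabilizer G x := by
        rw [MulAction.mem_stabilizer_iff, mul_smul]
        have h2 : g • x = k • x := hgk
        rw [h2, inv_smul_smul]
      rw [hstab, mem_bot] at h1
      exact (inv_mul_eq_one.mp h1).symm
    have hbij := (Nat.bijective_iff_injective_and_card (fun g : G => g • x)).mpr ⟨hinj, by rw [h, hcard]⟩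
    exact hbij.2 y
  · exact hstab

theorem result (h : Nat.card G = 504) {F : Type*} [Field F] [Fintype F] (hF : Fintype.card F = 8) :
    Nonempty (G ≃* Matrix.ProjectiveSpecialLinearGroup (Fin 2) F) := by
  have hn := n2 h
  have : Fintype (Sylow 2 G) := Fintype.ofFinite _
  obtain ⟨a, b, c, hab, hac, hbc⟩ : ∃ a b c : Sylow 2 G, a ≠ b ∧ a ≠ c ∧ b ≠ c := by
    rw [← Fintype.two_lt_card_iff, ← Nat.card_eq_fintype_card, hn]; norm_num
  obtain ⟨K, _, _, hK, ⟨e⟩⟩ := (sharp h).iso_pgl_even hab hbc hac (by rw [hn]; decide)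
  rw [hn] at hK
  have hK8 : Fintype.card K = 8 := hK
  obtain ⟨h2, -⟩ := PGLTwo.two_eq_zero_of_even (F := K) (by rw [hK8]; decide)
  obtain ⟨e2⟩ := PGLTwo.nonempty_pgl_sl h2
  obtain ⟨ψ⟩ := H34.psl_transport (FiniteField.ringEquivOfCardEq (hK8.trans hF.symm))
  have e3 : Matrix.SpecialLinearGroup (Fin 2) K ≃* Matrix.ProjectiveSpecialLinearGroup (Fin 2) K :=
    (QuotientGroup.quotientBot (G := Matrix.SpecialLinearGroup (Fin 2) K)).symm.trans
      (QuotientGroup.quotientMulEquivOfEq (PGLTwo.center_sl_eq_bot h2).symm)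
  exact ⟨((e.trans e2).trans e3).trans ψ⟩

end Cfsg.Agent.H73.Ord504
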