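import Mathlib

set_option autoImplicit false

/-! Maschke's theorem for coprime actions on elementary abelian groups, in group form. -/

namespace Cfsg.Agent.H73.Maschke

open Subgroup

theorem exists_isCompl_add {W : Type*} [AddCommGroup W] {p : ℕ} [hp : Fact p.Prime]
    (hW : ∀ x : W, p • x = 0) (U : AddSubgroup W) : ∃ C : AddSubgroup W, IsCompl U C := by
  let inst : Module (ZMod p) W := AddCommGroup.zmodModule (n := p) (G := W) hW
  let e : AddSubgroup W ≃o Submodule (ZMod p) W := AddSubgroup.toZModSubmodule p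
  obtain ⟨C, hC⟩ := Submodule.exists_isCompl (e U)
  refine ⟨e.symm C, ?_⟩
  rw [e.isCompl_iff]
  rwa [e.apply_symm_apply]

/-- The subgroups of an elementary abelian group form a complemented lattice. -/
theorem exists_isCompl {V : Type*} [CommGroup V] {p : ℕ} [Fact p.Prime]
    (hV : ∀ v : V, v ^ p = 1) (U : Subgroup V) : ∃ C : Subgroup V, IsCompl U C := by
  obtain ⟨C, hC⟩ := exists_isCompl_add (W := Additive V) (p := p) (fun x => by
      change Additive.ofMul (Additive.toMul x ^ p) = 0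
      rw [hV]; rfl) (Subgroup.toAddSubgroup U)
  refine ⟨(Subgroup.toAddSubgroup (G := V)).symm C, ?_⟩
  rw [(Subgroup.toAddSubgroup (G := V)).isCompl_iff]
  rwa [OrderIso.apply_symm_apply]

/-- projection onto a subgroup of an elementary abelian group -/
theorem exists_proj {V : Type*} [CommGroup V] {p : ℕ} [Fact p.Prime]
    (hV : ∀ v : V, v ^ p = 1) (U : Subgroup V) : ∃ π : V →* V, (∀ v, π v ∈ U) ∧ ∀ u ∈ U, π u = u := by
  obtain ⟨C, hC⟩ := exists_isCompl hV U
  let f : U × C →* V := MonoidHom.noncommCoprod U.subtype C.subtype (fun x y => mul_comm _ _)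
  have hf : Function.Bijective f := by
    constructor
    · rw [injective_iff_map_eq_one]
      rintro ⟨x, y⟩ hxy
      have h5 : (x : V) * y = 1 := hxy
      have h6 : (x : V) ∈ C := by rw [eq_inv_of_mul_eq_one_left h5]; exact inv_mem y.2
      have h7 : (x : V) = 1 := by
        have := (disjoint_iff_inf_le.1 hC.disjoint) ⟨x.2, h6⟩
        exact this
      rw [h7, one_mul] at h5
      exact Prod.ext (Subtype.ext h7) (Subtype.ext h5)
    · intro g
      have h1 : g ∈ U ⊔ C := by rw [hC.sup_eq_top]; trivial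
      rw [mem_sup] at h1
      obtain ⟨x, hx, y, hy, rfl⟩ := h1
      exact ⟨(⟨x, hx⟩, ⟨y, hy⟩), rfl⟩
  let e := MulEquiv.ofBijective f hf
  refine ⟨U.subtype.comp ((MonoidHom.fst U C).comp e.symm.toMonoidHom), fun v => (e.symm v).1.2, ?_⟩
  intro u hu
  have : e.symm u = (⟨u, hu⟩, 1) := by
    rw [MulEquiv.symm_apply_eq]
    show u = (u : V) * ((1 : C) : V)
    rw [OneMemClass.coe_one, mul_one]
  show (((e.symm u).1 : U) : V) = u
  rw [this]

/-- **Maschke** in group form. -/
theorem exists_inv_compl {V : Type*} [CommGroup V] {A : Type*} [Group A] [Finite A]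
    [MulDistribMulAction A V] {p : ℕ} [hp : Fact p.Prime]
    (hV : ∀ v : V, v ^ p = 1) (hA : ¬ p ∣ Nat.card A) (U : Subgroup V)
    (hU : ∀ a : A, ∀ u ∈ U, a • u ∈ U) :
    ∃ W : Subgroup V, (∀ a : A, ∀ w ∈ W, a • w ∈ W) ∧ U ⊓ W = ⊥ ∧ U ⊔ W = ⊤ := by
  classical
  have := Fintype.ofFinite A
  obtain ⟨π, hπ1, hπ2⟩ := exists_proj hV U
  -- inverse of |A| modulo p
  obtain ⟨m, hm⟩ : ∃ m : ℕ, (Nat.card A * m) % p = 1 := by
    have hcop : (Nat.card A).Coprime p := ((Nat.Prime.coprime_iff_not_dvd hp.out).2 hA).symm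
    obtain ⟨m, hm⟩ := Nat.exists_mul_mod_eq_one_of_coprime hcop hp.out.one_lt
    exact ⟨m, hm.2⟩
  let S : V →* V := ∏ a : A, ((MulDistribMulAction.toMonoidHom V a).comp π).comp (MulDistribMulAction.toMonoidHom V a⁻¹)
  have hS : ∀ v, S v = ∏ a : A, a • π (a⁻¹ • v) := by
    intro v
    simp only [S, MonoidHom.finsetProd_apply]
    rfl
  have hSU : ∀ v, S v ∈ U := by
    intro v
    rw [hS]
    exact Subgroup.prod_mem _ (fun a _ => hU a _ (hπ1 _))
  have hSu : ∀ u ∈ U, S u = u ^ Nat.card A := by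
    intro u hu
    rw [hS]
    have : ∀ a : A, a • π (a⁻¹ • u) = u := by
      intro a
      rw [hπ2 _ (hU a⁻¹ u hu), smul_inv_smul]
    simp only [this, Finset.prod_const, Finset.card_univ, Nat.card_eq_fintype_card]
  have hSa : ∀ (b : A) (v : V), S (b • v) = b • S v := by
    intro b v
    rw [hS, hS, Finset.smul_prod']
    rw [← Equiv.prod_comp (Equiv.mulLeft b)]
    refine Finset.prod_congr rfl fun a _ => ?_
    simp only [Equiv.coe_mulLeft, mul_inv_rev, mul_smul, inv_smul_smul]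
  have hpow : ∀ v : V, v ^ (Nat.card A * m) = v := by
    intro v
    rw [← Nat.mod_add_div (Nat.card A * m) p, hm, pow_add, pow_mul, hV, one_pow, mul_one, pow_one]
  refine ⟨S.ker, ?_, ?_, ?_⟩
  · intro a w hw
    rw [MonoidHom.mem_ker] at hw ⊢
    rw [hSa, hw, smul_one]
  · rw [eq_bot_iff]
    rintro u ⟨hu, hk⟩
    have hk : S u = 1 := hk
    rw [hSu u hu] at hk
    rw [mem_bot, ← hpow u, pow_mul, hk, one_pow]
  · rw [eq_top_iff]
    intro v _
    have h1 : (S v) ^ m ∈ U := pow_mem (hSU v) m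
    have h2 : v * ((S v) ^ m)⁻¹ ∈ S.ker := by
      rw [MonoidHom.mem_ker, map_mul, map_inv, map_pow, hSu _ (hSU v), ← pow_mul, hpow, mul_inv_cancel]
    have h3 : v = (S v) ^ m * (v * ((S v) ^ m)⁻¹) := by
      rw [mul_comm v, mul_inv_cancel_left]
    rw [h3]
    exact mul_mem (mem_sup_left h1) (mem_sup_right h2)

/-- the action on a quotient by an invariant normal subgroup -/
noncomputable def quotAct {G A : Type*} [Group G] [Group A] [MulDistribMulAction A G] (N : Subgroup G) [N.Normal]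
    (hN : ∀ a : A, ∀ x ∈ N, a • x ∈ N) : A →* MulAut (G ⧸ N) where
  toFun a := QuotientGroup.congr N N (MulDistribMulAction.toMulEquiv G a) (by
    ext x
    constructor
    · rintro ⟨y, hy, rfl⟩
      exact hN a y hy
    · intro hx
      exact ⟨a⁻¹ • x, hN _ _ hx, smul_inv_smul a x⟩)
  map_one' := by
    ext x
    obtain ⟨y, rfl⟩ := QuotientGroup.mk'_surjective N x
    show (((1 : A) • y : G) : G ⧸ N) = (y : G ⧸ N)
    rw [one_smul]
  map_mul' a b := by
    ext x
    obtain ⟨y, rfl⟩ := QuotientGroup.mk'_surjective N x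
    show (((a * b : A) • y : G) : G ⧸ N) = ((a • b • y : G) : G ⧸ N)
    rw [mul_smul]

theorem quotAct_apply {G A : Type*} [Group G] [Group A] [MulDistribMulAction A G] (N : Subgroup G) [N.Normal]
    (hN : ∀ a : A, ∀ x ∈ N, a • x ∈ N) (a : A) (x : G) :
    quotAct N hN a (QuotientGroup.mk' N x) = QuotientGroup.mk' N (a • x) := rfl

theorem exists_inv_compl' {V : Type*} [CommGroup V] {A : Type*} [Group A] [Finite A]
    (φ : A →* MulAut V) {p : ℕ} [hp : Fact p.Prime]
    (hV : ∀ v : V, v ^ p = 1) (hA : ¬ p ∣ Nat.card A) (U : Subgroup V)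
    (hU : ∀ a : A, ∀ u ∈ U, φ a u ∈ U) :
    ∃ W : Subgroup V, (∀ a : A, ∀ w ∈ W, φ a w ∈ W) ∧ U ⊓ W = ⊥ ∧ U ⊔ W = ⊤ := by
  let _ : MulDistribMulAction A V := MulDistribMulAction.compHom V φ
  exact exists_inv_compl hV hA U hU

/-- relative version of Maschke's theorem -/
theorem exists_inv_compl_rel {G A : Type*} [Group G] [Group A] [Finite A] [MulDistribMulAction A G]
    {p : ℕ} [hp : Fact p.Prime] (N : Subgroup G) [N.Normal]
    (hN : ∀ a : A, ∀ x ∈ N, a • x ∈ N) (hcomm : commutator G ≤ N) (hpow : ∀ g : G, g ^ p ∈ N)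
    (hA : ¬ p ∣ Nat.card A) (L : Subgroup G) (hNL : N ≤ L) (hL : ∀ a : A, ∀ x ∈ L, a • x ∈ L) :
    ∃ K : Subgroup G, N ≤ K ∧ (∀ a : A, ∀ x ∈ K, a • x ∈ K) ∧ L ⊓ K = N ∧ L ⊔ K = ⊤ := by
  let _ : CommGroup (G ⧸ N) :=
    { (inferInstance : Group (G ⧸ N)) with
      mul_comm := ((Subgroup.Normal.quotient_commutative_iff_commutator_le).mpr hcomm).is_comm.comm }
  obtain ⟨W, hW, h1, h2⟩ := exists_inv_compl' (p := p) (quotAct N hN) (by
    intro v
    obtain ⟨y, rfl⟩ := QuotientGroup.mk'_surjective N v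
    rw [← map_pow, QuotientGroup.mk'_apply, QuotientGroup.eq_one_iff]
    exact hpow y) hA (L.map (QuotientGroup.mk' N)) (by
    rintro a _ ⟨x, hx, rfl⟩
    exact ⟨a • x, hL a x hx, rfl⟩)
  have hker : (QuotientGroup.mk' N).ker = N := QuotientGroup.ker_mk' N
  have hLc : (L.map (QuotientGroup.mk' N)).comap (QuotientGroup.mk' N) = L := by
    rw [comap_map_eq, hker, sup_eq_left.2 hNL]
  refine ⟨W.comap (QuotientGroup.mk' N), ?_, ?_, ?_, ?_⟩
  · intro x hx
    rw [mem_comap, QuotientGroup.mk'_apply, (QuotientGroup.eq_one_iff x).2 hx]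
    exact one_mem _
  · intro a x hx
    exact hW a _ hx
  · have := congrArg (Subgroup.comap (QuotientGroup.mk' N)) h1
    rw [comap_inf, hLc] at this
    rw [this]
    exact hker
  · have h3 : (L ⊔ W.comap (QuotientGroup.mk' N)).map (QuotientGroup.mk' N) = ⊤ := by
      rw [Subgroup.map_sup, map_comap_eq_self_of_surjective (QuotientGroup.mk'_surjective N), h2]
    have h4 := congrArg (Subgroup.comap (QuotientGroup.mk' N)) h3
    rw [comap_map_eq, hker, comap_top] at h4
    rw [← h4]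
    exact (sup_eq_left.2 (hNL.trans le_sup_left)).symm

end Cfsg.Agent.H73.Maschke
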