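import Mathlib
import Cfsg.Agent.H73.Maschke
import Cfsg.Agent.Cop.Basic

/-!
# Prime-power automorphisms of `p`-groups of rank at most two (helper73)
-/

set_option autoImplicit false

namespace Cfsg.Agent.H73.ActRank

open Subgroup MulAction

/-- An `r`-group acting nontrivially on a group of order dividing `p ^ 2`: `r ∣ p ^ 2 - 1`. -/
theorem dvd_of_act {V A : Type*} [Group V] [Finite V] [Group A] [Finite A] (φ : A →* MulAut V)
    {p r : ℕ} [hp : Fact p.Prime] [hr : Fact r.Prime] (hpr : r ≠ p) (hV : Nat.card V ∣ p ^ 2)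
    (hA : IsPGroup r A) (hne : ∃ a : A, ∃ v : V, φ a v ≠ v) : r ∣ p ^ 2 - 1 := by
  let _ : MulDistribMulAction A V := MulDistribMulAction.compHom V φ
  have h1 := hA.card_modEq_card_fixedPoints V
  let F : Subgroup V := FixedPoints.subgroup A V
  have hF : Nat.card (fixedPoints A V) = Nat.card F := rfl
  rw [hF] at h1
  obtain ⟨d, hd, hd'⟩ := (Nat.dvd_prime_pow hp.out).1 hV
  have h2 : Nat.card F ∣ p ^ d := hd' ▸ card_subgroup_dvd_card F
  obtain ⟨e, he, he'⟩ := (Nat.dvd_prime_pow hp.out).1 h2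
  have hlt : e ≠ d := by
    intro h
    have h3 : F = ⊤ := eq_top_of_card_eq F (by rw [he', hd', h])
    obtain ⟨a, v, hav⟩ := hne
    apply hav
    have : v ∈ F := by rw [h3]; trivial
    exact this a
  rw [hd', he'] at h1
  have h3 : r ∣ p ^ d - p ^ e := (Nat.modEq_iff_dvd' (Nat.pow_le_pow_right hp.out.pos he)).1 h1.symm
  have h4 : p ^ d - p ^ e = p ^ e * (p ^ (d - e) - 1) := by
    rw [Nat.mul_sub, ← pow_add, mul_one]
    congr 2
    omega
  rw [h4] at h3
  have h5 : r ∣ p ^ (d - e) - 1 := by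
    refine (Nat.Coprime.dvd_mul_left ?_).1 h3
    exact ((Nat.coprime_primes hr.out hp.out).2 hpr).pow_right e
  have h6 : d - e = 1 ∨ d - e = 2 := by omega
  rcases h6 with h | h
  · rw [h, pow_one] at h5
    have : p ^ 2 - 1 = (p + 1) * (p - 1) := by
      rw [← Nat.sq_sub_sq]
    rw [this]
    exact h5.mul_left _
  · rwa [h] at h5

/-- A cyclic `r`-subgroup normalizing and not centralizing a `p`-subgroup whose Frattini quotient has order at
most `p ^ 2`. -/
theorem dvd_of_normalizes {G : Type*} [Group G] [Finite G] {p r : ℕ} [hp : Fact p.Prime]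
    [hr : Fact r.Prime] (hpr : r ≠ p) {Q A : Subgroup G} (hQ : IsPGroup p Q) (hA : IsPGroup r A)
    (hAQ : A ≤ normalizer (Q : Set G)) (hQi : (frattini Q).index ≤ p ^ 2)
    (hne : ¬ A ≤ centralizer (Q : Set G)) : r ∣ p ^ 2 - 1 := by
  obtain ⟨k, hk⟩ := IsPGroup.iff_card.1 hA
  obtain ⟨j, hj⟩ := IsPGroup.iff_card.1 (hQ.to_subgroup (frattini Q))
  have hcop : (Nat.card A).Coprime (Nat.card (frattini Q)) := by
    rw [hk, hj]
    exact Nat.Coprime.pow _ _ ((Nat.coprime_primes hr.out hp.out).2 hpr)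
  have h1 : ¬ ∀ a ∈ A, ∀ k ∈ Q, a * k * a⁻¹ * k⁻¹ ∈ (frattini Q).map Q.subtype := fun h =>
    hne (Cop.le_centralizer_of_frattini hAQ hcop h)
  push Not at h1
  obtain ⟨a, ha, x, hx, hax⟩ := h1
  let φ : A →* MulAut Q := (normalizerMonoidHom Q).comp (inclusion hAQ)
  let _ : MulDistribMulAction A Q := MulDistribMulAction.compHom Q φ
  have hact : ∀ (b : A) (q : Q), ((b • q : Q) : G) = b * q * (b : G)⁻¹ := fun b q => rfl
  have hchar : ∀ (b : A), ∀ q ∈ frattini Q, b • q ∈ frattini Q := by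
    intro b q hq
    have h2 : (frattini Q).map (φ b).toMonoidHom = frattini Q :=
      characteristic_iff_map_eq.1 inferInstance (φ b)
    rw [← h2]
    exact ⟨q, hq, rfl⟩
  refine dvd_of_act (Maschke.quotAct (frattini Q) hchar) hpr ?_ hA ⟨⟨a, ha⟩, QuotientGroup.mk' _ ⟨x, hx⟩, ?_⟩
  · obtain ⟨m, hm⟩ := hQ.index (frattini Q)
    rw [← index_eq_card, hm]
    apply pow_dvd_pow
    rw [hm] at hQi
    exact (Nat.pow_le_pow_iff_right hp.out.one_lt).1 hQi
  · intro h
    apply hax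
    rw [Maschke.quotAct_apply, QuotientGroup.mk'_apply, QuotientGroup.mk'_apply] at h
    have h2 : (⟨a, ha⟩ : A) • (⟨x, hx⟩ : Q) * (⟨x, hx⟩ : Q)⁻¹ ∈ frattini Q := by
      rw [← QuotientGroup.eq_one_iff, QuotientGroup.mk_mul, h, QuotientGroup.mk_inv, mul_inv_cancel]
    exact ⟨_, h2, rfl⟩

end Cfsg.Agent.H73.ActRank
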