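import Mathlib
import Cfsg.Prelude.Def_Local
import Cfsg.Agent.H17.Basic

/-!
Pointwise stabilizers in alternating groups are standard subgroups.
-/

set_option autoImplicit false
set_option linter.unusedSectionVars false

namespace Cfsg.Agent.H73.AltStd

open scoped Pointwise
open Cfsg Equiv

theorem isQuasisimple_of_simple {H : Type*} [Group H] [IsSimpleGroup H]
    (hH : ¬ IsMulCommutative H) : IsQuasisimple H := by
  have hc : Subgroup.center H = ⊥ := H17.center_eq_bot hH
  refine ⟨?_, ?_⟩
  · exact ⟨H17.commutator_eq_top hH⟩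
  · have e : H ⧸ Subgroup.center H ≃* H :=
      (QuotientGroup.quotientMulEquivOfEq hc).trans QuotientGroup.quotientBot
    have := e.toEquiv.nontrivial
    exact IsSimpleGroup.isSimpleGroup_of_surjective e.symm.toMonoidHom e.symm.surjective

variable {α : Type} [Fintype α] [DecidableEq α]

/-- even permutations supported in `s` -/
abbrev A (s : Finset α) : Subgroup (alternatingGroup α) := (alternatingGroup.ofSubtype s).range

theorem mem_A {s : Finset α} {k : alternatingGroup α} :
    k ∈ A s ↔ ∀ x, x ∉ s → (k : Perm α) x = x := by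
  rw [alternatingGroup.mem_range_ofSubtype_iff]
  constructor
  · intro h x hx
    by_contra hne
    exact hx (h (Perm.mem_support.mpr hne))
  · intro h x hx
    by_contra hne
    exact (Perm.mem_support.mp hx) (h x hne)

/-- an explicit even permutation -/
def cyc {x b c : α} (hb : x ≠ b) (hc : x ≠ c) : alternatingGroup α :=
  ⟨swap x b * swap x c, by
    rw [Perm.mem_alternatingGroup, map_mul, Perm.sign_swap hb, Perm.sign_swap hc]; rfl⟩

theorem cyc_apply {x b c : α} (hb : x ≠ b) (hc : x ≠ c) (hbc : b ≠ c) :
    (cyc hb hc : Perm α) x = c := by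
  show swap x b (swap x c x) = c
  rw [swap_apply_left, swap_apply_of_ne_of_ne hc.symm hbc.symm]

theorem cyc_of {x b c : α} (hb : x ≠ b) (hc : x ≠ c) {y : α}
    (h1 : y ≠ x) (h2 : y ≠ b) (h3 : y ≠ c) : (cyc hb hc : Perm α) y = y := by
  show swap x b (swap x c y) = y
  rw [swap_apply_of_ne_of_ne h1 h3, swap_apply_of_ne_of_ne h1 h2]

theorem cyc_mem {s : Finset α} {x b c : α} (hb : x ≠ b) (hc : x ≠ c) (hx : x ∈ s) (hbs : b ∈ s)
    (hcs : c ∈ s) : cyc hb hc ∈ A s := by
  rw [mem_A]
  intro y hy
  exact cyc_of hb hc (fun h => hy (h ▸ hx)) (fun h => hy (h ▸ hbs)) (fun h => hy (h ▸ hcs))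

theorem exists_three {s : Finset α} (hs : 4 ≤ s.card) {x : α} (hx : x ∈ s) :
    ∃ b ∈ s, ∃ c ∈ s, ∃ d ∈ s, x ≠ b ∧ x ≠ c ∧ x ≠ d ∧ b ≠ c ∧ b ≠ d ∧ c ≠ d := by
  have h1 : 3 ≤ (s.erase x).card := by rw [Finset.card_erase_of_mem hx]; omega
  obtain ⟨t, ht, ht3⟩ := Finset.exists_subset_card_eq h1
  obtain ⟨b, c, d, hbc, hbd, hcd, rfl⟩ := Finset.card_eq_three.mp ht3
  have hb := ht (by simp : b ∈ ({b, c, d} : Finset α))
  have hc := ht (by simp : c ∈ ({b, c, d} : Finset α))
  have hd := ht (by simp : d ∈ ({b, c, d} : Finset α))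
  rw [Finset.mem_erase] at hb hc hd
  exact ⟨b, hb.2, c, hc.2, d, hd.2, hb.1.symm, hc.1.symm, hd.1.symm, hbc, hbd, hcd⟩

theorem centralizer_A {s : Finset α} (hs : 4 ≤ s.card) :
    Subgroup.centralizer (A s : Set (alternatingGroup α)) = A sᶜ := by
  ext σ
  rw [mem_A, Subgroup.mem_centralizer_iff]
  constructor
  · intro h x hx
    have hx' : x ∈ s := by
      by_contra hn
      exact hx (Finset.mem_compl.mpr hn)
    obtain ⟨b, hb, c, hc, d, hd, xb, xc, xd, bc, bd, cd⟩ := exists_three hs hx'
    have key : ∀ u v : α, u ∈ s → v ∈ s → (hu : x ≠ u) → (hv : x ≠ v) → u ≠ v →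
        (σ : Perm α) x = x ∨ (σ : Perm α) x = u ∨ (σ : Perm α) x = v := by
      intro u v hus hvs hu hv huv
      have h1 := h (cyc hu hv) (cyc_mem hu hv hx' hus hvs)
      have h2 : (cyc hu hv : Perm α) ((σ : Perm α) x) = (σ : Perm α) ((cyc hu hv : Perm α) x) :=
        congrArg (fun k : alternatingGroup α => (k : Perm α) x) h1
      rw [cyc_apply hu hv huv] at h2
      by_contra hcon
      push Not at hcon
      rw [cyc_of hu hv hcon.1 hcon.2.1 hcon.2.2] at h2
      exact hv ((σ : Perm α).injective h2)
    rcases key b c hb hc xb xc bc with h1 | h1 | h1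
    · exact h1
    · rcases key c d hc hd xc xd cd with h2 | h2 | h2
      · exact h2
      · exact absurd (h1.symm.trans h2) bc
      · exact absurd (h1.symm.trans h2) bd
    · rcases key b d hb hd xb xd bd with h2 | h2 | h2
      · exact h2
      · exact absurd (h1.symm.trans h2) bc.symm
      · exact absurd (h1.symm.trans h2) cd
  · intro h τ hτ
    have hτ' := mem_A.mp hτ
    apply Subtype.ext
    have h1 : Perm.Disjoint (τ : Perm α) (σ : Perm α) := by
      intro x
      by_cases hx : x ∈ s
      · exact Or.inr (h x (by rw [Finset.mem_compl, not_not]; exact hx))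
      · exact Or.inl (hτ' x hx)
    exact h1.commute

theorem A_le {s t : Finset α} (hs : 3 ≤ s.card) : A s ≤ A t ↔ s ⊆ t := by
  constructor
  · intro h x hx
    have h1 : 2 ≤ (s.erase x).card := by rw [Finset.card_erase_of_mem hx]; omega
    obtain ⟨u, hu, hu2⟩ := Finset.exists_subset_card_eq h1
    obtain ⟨b, c, hbc, rfl⟩ := Finset.card_eq_two.mp hu2
    have hb := hu (by simp : b ∈ ({b, c} : Finset α))
    have hc := hu (by simp : c ∈ ({b, c} : Finset α))
    rw [Finset.mem_erase] at hb hc
    by_contra hxt
    have h2 := mem_A.mp (h (cyc_mem hb.1.symm hc.1.symm hx hb.2 hc.2)) x hxt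
    rw [cyc_apply _ _ hbc] at h2
    exact hc.1 h2
  · intro h k hk
    rw [mem_A] at hk ⊢
    intro x hx
    exact hk x (fun hs => hx (h hs))

theorem A_inf (s t : Finset α) : A s ⊓ A t = A (s ∩ t) := by
  ext k
  rw [Subgroup.mem_inf, mem_A, mem_A, mem_A]
  constructor
  · rintro ⟨h1, h2⟩ x hx
    rw [Finset.mem_inter] at hx
    by_cases hxs : x ∈ s
    · exact h2 x (fun ht => hx ⟨hxs, ht⟩)
    · exact h1 x hxs
  · intro h
    exact ⟨fun x hx => h x (fun hm => hx (Finset.mem_inter.mp hm).1),
      fun x hx => h x (fun hm => hx (Finset.mem_inter.mp hm).2)⟩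

theorem map_conj (s : Finset α) (g : alternatingGroup α) :
    (A s).map (MulAut.conj g).toMonoidHom = A (g • s) :=
  alternatingGroup.conj_smul_range_ofSubtype s g

theorem mem_normalizer_A {s : Finset α} (hs : 3 ≤ s.card) (g : alternatingGroup α) :
    g ∈ Subgroup.normalizer (A s : Set (alternatingGroup α)) ↔ g • s = s := by
  have h0 : g ∈ Subgroup.normalizer (A s : Set (alternatingGroup α)) ↔
      (A s).map (MulAut.conj g).toMonoidHom = A s := by
    rw [Subgroup.mem_normalizer_iff]
    constructor
    · intro h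
      ext x
      rw [Subgroup.mem_map_equiv]
      rw [h ((MulAut.conj g).symm x)]
      simp [MulAut.conj_symm_apply, mul_assoc]
    · intro h x
      constructor
      · intro hx
        rw [← h]
        exact ⟨x, hx, rfl⟩
      · intro hx
        rw [← h] at hx
        obtain ⟨y, hy, hyx⟩ := hx
        have : y = x := by
          have h1 : g * y * g⁻¹ = g * x * g⁻¹ := hyx
          exact mul_left_cancel (mul_right_cancel h1)
        rwa [← this]
  rw [h0, map_conj]
  constructor
  · intro h
    apply Finset.eq_of_subset_of_card_le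
    · rw [← A_le (by rw [Finset.card_smul_finset]; exact hs)]
      exact h.le
    · rw [Finset.card_smul_finset]
  · intro h; rw [h]

theorem card_A (s : Finset α) : Nat.card (A s) = Nat.card (alternatingGroup s) :=
  (Nat.card_congr (MonoidHom.ofInjective alternatingGroup.ofSubtype_injective).toEquiv).symm

theorem card_A' {s : Finset α} (hs : 2 ≤ s.card) : 2 * Nat.card (A s) = s.card.factorial := by
  have : Nontrivial s := by
    rw [← Fintype.one_lt_card_iff_nontrivial, Fintype.card_coe]; omega
  rw [card_A, Nat.card_eq_fintype_card, two_mul_card_alternatingGroup, Fintype.card_perm,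
    Fintype.card_coe]

theorem odd_card_A {s : Finset α} (hs : s.card ≤ 3) : Odd (Nat.card (A s)) := by
  rcases Nat.lt_or_ge s.card 2 with h | h
  · have h1 : Subsingleton (alternatingGroup s) := by
      have : Subsingleton s := by
        rw [← Fintype.card_le_one_iff_subsingleton, Fintype.card_coe]; omega
      infer_instance
    rw [card_A, Nat.card_of_subsingleton (1 : alternatingGroup s)]
    exact odd_one
  · have h1 := card_A' h
    interval_cases hc : s.card
    · rw [show Nat.factorial 2 = 2 * 1 from rfl] at h1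
      rw [Nat.eq_of_mul_eq_mul_left (by norm_num) h1]; exact odd_one
    · rw [show Nat.factorial 3 = 2 * 3 from rfl] at h1
      rw [Nat.eq_of_mul_eq_mul_left (by norm_num) h1]; decide

theorem isStandard {s : Finset α} (h5 : 5 ≤ s.card) (h4 : sᶜ.card = 4) (hbig : Fintype.card α < 2 * s.card) :
    IsStandardSubgroup (A s) := by
  have hC : Subgroup.centralizer (A s : Set (alternatingGroup α)) = A sᶜ :=
    centralizer_A (by omega)
  refine ⟨?_, ⟨?_, ?_⟩, ?_, ?_⟩
  · have e := MonoidHom.ofInjective (alternatingGroup.ofSubtype_injective (s := s))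
    have hs5 : 5 ≤ Nat.card s := by rw [Nat.card_eq_fintype_card, Fintype.card_coe]; exact h5
    have h1 : IsSimpleGroup (alternatingGroup s) := alternatingGroup.isSimpleGroup hs5
    have := e.symm.toEquiv.nontrivial
    have h2 : IsSimpleGroup (A s) := IsSimpleGroup.isSimpleGroup_of_surjective e.toMonoidHom e.surjective
    apply isQuasisimple_of_simple
    intro h3
    have h4 : IsMulCommutative (alternatingGroup s) := by
      refine ⟨⟨fun a b => ?_⟩⟩
      apply e.injective
      rw [map_mul, map_mul]
      exact h3.is_comm.comm _ _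
    rw [alternatingGroup.isMulCommutative_iff_card_le_three] at h4
    omega
  · rw [hC]
    have h1 := card_A' (s := sᶜ) (by omega)
    rw [h4, show Nat.factorial 4 = 2 * 12 from rfl] at h1
    rw [Nat.eq_of_mul_eq_mul_left (by norm_num) h1]; decide
  · intro g hg
    rw [hC] at hg ⊢
    rw [mem_normalizer_A (by omega)] at hg
    rw [map_conj, A_inf]
    apply odd_card_A
    by_contra hcon
    push Not at hcon
    apply hg
    have h1 : (sᶜ ∩ g • sᶜ) = sᶜ := Finset.eq_of_subset_of_card_le Finset.inter_subset_left (by omega)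
    have h2 : (sᶜ ∩ g • sᶜ) = g • sᶜ := Finset.eq_of_subset_of_card_le Finset.inter_subset_right (by
      rw [Finset.card_smul_finset]; omega)
    rw [← h2, h1]
  · intro g _ hcon
    rw [map_conj, Subgroup.commutator_eq_bot_iff_le_centralizer, centralizer_A (by
      rw [Finset.card_smul_finset]; omega), A_le (by omega)] at hcon
    have h1 := Finset.card_le_card hcon
    rw [Finset.card_compl, Finset.card_smul_finset] at h1
    omega
  · rw [hC]
    ext g
    have h1 : g • sᶜ = (g • s)ᶜ := by
      rw [Finset.compl_eq_univ_sdiff, Finset.smul_finset_sdiff, Finset.smul_finset_univ,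
        ← Finset.compl_eq_univ_sdiff]
    rw [mem_normalizer_A (by omega), mem_normalizer_A (by omega), h1, compl_inj_iff]

end Cfsg.Agent.H73.AltStd
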