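import Cfsg.Agent.H73.CZR3
import Cfsg.Agent.H73.CZ9
import Cfsg.Agent.H72.SmallSolvable
import Cfsg.Agent.S3559
import Cfsg.Agent.S3972
import Cfsg.Agent.S0675

set_option autoImplicit false

namespace Cfsg.Agent.H73.CZ

open Equiv

universe u
variable {G : Type u} [Group G] [Finite G]

theorem odd_case {n : ℕ} (ih : IHyp.{u} n) (hn : Nat.card G = n) {A B : Subgroup G}
    (hA : IsCyclic ↥A) (hB : IsZGroup ↥B)
    (hAB : ∀ g, ∃ a ∈ A, ∃ b ∈ B, g = a * b) (hr : Cfsg.solvableRadical G = ⊥)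
    (h1 : 1 < Nat.card G) (hodd : Odd (Nat.card ↥A)) (h2 : 2 ∣ Nat.card G) : False := by
  classical
  haveI : Fact (Nat.Prime 2) := ⟨Nat.prime_two⟩
  obtain ⟨S⟩ := (inferInstance : Nonempty (Sylow 2 ↥B))
  have hdv := dvd_prod A B hAB
  have hodd' : ¬ 2 ∣ Nat.card ↥A := fun h => (Nat.not_even_iff_odd.2 hodd) (even_iff_two_dvd.2 h)
  have hfac : (Nat.card G).factorization 2 = (Nat.card ↥B).factorization 2 := by
    apply le_antisymm
    · have h1 := ((Nat.factorization_le_iff_dvd Nat.card_pos.ne'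
        (Nat.mul_pos Nat.card_pos Nat.card_pos).ne').2 hdv) 2
      rw [Nat.factorization_mul Nat.card_pos.ne' Nat.card_pos.ne', Finsupp.add_apply,
        Nat.factorization_eq_zero_of_not_dvd (n := Nat.card ↥A) hodd'] at h1
      omega
    · exact ((Nat.factorization_le_iff_dvd Nat.card_pos.ne' Nat.card_pos.ne').2
        (Subgroup.card_subgroup_dvd_card B)) 2
  have hc : Nat.card ↥((S : Subgroup ↥B).map B.subtype) = 2 ^ (Nat.card G).factorization 2 := by
    rw [Subgroup.card_map_of_injective B.subtype_injective, hfac]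
    exact S.card_eq_multiplicity
  have hcyc : IsCyclic ↥(Sylow.ofCard ((S : Subgroup ↥B).map B.subtype) hc) := by
    haveI : IsCyclic ↥(S : Subgroup ↥B) := inferInstance
    exact isCyclic_of_surjective _
      (Subgroup.equivMapOfInjective (S : Subgroup ↥B) _ B.subtype_injective).surjective
  obtain ⟨N, hN, hNodd, hNc⟩ := two_compl h2 _ hcyc
  have hPc : Nat.card ↥(Sylow.ofCard ((S : Subgroup ↥B).map B.subtype) hc) =
      2 ^ (Nat.card G).factorization 2 := hc
  rw [hPc] at hNc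
  have hidx : N.index = 2 ^ (Nat.card G).factorization 2 := by
    have h3 := N.card_mul_index
    rw [← hNc] at h3
    exact Nat.eq_of_mul_eq_mul_left Nat.card_pos h3
  have hAN : A ≤ N := by
    intro a ha
    rw [← QuotientGroup.eq_one_iff (N := N), ← orderOf_eq_one_iff]
    have e1 : orderOf (a : G ⧸ N) ∣ orderOf a := orderOf_map_dvd (QuotientGroup.mk' N) a
    have e2 : orderOf a ∣ Nat.card ↥A := by
      have := orderOf_dvd_natCard (⟨a, ha⟩ : ↥A)
      rwa [Subgroup.orderOf_mk] at this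
    have e3 : orderOf (a : G ⧸ N) ∣ 2 ^ (Nat.card G).factorization 2 := by
      rw [← hidx]; exact orderOf_dvd_natCard _
    exact Nat.eq_one_of_dvd_coprimes (Nat.Coprime.pow_left _ (Nat.coprime_two_left.2 hodd))
      e3 (e1.trans e2)
  have hNbot : N ≠ ⊥ := by
    intro h0
    rw [h0, Subgroup.card_bot, one_mul] at hNc
    have hp : IsPGroup 2 G := IsPGroup.of_card hNc.symm
    haveI := hp.isNilpotent
    exact not_solv hr h1 inferInstance
  have hNlt : Nat.card ↥N < n := by
    rw [← hn]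
    refine lt_of_le_of_ne (Subgroup.card_le_card_group N) (fun h3 => ?_)
    rw [h3] at hNodd
    exact (Nat.not_even_iff_odd.2 hNodd) (even_iff_two_dvd.2 h2)
  have hprod : ∀ x : ↥N, ∃ a ∈ A.subgroupOf N, ∃ b ∈ B.subgroupOf N, x = a * b := by
    intro x
    obtain ⟨a, ha, b, hb, hx⟩ := hAB x
    have hbN : b ∈ N := by
      have : b = a⁻¹ * x := by rw [hx]; group
      rw [this]
      exact mul_mem (inv_mem (hAN ha)) x.2
    exact ⟨⟨a, hAN ha⟩, ha, ⟨b, hbN⟩, hb, Subtype.ext hx⟩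
  have hP : IsP ↥N := ih ↥N (A.subgroupOf N) (B.subgroupOf N) hNlt (cyc_subgroupOf hA _)
    (z_subgroupOf hB _) hprod (rad_normal hr N) ((Subgroup.one_lt_card_iff_ne_bot _).2 hNbot)
  have h3 := hP.evenA (A.subgroupOf N) (B.subgroupOf N) (z_subgroupOf hB _) hprod
  rw [Nat.card_congr (Subgroup.subgroupOfEquivOfLe hAN).toEquiv] at h3
  exact hodd' h3

theorem prim {n : ℕ} (ih : IHyp.{u} n) (hn : Nat.card G = n) {A B : Subgroup G}
    (hA : IsCyclic ↥A) (hB : IsZGroup ↥B)
    (hAB : ∀ g, ∃ a ∈ A, ∃ b ∈ B, g = a * b) (hr : Cfsg.solvableRadical G = ⊥)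
    (h1 : 1 < Nat.card G) {M : Subgroup G} (hM : IsCoatom M) (hBM : B ≤ M)
    (hK : M.normalCore = ⊥) : IsP G := by
  classical
  have hns := not_solv hr h1
  have hAM : ∀ a ∈ A, a ∈ M → a = 1 := by
    intro a ha haM
    have := core_inter hA hAB hBM a ha haM
    rwa [hK, Subgroup.mem_bot] at this
  have hMB : M ≤ B := by
    intro x hx
    obtain ⟨a, ha, b, hb, hxe⟩ := hAB x
    have haM : a ∈ M := by
      have : a = x * b⁻¹ := by rw [hxe]; group
      rw [this]
      exact mul_mem hx (inv_mem (hBM hb))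
    rw [hxe, hAM a ha haM, one_mul]
    exact hb
  set φ := MulAction.toPermHom G (G ⧸ M) with hφ
  have hinj : Function.Injective φ := by
    rw [← MonoidHom.ker_eq_bot_iff, hφ, ← Subgroup.normalCore_eq_ker]
    exact hK
  have happ : ∀ (g : G) (x : G ⧸ M), φ g x = g • x := fun g x => rfl
  haveI hntriv : Nontrivial (G ⧸ M) := by
    rw [← Finite.one_lt_card_iff_nontrivial]
    have h2 : M.index ≠ 1 := by
      intro h3
      exact hM.1 (Subgroup.index_eq_one.1 h3)
    have h3 : M.index ≠ 0 := Subgroup.index_ne_zero_of_finite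
    have h4 : Nat.card (G ⧸ M) = M.index := rfl
    omega
  set Γ := φ.range with hΓ
  let ε : G ≃* ↥Γ := MonoidHom.ofInjective hinj
  have hrep : ∀ x : G ⧸ M, ∃ a ∈ A, x = ((a : G) : G ⧸ M) := by
    intro x
    obtain ⟨g, rfl⟩ := QuotientGroup.mk_surjective x
    obtain ⟨a, ha, b, hb, rfl⟩ := hAB g
    refine ⟨a, ha, ?_⟩
    rw [QuotientGroup.eq]
    have : (a * b)⁻¹ * a = b⁻¹ := by group
    rw [this]
    exact inv_mem (hBM hb)
  have hAt : ∀ x y : G ⧸ M, ∃ a ∈ A.map φ, a x = y := by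
    intro x y
    obtain ⟨a, ha, rfl⟩ := hrep x
    obtain ⟨b, hb, rfl⟩ := hrep y
    refine ⟨φ (b * a⁻¹), ⟨_, mul_mem hb (inv_mem ha), rfl⟩, ?_⟩
    show ((b * a⁻¹ * a : G) : G ⧸ M) = b
    rw [inv_mul_cancel_right]
  have hAc : IsCyclic ↥(A.map φ) := by
    haveI := hA
    exact isCyclic_of_surjective (φ.subgroupMap A) (φ.subgroupMap_surjective _)
  have hAΓ : A.map φ ≤ Γ := by
    rintro _ ⟨x, -, rfl⟩
    exact ⟨x, rfl⟩
  have hcardA : Nat.card ↥A = Nat.card (G ⧸ M) := by
    rw [← cardA hAc hAt ((1 : G) : G ⧸ M), Subgroup.card_map_of_injective hinj]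
  have hZS : ZS Γ := by
    intro x
    obtain ⟨g, rfl⟩ := QuotientGroup.mk_surjective x
    haveI := hB
    let f : ↥B →* ↥(St Γ ((g : G) : G ⧸ M)) :=
      MonoidHom.mk' (fun b => ⟨φ (g * b * g⁻¹), mem_St.2 ⟨⟨_, rfl⟩, by
        show ((g * (b : G) * g⁻¹ * g : G) : G ⧸ M) = g
        rw [inv_mul_cancel_right, QuotientGroup.eq]
        have : (g * (b : G))⁻¹ * g = (b : G)⁻¹ := by group
        rw [this]
        exact inv_mem (hBM b.2)⟩⟩) (by
        intro x y
        apply Subtype.ext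
        show φ (g * ((x * y : ↥B) : G) * g⁻¹) = φ (g * x * g⁻¹) * φ (g * y * g⁻¹)
        rw [← map_mul]
        congr 1
        rw [Subgroup.coe_mul]
        group)
    refine IsZGroup.of_surjective (f := f) ?_
    intro y
    obtain ⟨⟨h, hh⟩, hy2⟩ := mem_St.1 y.2
    rw [← hh] at hy2
    have h3 : ((h * g : G) : G ⧸ M) = g := hy2
    rw [QuotientGroup.eq] at h3
    have h4 : g⁻¹ * h * g ∈ M := by
      have : g⁻¹ * h * g = ((h * g)⁻¹ * g)⁻¹ := by group
      rw [this]; exact inv_mem h3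
    refine ⟨⟨g⁻¹ * h * g, hMB h4⟩, ?_⟩
    apply Subtype.ext
    show φ (g * (g⁻¹ * h * g) * g⁻¹) = y
    rw [← hh]
    congr 1
    group
  have hprimG : MulAction.IsPreprimitive G (G ⧸ M) := by
    rw [← MulAction.isCoatom_stabilizer_iff_preprimitive G ((1 : G) : G ⧸ M),
      MulAction.stabilizer_quotient]
    exact hM
  haveI : Fintype (G ⧸ M) := Fintype.ofFinite _
  haveI htrΓ : MulAction.IsPretransitive ↥Γ (G ⧸ M) := by
    constructor
    intro x y
    obtain ⟨a, ha, hxy⟩ := hAt x y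
    exact ⟨⟨a, hAΓ ha⟩, hxy⟩
  have hTwo : Two Γ := by
    have fromΓ : MulAction.IsMultiplyPretransitive ↥Γ (G ⧸ M) 2 → Two Γ := by
      intro h2 a b c d hab hcd
      obtain ⟨g, hg1, hg2⟩ := (MulAction.is_two_pretransitive_iff).1 h2 hab hcd
      exact ⟨g, g.2, hg1, hg2⟩
    by_cases hpr : (Nat.card (G ⧸ M)).Prime
    · rcases Cfsg.Agent.S0675.result (α := G ⧸ M) (by rwa [← Nat.card_eq_fintype_card]) Γ with h2 | h2
      · exfalso
        apply hns
        exact Group.isSolvable_of_isSolvable_injective (f := ε.toMonoidHom) ε.injective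
      · exact fromΓ h2
    · by_cases hpp : IsPrimePow (Nat.card (G ⧸ M))
      · rw [isPrimePow_nat_iff] at hpp
        obtain ⟨p, k, hp, hk, hpk⟩ := hpp
        have hk2 : 2 ≤ k := by
          rcases Nat.lt_or_ge k 2 with h2 | h2
          · exfalso
            have : k = 1 := by omega
            rw [this, pow_one] at hpk
            exact hpr (hpk ▸ hp)
          · exact h2
        by_contra hnot
        obtain ⟨a0, ha0⟩ := IsCyclic.exists_generator (α := ↥(A.map φ))
        have hord : orderOf (a0 : Perm (G ⧸ M)) = p ^ k := by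
          rw [Subgroup.orderOf_coe, orderOf_eq_card_of_forall_mem_zpowers ha0, hpk,
            cardA hAc hAt ((1 : G) : G ⧸ M)]
        have h3 := Cfsg.Agent.S3972.result (Ω := G ⧸ M) p k hp hk2
          (by rw [← Nat.card_eq_fintype_card, hpk]) Γ htrΓ (fun h2 => hnot (fromΓ h2))
          ⟨a0, hAΓ a0.2⟩ (by rw [Subgroup.orderOf_mk]; exact hord)
        apply h3.1
        haveI := hprimG
        exact MulAction.IsPreprimitive.of_surjective
          (f := (⟨id, fun g x => rfl⟩ : (G ⧸ M) →ₑ[fun g : G => ε g] (G ⧸ M)))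
          Function.surjective_id
      · haveI : FaithfulSMul G (G ⧸ M) := ⟨fun {g h} hgh => hinj (Equiv.ext hgh)⟩
        have h3 := Cfsg.Agent.S3559.result (G := G) (Ω := G ⧸ M) inferInstance
          (by have := Finite.one_lt_card (α := G ⧸ M); omega) hpp A hA
          ⟨⟨fun x y => by
              obtain ⟨_, ⟨a, ha, rfl⟩, hxy⟩ := hAt x y
              exact ⟨⟨a, ha⟩, hxy⟩⟩, fun x => by
              rw [Subgroup.eq_bot_iff_forall]
              intro a ha
              have h4 : φ a x = x := ha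
              have h5 := Afree' hAc hAt (x := φ a) ⟨a, a.2, rfl⟩ h4
              have h6 : (a : G) = 1 := hinj (by rw [h5, map_one])
              exact Subtype.ext h6⟩
        rcases h3 with h3 | h3
        · exact absurd hprimG h3
        · intro a b c d hab hcd
          obtain ⟨g, hg1, hg2⟩ := (MulAction.is_two_pretransitive_iff).1 h3 hab hcd
          exact ⟨φ g, ⟨g, rfl⟩, hg1, hg2⟩
  have h4lt : 4 < Nat.card (G ⧸ M) := by
    by_contra hle
    have := H72.isSolvable_perm_of_card_le_four (α := G ⧸ M) (by omega)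
    exact hns (Group.isSolvable_of_isSolvable_injective hinj)
  rcases Nat.even_or_odd (Nat.card (G ⧸ M)) with hev | hodd
  · obtain ⟨-, hp, F, i1, i2, hF, ⟨e⟩⟩ := mainP (Nat.card (G ⧸ M)) (G ⧸ M) Γ (A.map φ) rfl hev
      (by omega) hTwo hZS hAΓ hAc hAt
    exact ⟨F, i1, i2, by rw [hF]; exact hp, by rw [hF]; obtain ⟨r, hr⟩ := hev; omega, ⟨ε.trans e⟩⟩
  · exfalso
    refine odd_case ih hn hA hB hAB hr h1 (by rw [hcardA]; exact hodd) ?_
    obtain ⟨a, b, hab⟩ := exists_pair_ne (G ⧸ M)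
    rw [Nat.card_congr ε.toEquiv, cardG hTwo (by omega) hab]
    obtain ⟨r, hr'⟩ := hodd
    refine Dvd.dvd.mul_left (Dvd.dvd.mul_right ⟨r, by omega⟩ _) _

theorem claim (n : ℕ) : ∀ (G : Type u) [Group G] [Finite G] (A B : Subgroup G), Nat.card G = n →
    IsCyclic ↥A → IsZGroup ↥B → (∀ g, ∃ a ∈ A, ∃ b ∈ B, g = a * b) →
    Cfsg.solvableRadical G = ⊥ → 1 < Nat.card G → IsP G := by
  induction n using Nat.strong_induction_on with
  | _ n ih =>
  intro G _ _ A B hn hA hB hAB hr h1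
  have ih' : IHyp.{u} n := fun G' _ _ A' B' hlt hA' hB' hAB' hr' h1' =>
    ih _ hlt G' A' B' rfl hA' hB' hAB' hr' h1'
  have hns := not_solv hr h1
  have hBtop : B ≠ ⊤ := by
    rintro rfl
    haveI := hB
    have : Group.IsSolvable ↥(⊤ : Subgroup G) := inferInstance
    exact hns (Group.isSolvable_of_surjective (f := (⊤ : Subgroup G).subtype)
      (fun x => ⟨⟨x, trivial⟩, rfl⟩))
  obtain ⟨M, hM, hBM⟩ := (eq_top_or_exists_le_coatom B).resolve_left hBtop
  exact prim ih' hn hA hB hAB hr h1 hM hBM (no_core ih' hn hA hB hAB hr hM hBM)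

end Cfsg.Agent.H73.CZ
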