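import Mathlib
import Cfsg.Agent.S3380

/-!
Faithful irreducible modules of `p`-groups, `p` odd: the sum of two fixed spaces of generators.
-/

set_option autoImplicit false
set_option linter.unusedSectionVars false

namespace Cfsg.Agent.H73.CoFix

open Subgroup

section sums

variable {q : ℕ} [Fact q.Prime] {V : Type*} [AddCommGroup V] [Module (ZMod q) V] {p : ℕ}

theorem sum_bijective {W : Fin p → Submodule (ZMod q) V} (htop : iSup W = ⊤) (hind : iSupIndep W) :
    Function.Bijective (fun f : (∀ i, W i) => ∑ i, (f i : V)) := by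
  classical
  constructor
  · intro f g hfg
    have h := (iSupIndep_iff_finsetSum_eq_imp_eq W).mp hind Finset.univ (fun i => (f i : V))
      (fun i => (g i : V)) (fun i _ => ⟨(f i).2, (g i).2⟩) hfg
    funext i
    exact Subtype.ext (h i (Finset.mem_univ i))
  · intro v
    have hv : v ∈ ⨆ i, W i := by
      have : v ∈ (⊤ : Submodule (ZMod q) V) := trivial
      rwa [← htop] at this
    refine Submodule.iSup_induction W (motive := fun v => ∃ f : (∀ i, W i), ∑ i, (f i : V) = v) hv ?_ ?_ ?_
    · intro i x hx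
      refine ⟨Pi.single i ⟨x, hx⟩, ?_⟩
      rw [Finset.sum_eq_single i]
      · rw [Pi.single_eq_same]
      · intro j _ hj
        rw [Pi.single_eq_of_ne hj]; rfl
      · intro h; exact absurd (Finset.mem_univ i) h
    · exact ⟨0, by simp⟩
    · rintro x y ⟨f, rfl⟩ ⟨g, rfl⟩
      refine ⟨f + g, ?_⟩
      rw [← Finset.sum_add_distrib]
      rfl

variable [Finite V]

/-- sameCycle -/
theorem sameCycle [Fact p.Prime] {σ : Equiv.Perm (Fin p)} (hσ : orderOf σ = p) (i j : Fin p) :
    σ.SameCycle i j := by
  classical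
  have hp : p.Prime := Fact.out
  have hc : σ.IsCycle := Equiv.Perm.isCycle_of_prime_order'' (by rw [Fintype.card_fin]; exact hp)
    (by rw [Fintype.card_fin]; exact hσ)
  have hs : σ.support = Finset.univ := by
    rw [← Finset.card_eq_iff_eq_univ, ← hc.orderOf, hσ, Fintype.card_fin]
  have h1 : ∀ k, σ k ≠ k := fun k => by
    rw [← Equiv.Perm.mem_support, hs]; exact Finset.mem_univ k
  exact hc.sameCycle (h1 i) (h1 j)

theorem sigma_induction [Fact p.Prime] {σ : Equiv.Perm (Fin p)} (hσ : orderOf σ = p) {Q : Fin p → Prop}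
    (i : Fin p) (hi : Q i) (hs : ∀ k, Q k → Q (σ k)) (j : Fin p) : Q j := by
  obtain ⟨k, -, hk⟩ := (sameCycle hσ i j).exists_pow_eq'
  rw [← hk]
  clear hk
  induction k with
  | zero => simpa using hi
  | succ n ih => rw [pow_succ', Equiv.Perm.mul_apply]; exact hs _ ih

theorem card_W_eq [Fact p.Prime] {W : Fin p → Submodule (ZMod q) V} {σ : Equiv.Perm (Fin p)}
    (hσ : orderOf σ = p) (T : V ≃ₗ[ZMod q] V) (hT : ∀ i, (W i).map (T : V →ₗ[ZMod q] V) = W (σ i))
    (i j : Fin p) : Nat.card (W j) = Nat.card (W i) := by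
  refine sigma_induction hσ (Q := fun j => Nat.card (W j) = Nat.card (W i)) i rfl ?_ j
  intro k hk
  rw [← hk, ← hT k]
  exact (Nat.card_congr (Submodule.equivMapOfInjective (T : V →ₗ[ZMod q] V) T.injective (W k)).toEquiv).symm

theorem card_fix_le [Fact p.Prime] {W : Fin p → Submodule (ZMod q) V} (htop : iSup W = ⊤) (hind : iSupIndep W)
    {σ : Equiv.Perm (Fin p)}
    (hσ : orderOf σ = p) (T : V ≃ₗ[ZMod q] V) (hT : ∀ i, (W i).map (T : V →ₗ[ZMod q] V) = W (σ i))
    (i : Fin p) : Nat.card {v : V // T v = v} ≤ Nat.card (W i) := by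
  classical
  have hb := sum_bijective htop hind
  let e := Equiv.ofBijective _ hb
  have key : ∀ f : (∀ i, W i), T (∑ i, (f i : V)) = ∑ i, (f i : V) → ∀ j, ((f (σ j) : V)) = T (f j : V) := by
    intro f hf
    have hm : ∀ j, T (f (σ.symm j) : V) ∈ W j := by
      intro j
      have h1 : T (f (σ.symm j) : V) ∈ (W (σ.symm j)).map (T : V →ₗ[ZMod q] V) := ⟨_, (f (σ.symm j)).2, rfl⟩
      rw [hT, Equiv.apply_symm_apply] at h1
      exact h1
    have h2 : (fun j => (⟨T (f (σ.symm j) : V), hm j⟩ : W j)) = f := by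
      apply hb.1
      show ∑ j, T (f (σ.symm j) : V) = ∑ j, (f j : V)
      rw [← hf, map_sum]
      exact Equiv.sum_comp σ.symm (fun j => T (f j : V))
    intro j
    have h3 := congrArg (fun g : (∀ i, W i) => (g (σ j) : V)) h2
    have h4 : ∀ a b : Fin p, a = b → (f a : V) = (f b : V) := by rintro a _ rfl; rfl
    rw [← h4 _ _ (σ.symm_apply_apply j)]
    exact h3.symm
  refine Nat.card_le_card_of_injective (fun v => e.symm v.1 i) ?_
  rintro ⟨v, hv⟩ ⟨w, hw⟩ hvw
  have hv' : ∑ i, ((e.symm v) i : V) = v := e.apply_symm_apply v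
  have hw' : ∑ i, ((e.symm w) i : V) = w := e.apply_symm_apply w
  have kv := key (e.symm v) (by rw [hv', hv])
  have kw := key (e.symm w) (by rw [hw', hw])
  have h1 : ∀ j, (e.symm v j : V) = (e.symm w j : V) := by
    intro j
    refine sigma_induction hσ (Q := fun j => (e.symm v j : V) = (e.symm w j : V)) i ?_ ?_ j
    · exact congrArg Subtype.val hvw
    · intro k hk
      rw [kv, kw, hk]
  apply Subtype.ext
  show v = w
  rw [← hv', ← hw']
  exact Finset.sum_congr rfl fun j _ => h1 j

theorem card_V [Fact p.Prime] {W : Fin p → Submodule (ZMod q) V} (htop : iSup W = ⊤) (hind : iSupIndep W)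
    {σ : Equiv.Perm (Fin p)}
    (hσ : orderOf σ = p) (T : V ≃ₗ[ZMod q] V) (hT : ∀ i, (W i).map (T : V →ₗ[ZMod q] V) = W (σ i))
    (i : Fin p) : Nat.card V = Nat.card (W i) ^ p := by
  rw [← Nat.card_congr (Equiv.ofBijective _ (sum_bijective htop hind)), Nat.card_pi]
  rw [Finset.prod_congr rfl (fun j _ => card_W_eq hσ T hT i j), Finset.prod_const, Finset.card_univ,
    Fintype.card_fin]

end sums

/-- Faithful irreducible modules for `p`-groups, `p` odd. -/
theorem subsingleton_of_fix
    (q : ℕ) [Fact q.Prime] {V : Type*} [AddCommGroup V] [Module (ZMod q) V] [Finite V]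
    {G : Type*} [Group G] [Finite G] (p : ℕ) [Fact p.Prime] (hp3 : 3 ≤ p) (hG : IsPGroup p G)
    (ρ : G →* (V ≃ₗ[ZMod q] V)) (hρ : Function.Injective ρ)
    (hirr : ∀ W : Submodule (ZMod q) V, (∀ g : G, ∀ w ∈ W, ρ g w ∈ W) → W = ⊥ ∨ W = ⊤)
    (C D : Set G) (hC : closure C = ⊤) (hD : closure D = ⊤)
    (h : ∀ c ∈ C, ∀ d ∈ D, ∀ v : V, ∃ a b : V, ρ d a = a ∧ ρ c b = b ∧ v = a + b) :
    Subsingleton G := by
  classical
  by_contra hns
  rw [not_subsingleton_iff_nontrivial] at hns
  have hp : p.Prime := Fact.out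
  have hpodd : p ≠ 2 := by omega
  have hVnt : Nontrivial V := by
    by_contra hV
    rw [not_nontrivial_iff_subsingleton] at hV
    obtain ⟨a, b, hab⟩ := hns
    apply hab
    apply hρ
    ext v
    exact Subsingleton.elim _ _
  obtain ⟨k, hk⟩ := IsPGroup.iff_card.mp hG
  have hoddG : ¬ 2 ∣ Nat.card G := by
    rw [hk]
    intro h2
    exact hpodd ((Nat.prime_dvd_prime_iff_eq Nat.prime_two hp).mp (Nat.prime_two.dvd_of_dvd_pow h2)).symm
  by_cases hcyc : IsCyclic G
  · -- cyclic case
    obtain ⟨g, hg⟩ := hcyc.exists_generator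
    have hgen : ∀ E : Set G, closure E = ⊤ → ∃ c ∈ E, zpowers c = ⊤ := by
      intro E hE
      by_contra hcon
      push Not at hcon
      have h1 : E ⊆ zpowers (g ^ p) := by
        intro c hc
        obtain ⟨n, hn⟩ := mem_zpowers_iff.mp (hg c)
        by_cases hpn : (p : ℤ) ∣ n
        · obtain ⟨m, rfl⟩ := hpn
          exact ⟨m, by rw [← hn]; show (g ^ p) ^ m = _; rw [zpow_mul]; simp⟩
        · exfalso
          apply hcon c hc
          have h2 : IsCoprime n (Nat.card G : ℤ) := by
            rw [hk]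
            push_cast
            apply IsCoprime.pow_right
            rw [Int.isCoprime_iff_gcd_eq_one, Int.gcd_comm]
            have h3 := (Nat.Prime.coprime_iff_not_dvd hp (n := n.natAbs)).mpr (by
              intro h4
              exact hpn (Int.natCast_dvd.mpr h4))
            exact h3
          obtain ⟨a, b, hab⟩ := h2
          rw [eq_top_iff]
          intro y _
          obtain ⟨m, hm⟩ := mem_zpowers_iff.mp (hg y)
          have h3 : c ^ a = g := by
            rw [← hn, ← zpow_mul, mul_comm n a]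
            have h4 : a * n = 1 - b * (Nat.card G : ℤ) := by linarith
            rw [h4, zpow_sub, zpow_one, mul_comm b, zpow_mul, zpow_natCast, pow_card_eq_one', one_zpow, inv_one,
              mul_one]
          exact ⟨a * m, by show c ^ (a * m) = y; rw [zpow_mul, h3, hm]⟩
      have h2 : (⊤ : Subgroup G) ≤ zpowers (g ^ p) := by
        rw [← hE]; exact (closure_le _).mpr h1
      have h3 : orderOf (g ^ p) = Nat.card G := by
        rw [← Nat.card_zpowers, eq_top_iff.mpr h2, card_top]
      have h4 : orderOf g = Nat.card G := orderOf_eq_card_of_forall_mem_zpowers hg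
      have hk0 : k ≠ 0 := by
        rintro rfl
        rw [pow_zero] at hk
        have := Finite.one_lt_card_iff_nontrivial.mpr hns
        omega
      have h5 : p ∣ orderOf g := by rw [h4, hk]; exact dvd_pow_self p hk0
      rw [orderOf_pow_of_dvd hp.ne_zero h5, h4] at h3
      have h6 := Nat.card_pos (α := G)
      have h7 : Nat.card G / p < Nat.card G := Nat.div_lt_self h6 hp.one_lt
      omega
    have hfix : ∀ c : G, zpowers c = ⊤ → ∀ v : V, ρ c v = v → v = 0 := by
      intro c hc v hv
      have hall : ∀ y : G, ρ y v = v := by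
        intro y
        have hy : y ∈ zpowers c := hc ▸ mem_top y
        obtain ⟨n, rfl⟩ := mem_zpowers_iff.mp hy
        have h1 : c ∈ (MulAction.stabilizer (V ≃ₗ[ZMod q] V) v).comap ρ := hv
        exact zpow_mem h1 n
      let F : Submodule (ZMod q) V :=
        { carrier := {w | ∀ y : G, ρ y w = w}
          add_mem' := fun {a b} ha hb y => by rw [map_add, ha y, hb y]
          zero_mem' := fun y => map_zero _
          smul_mem' := fun r a ha y => by rw [map_smul, ha y] }
      have hF : F = ⊥ ∨ F = ⊤ := hirr F (fun g w hw => by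
        have : ρ g w = w := hw g
        rw [this]; exact hw)
      rcases hF with hF | hF
      · have : v ∈ F := hall
        rw [hF] at this
        exact (Submodule.mem_bot _).mp this
      · exfalso
        obtain ⟨a, b, hab⟩ := hns
        apply hab
        apply hρ
        ext w
        have hw : w ∈ F := hF ▸ Submodule.mem_top
        rw [hw a, hw b]
    obtain ⟨c, hc, hc'⟩ := hgen C hC
    obtain ⟨d, hd, hd'⟩ := hgen D hD
    obtain ⟨v, hv⟩ := exists_ne (0 : V)
    obtain ⟨a, b, ha, hb, hab⟩ := h c hc d hd v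
    apply hv
    rw [hab, hfix d hd' a ha, hfix c hc' b hb, add_zero]
  · obtain ⟨H, W, hH, htop, hind, -, -, hperm⟩ := S3380.result q p hG ρ hρ hirr hcyc
      (by
        rintro n ⟨e⟩
        apply hoddG
        rcases Nat.eq_zero_or_pos n with rfl | hn
        · exfalso
          have : Finite (QuaternionGroup 0) := Finite.of_equiv G e.toEquiv
          have hinj : Function.Injective (fun m : ℤ => (QuaternionGroup.a m : QuaternionGroup 0)) := by
            intro a b hab
            exact QuaternionGroup.a.inj hab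
          exact not_finite_iff_infinite.mpr (inferInstance : Infinite ℤ) (Finite.of_injective _ hinj)
        · have : NeZero n := ⟨by omega⟩
          rw [Nat.card_congr e.toEquiv, Nat.card_eq_fintype_card, QuaternionGroup.card]
          exact ⟨2 * n, by ring⟩)
      (by
        rintro n ⟨e⟩
        apply hoddG
        rw [Nat.card_congr e.toEquiv, DihedralGroup.nat_card]
        exact ⟨n, rfl⟩)
      (by
        rintro ⟨n, hn, hc, -⟩
        apply hoddG
        rw [hc]
        exact dvd_pow_self 2 (by omega))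
    have hHtop : H ≠ ⊤ := by
      intro hcon
      rw [hcon, index_top] at hH
      omega
    have hex : ∀ E : Set G, closure E = ⊤ → ∃ c ∈ E, c ∉ H := by
      intro E hE
      by_contra hcon
      push Not at hcon
      apply hHtop
      rw [eq_top_iff, ← hE]
      exact (closure_le H).mpr hcon
    obtain ⟨c, hc, hcH⟩ := hex C hC
    obtain ⟨d, hd, hdH⟩ := hex D hD
    obtain ⟨σ, hσ, hσ'⟩ := hperm c hcH
    obtain ⟨τ, hτ, hτ'⟩ := hperm d hdH
    have i : Fin p := ⟨0, hp.pos⟩
    have h1 := card_fix_le htop hind hσ (ρ c) hσ' i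
    have h2 := card_fix_le htop hind hτ (ρ d) hτ' i
    have h3 := card_V htop hind hσ (ρ c) hσ' i
    have h4 : Nat.card V ≤ Nat.card ({v : V // ρ d v = v} × {v : V // ρ c v = v}) := by
      refine Nat.card_le_card_of_surjective (fun x => x.1.1 + x.2.1) ?_
      intro v
      obtain ⟨a, b, ha, hb, hab⟩ := h c hc d hd v
      exact ⟨(⟨a, ha⟩, ⟨b, hb⟩), hab.symm⟩
    rw [Nat.card_prod] at h4
    have h5 : Nat.card V ≤ Nat.card (W i) ^ 2 := by
      rw [pow_two]
      exact h4.trans (Nat.mul_le_mul h2 h1)
    rw [h3] at h5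
    have h6 : Nat.card (W i) ≤ 1 := by
      by_contra hcon
      push Not at hcon
      have := (Nat.pow_le_pow_iff_right hcon).mp h5
      omega
    have h7 : Nat.card V ≤ 1 := by
      rw [h3]
      exact (Nat.pow_le_pow_left h6 p).trans (by rw [one_pow])
    have h8 := Finite.one_lt_card_iff_nontrivial.mpr hVnt
    omega

end Cfsg.Agent.H73.CoFix
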