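import Mathlib
import Cfsg.Agent.H73.CoFix
import Cfsg.Agent.H73.Maschke
import Cfsg.Agent.Cop.Basic
import Cfsg.Agent.Solv.Frattini
import Cfsg.Agent.H17.Basic

/-!
Pairs of conjugates generating `p`-groups: the group theoretic part.
-/

set_option autoImplicit false
set_option linter.unusedSectionVars false

namespace Cfsg.Agent.H73.CoFix

open Subgroup

/-- version without faithfulness -/
theorem trivial_of_fix
    (q : ℕ) [Fact q.Prime] {V : Type*} [AddCommGroup V] [Module (ZMod q) V] [Finite V]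
    {P : Type*} [Group P] [Finite P] (p : ℕ) [Fact p.Prime] (hp3 : 3 ≤ p) (hP : IsPGroup p P)
    (ρ : P →* (V ≃ₗ[ZMod q] V))
    (hirr : ∀ W : Submodule (ZMod q) V, (∀ g : P, ∀ w ∈ W, ρ g w ∈ W) → W = ⊥ ∨ W = ⊤)
    (C D : Set P) (hC : closure C = ⊤) (hD : closure D = ⊤)
    (h : ∀ c ∈ C, ∀ d ∈ D, ∀ v : V, ∃ a b : V, ρ d a = a ∧ ρ c b = b ∧ v = a + b) (g : P) :
    ρ g = 1 := by
  have hcl : ∀ E : Set P, closure E = ⊤ → closure (ρ.rangeRestrict '' E) = ⊤ := by
    intro E hE
    rw [← MonoidHom.map_closure, hE, ← MonoidHom.range_eq_map, MonoidHom.range_eq_top]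
    exact ρ.rangeRestrict_surjective
  have hfin : Finite ρ.range := Finite.of_surjective _ ρ.rangeRestrict_surjective
  have hs := subsingleton_of_fix q p hp3 (G := ρ.range) (hP.of_surjective _ ρ.rangeRestrict_surjective)
    ρ.range.subtype (subtype_injective _) (by
      intro W hW
      apply hirr W
      intro g w hw
      exact hW ⟨ρ g, g, rfl⟩ w hw) _ _ (hcl C hC) (hcl D hD) (by
      rintro _ ⟨c, hc, rfl⟩ _ ⟨d, hd, rfl⟩ v
      exact h c hc d hd v)
  have := hs.elim (ρ.rangeRestrict g) 1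
  exact congrArg Subtype.val this

/-- automorphisms of an elementary abelian group as linear maps -/
def toLin {V : Type*} [CommGroup V] (q : ℕ) [Module (ZMod q) (Additive V)] :
    MulAut V →* (Additive V ≃ₗ[ZMod q] Additive V) where
  toFun φ := { MulEquiv.toAdditive φ with map_smul' := fun c x => ZMod.map_smul (MulEquiv.toAdditive φ) c x }
  map_one' := by ext x; rfl
  map_mul' a b := by ext x; rfl

/-- group version, irreducible elementary abelian case -/
theorem trivial_of_fix_group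
    (q : ℕ) [Fact q.Prime] {V : Type*} [CommGroup V] [Finite V] (hV : ∀ v : V, v ^ q = 1)
    {P : Type*} [Group P] [Finite P] (p : ℕ) [Fact p.Prime] (hp3 : 3 ≤ p) (hP : IsPGroup p P)
    (φ : P →* MulAut V)
    (hirr : ∀ W : Subgroup V, (∀ g : P, ∀ w ∈ W, φ g w ∈ W) → W = ⊥ ∨ W = ⊤)
    (C D : Set P) (hC : closure C = ⊤) (hD : closure D = ⊤)
    (h : ∀ c ∈ C, ∀ d ∈ D, ∀ v : V, ∃ a b : V, φ d a = a ∧ φ c b = b ∧ v = a * b) (g : P) :
    φ g = 1 := by
  let inst : Module (ZMod q) (Additive V) := AddCommGroup.zmodModule (n := q) (G := Additive V) (fun x => by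
    change Additive.ofMul (Additive.toMul x ^ q) = 0
    rw [hV]; rfl)
  have h1 := trivial_of_fix q p hp3 hP ((toLin q).comp φ) (by
    intro W hW
    let W' : Subgroup V :=
      { carrier := {v | Additive.ofMul v ∈ W}
        mul_mem' := fun {a b} ha hb => W.add_mem ha hb
        one_mem' := W.zero_mem
        inv_mem' := fun {a} ha => W.neg_mem ha }
    rcases hirr W' (fun g w hw => hW g (Additive.ofMul w) hw) with h | h
    · left
      rw [eq_bot_iff]
      intro x hx
      have h2 : x.toMul ∈ W' := hx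
      rw [h, mem_bot] at h2
      exact h2
    · right
      rw [eq_top_iff]
      intro x _
      have h2 : x.toMul ∈ W' := by rw [h]; exact mem_top _
      exact h2) C D hC hD (by
    intro c hc d hd v
    obtain ⟨a, b, ha, hb, hab⟩ := h c hc d hd (Additive.toMul v)
    exact ⟨Additive.ofMul a, Additive.ofMul b, ha, hb, hab⟩) g
  apply MulEquiv.ext
  intro v
  have h2 : ∀ f k : (Additive V ≃ₗ[ZMod q] Additive V), f = k →
      f.toFun (Additive.ofMul v) = k.toFun (Additive.ofMul v) := by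
    rintro f _ rfl; rfl
  exact h2 _ _ h1

/-- The factorization of an element of `K`. -/
theorem factor {G : Type*} [Group G] [Finite G] {p : ℕ} [hp : Fact p.Prime] {P K : Subgroup G}
    (hP : IsPGroup p P) (hPK : P ≤ normalizer (K : Set G)) (hcop : (Nat.card K).Coprime p)
    {c d x : G} (hc : c ∈ P) (hd : d ∈ P) (hx : x ∈ K)
    (h : IsPGroup p (closure ({x * c * x⁻¹, d} : Set G))) :
    ∃ w ∈ K, ∃ u ∈ K, w * d = d * w ∧ u * c = c * u ∧ x = w * u := by
  obtain ⟨n, hn⟩ := IsPGroup.iff_card.mp hP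
  have hcop' : (Nat.card K).Coprime (Nat.card P) := by rw [hn]; exact hcop.pow_right n
  have hRL : closure ({x * c * x⁻¹, d} : Set G) ≤ K ⊔ P := by
    rw [closure_le]
    rintro y (rfl | rfl)
    · exact mul_mem (mul_mem (mem_sup_left hx) (mem_sup_right hc)) (inv_mem (mem_sup_left hx))
    · exact mem_sup_right hd
  have hcard : Nat.card ↥(K ⊔ P) = p ^ n * Nat.card K := by
    have h1 := (Cop.isComplement'_subgroupOf_sup hPK hcop').card_mul_card
    rw [Nat.card_congr (subgroupOfEquivOfLe le_sup_left).toEquiv,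
      Nat.card_congr (subgroupOfEquivOfLe le_sup_right).toEquiv, hn] at h1
    rw [← h1, mul_comm]
  have hndvd : ¬ p ∣ Nat.card K := (Nat.Prime.coprime_iff_not_dvd hp.out).mp hcop.symm
  have hR : IsPGroup p ((closure ({x * c * x⁻¹, d} : Set G)).subgroupOf (K ⊔ P)) :=
    h.of_equiv (subgroupOfEquivOfLe hRL).symm
  obtain ⟨S, hS⟩ := hR.exists_le_sylow
  have hSc : Nat.card S = p ^ n := H17.card_sylow_eq S hcard hndvd
  have hBc : Nat.card ((S : Subgroup ↥(K ⊔ P)).map (K ⊔ P).subtype) = Nat.card P := by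
    rw [hn, ← hSc]
    exact (Nat.card_congr ((S : Subgroup ↥(K ⊔ P)).equivMapOfInjective _ (K ⊔ P).subtype_injective).toEquiv).symm
  have hPs : Group.IsSolvable P := by
    have := hP.isNilpotent
    infer_instance
  obtain ⟨w, hw, hwB⟩ := Cop.sz_rel hPK (map_subtype_le _) hBc hcop' (Or.inr hPs)
  have hmem : ∀ y ∈ closure ({x * c * x⁻¹, d} : Set G), w⁻¹ * y * w ∈ P := by
    intro y hy
    have h1 : y ∈ (S : Subgroup ↥(K ⊔ P)).map (K ⊔ P).subtype := ⟨⟨y, hRL hy⟩, hS hy, rfl⟩
    rw [← hwB] at h1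
    exact Hall.mem_conj_smul.mp h1
  have hdis : ∀ z, z ∈ K → z ∈ P → z = 1 := fun z hzK hzP =>
    Cop.eq_one_of_mem_of_mem hcop'.symm hzP hzK
  have key : ∀ (c u : G), c ∈ P → u ∈ K → u * c * u⁻¹ ∈ P → u * c = c * u := by
    intro c u hc hu huc
    have h1 : u * c * u⁻¹ * c⁻¹ ∈ K := by
      have h2 : c * u⁻¹ * c⁻¹ ∈ K := (mem_normalizer_iff.mp (hPK hc) _).mp (inv_mem hu)
      have h3 : u * c * u⁻¹ * c⁻¹ = u * (c * u⁻¹ * c⁻¹) := by group
      rw [h3]; exact mul_mem hu h2
    have h2 := hdis _ h1 (mul_mem huc (inv_mem hc))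
    calc u * c = (u * c * u⁻¹ * c⁻¹) * c * u := by group
      _ = c * u := by rw [h2, one_mul]
  refine ⟨w, hw, w⁻¹ * x, mul_mem (inv_mem hw) hx, ?_, ?_, by group⟩
  · have h1 := hmem d (subset_closure (Or.inr rfl))
    have h2 := key d w⁻¹ hd (inv_mem hw) (by rw [inv_inv]; exact h1)
    calc w * d = w * (d * w⁻¹) * w := by group
      _ = w * (w⁻¹ * d) * w := by rw [h2]
      _ = d * w := by group
  · have h1 := hmem (x * c * x⁻¹) (subset_closure (Or.inl rfl))
    apply key c (w⁻¹ * x) hc (mul_mem (inv_mem hw) hx)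
    have : w⁻¹ * x * c * (w⁻¹ * x)⁻¹ = w⁻¹ * (x * c * x⁻¹) * w := by group
    rw [this]; exact h1

theorem closure_preimage_eq_top {G : Type*} [Group G] (P : Subgroup G) (C : Set G) (h : closure C = P) :
    closure ((fun x : P => (x : G)) ⁻¹' C) = ⊤ := by
  subst h
  exact closure_closure_coe_preimage

theorem normal_of_commutator_le {Q : Type*} [Group Q] {N : Subgroup Q} (h : commutator Q ≤ N) : N.Normal := by
  constructor
  intro n hn g
  have h1 : g * n * g⁻¹ * n⁻¹ ∈ N := h (commutator_mem_commutator (mem_top g) (mem_top n))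
  have h2 : g * n * g⁻¹ = g * n * g⁻¹ * n⁻¹ * n := by group
  rw [h2]; exact mul_mem h1 hn

/-- The `q`-group case. -/
theorem le_centralizer_of_qgroup {G : Type*} [Group G] [Finite G] {p q : ℕ} [hp : Fact p.Prime] [hq : Fact q.Prime]
    (hp3 : 3 ≤ p) (hpq : p ≠ q) {P Q : Subgroup G}
    (hP : IsPGroup p P) (hQ : IsPGroup q Q) (hPQ : P ≤ normalizer (Q : Set G))
    (C D : Set G) (hC : closure C = P) (hD : closure D = P)
    (h : ∀ x ∈ Q, ∀ c ∈ C, ∀ d ∈ D, IsPGroup p (closure ({x * c * x⁻¹, d} : Set G))) :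
    P ≤ centralizer (Q : Set G) := by
  classical
  obtain ⟨k, hk⟩ := IsPGroup.iff_card.1 hP
  obtain ⟨j, hj⟩ := IsPGroup.iff_card.1 (hQ.to_subgroup (frattini Q))
  obtain ⟨l, hl⟩ := IsPGroup.iff_card.1 hQ
  have hcop : (Nat.card P).Coprime (Nat.card (frattini Q)) := by
    rw [hk, hj]
    exact Nat.Coprime.pow _ _ ((Nat.coprime_primes hp.out hq.out).2 hpq)
  have hcopQ : (Nat.card Q).Coprime p := by
    rw [hl]
    exact Nat.Coprime.pow_left _ ((Nat.coprime_primes hq.out hp.out).2 hpq.symm)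
  apply Cop.le_centralizer_of_frattini hPQ hcop
  by_contra hcon
  let φ : P →* MulAut Q := (normalizerMonoidHom Q).comp (inclusion hPQ)
  let _ : MulDistribMulAction P Q := MulDistribMulAction.compHom Q φ
  have hact : ∀ (b : P) (q : Q), ((b • q : Q) : G) = b * q * (b : G)⁻¹ := fun b q => rfl
  have hchar : ∀ (b : P), ∀ q ∈ frattini Q, b • q ∈ frattini Q := by
    intro b q hq
    have h2 : (frattini Q).map (φ b).toMonoidHom = frattini Q :=
      characteristic_iff_map_eq.1 inferInstance (φ b)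
    rw [← h2]
    exact ⟨q, hq, rfl⟩
  let 𝒮 : Set (Subgroup Q) := {N | frattini Q ≤ N ∧ (∀ b : P, ∀ x ∈ N, b • x ∈ N) ∧
    ¬ ∀ b : P, ∀ x : Q, b • x * x⁻¹ ∈ N}
  have hne : 𝒮.Nonempty := by
    refine ⟨frattini Q, le_rfl, hchar, ?_⟩
    intro hall
    apply hcon
    intro a ha x hx
    exact ⟨_, hall ⟨a, ha⟩ ⟨x, hx⟩, rfl⟩
  obtain ⟨N, hN⟩ := (Set.toFinite 𝒮).exists_maximal hne
  obtain ⟨⟨hΦN, hNinv, hNact⟩, hNmax⟩ := hN
  have hcomm : commutator Q ≤ N := (Solv.commutator_le_frattini_of_pGroup hQ).trans hΦN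
  have hpow : ∀ x : Q, x ^ q ∈ N := fun x => hΦN (Solv.pow_mem_frattini_of_pGroup hQ x)
  have hNn : N.Normal := normal_of_commutator_le hcomm
  let _ : CommGroup (Q ⧸ N) :=
    { (inferInstance : Group (Q ⧸ N)) with
      mul_comm := ((Subgroup.Normal.quotient_commutative_iff_commutator_le).mpr hcomm).is_comm.comm }
  apply hNact
  have hker : (QuotientGroup.mk' N).ker = N := QuotientGroup.ker_mk' N
  have key := trivial_of_fix_group q (V := Q ⧸ N) (by
    intro v
    obtain ⟨y, rfl⟩ := QuotientGroup.mk'_surjective N v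
    rw [← map_pow, QuotientGroup.mk'_apply, QuotientGroup.eq_one_iff]
    exact hpow y) p hp3 hP (Maschke.quotAct N hNinv) (by
    intro W hW
    by_contra hcon2
    push Not at hcon2
    obtain ⟨hWb, hWt⟩ := hcon2
    obtain ⟨K, hNK, hKinv, hLK, hLKt⟩ := Maschke.exists_inv_compl_rel (p := q) N hNinv hcomm hpow (by
      rw [hk]
      intro hd
      exact hpq ((Nat.prime_dvd_prime_iff_eq hq.out hp.out).mp (hq.out.dvd_of_dvd_pow hd)).symm)
      (W.comap (QuotientGroup.mk' N)) (by
        intro x hx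
        rw [mem_comap, QuotientGroup.mk'_apply, (QuotientGroup.eq_one_iff x).2 hx]
        exact one_mem _) (by
        intro a x hx
        exact hW a _ hx)
    have hNL : N ≤ W.comap (QuotientGroup.mk' N) := by
      intro x hx
      rw [mem_comap, QuotientGroup.mk'_apply, (QuotientGroup.eq_one_iff x).2 hx]
      exact one_mem _
    have hLne : W.comap (QuotientGroup.mk' N) ≠ N := by
      intro h1
      apply hWb
      rw [eq_bot_iff]
      intro v hv
      obtain ⟨y, rfl⟩ := QuotientGroup.mk'_surjective N v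
      have : y ∈ W.comap (QuotientGroup.mk' N) := hv
      rw [h1] at this
      rw [mem_bot, QuotientGroup.mk'_apply]
      exact (QuotientGroup.eq_one_iff y).mpr this
    have hKne : K ≠ N := by
      intro h1
      apply hWt
      rw [h1, sup_eq_left.mpr hNL] at hLKt
      rw [eq_top_iff]
      intro v _
      obtain ⟨y, rfl⟩ := QuotientGroup.mk'_surjective N v
      have : y ∈ W.comap (QuotientGroup.mk' N) := hLKt ▸ mem_top y
      exact this
    have hmax : ∀ L : Subgroup Q, N ≤ L → L ≠ N → (∀ b : P, ∀ x ∈ L, b • x ∈ L) →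
        ∀ b : P, ∀ x : Q, b • x * x⁻¹ ∈ L := by
      intro L hNL hLne hLinv
      by_contra hcon3
      have hLS : L ∈ 𝒮 := ⟨hΦN.trans hNL, hLinv, hcon3⟩
      exact hLne (le_antisymm (hNmax hLS hNL) hNL)
    apply hNact
    intro b x
    rw [← hLK]
    exact ⟨hmax _ hNL hLne (fun a x hx => hW a _ hx) b x, hmax K hNK hKne hKinv b x⟩)
    _ _ (closure_preimage_eq_top P C hC) (closure_preimage_eq_top P D hD) (by
    intro c hc d hd v
    obtain ⟨y, rfl⟩ := QuotientGroup.mk'_surjective N v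
    obtain ⟨w, hw, u, hu, hwd, huc, hxwu⟩ := factor hP hPQ hcopQ c.2 d.2 y.2 (h y y.2 c hc d hd)
    refine ⟨QuotientGroup.mk' N ⟨w, hw⟩, QuotientGroup.mk' N ⟨u, hu⟩, ?_, ?_, ?_⟩
    · rw [Maschke.quotAct_apply]
      congr 1
      apply Subtype.ext
      show (d : G) * w * (d : G)⁻¹ = w
      rw [← hwd]; group
    · rw [Maschke.quotAct_apply]
      congr 1
      apply Subtype.ext
      show (c : G) * u * (c : G)⁻¹ = u
      rw [← huc]; group
    · rw [← map_mul]
      congr 1
      exact Subtype.ext hxwu)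
  intro b x
  have h1 := congrArg (fun f : MulAut (Q ⧸ N) => f (QuotientGroup.mk' N x)) (key b)
  have h2 : QuotientGroup.mk' N (b • x) = QuotientGroup.mk' N x := h1
  rw [← hker, MonoidHom.mem_ker, map_mul, map_inv, h2, mul_inv_cancel]

/-- The general case. -/
theorem le_centralizer {G : Type*} [Group G] [Finite G] {p : ℕ} [hp : Fact p.Prime]
    (hp3 : 3 ≤ p) {P K : Subgroup G}
    (hP : IsPGroup p P) (hK : (Nat.card K).Coprime p) (hPK : P ≤ normalizer (K : Set G))
    (C D : Set G) (hC : closure C = P) (hD : closure D = P)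
    (h : ∀ x ∈ K, ∀ c ∈ C, ∀ d ∈ D, IsPGroup p (closure ({x * c * x⁻¹, d} : Set G))) :
    P ≤ centralizer (K : Set G) := by
  classical
  obtain ⟨n, hn⟩ := IsPGroup.iff_card.1 hP
  have hcop : (Nat.card P).Coprime (Nat.card K) := by rw [hn]; exact hK.symm.pow_left n
  have hPs : Group.IsSolvable P := by
    have := hP.isNilpotent
    infer_instance
  have hF : K ⊓ centralizer (P : Set G) = K := by
    apply Subgroup.eq_of_le_of_card_ge inf_le_left
    apply Nat.le_of_dvd Nat.card_pos
    rw [← Nat.factorization_le_iff_dvd Nat.card_pos.ne' Nat.card_pos.ne']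
    intro q
    by_cases hq : q.Prime
    · have : Fact q.Prime := ⟨hq⟩
      by_cases hqp : q = p
      · subst hqp
        rw [Nat.factorization_eq_zero_of_not_dvd ((Nat.Prime.coprime_iff_not_dvd hq).mp hK.symm)]
        exact Nat.zero_le _
      · obtain ⟨Q, hQ⟩ := Cop.exists_invariant_sylow hPK hcop (Or.inl hPs) q
        have hQK : (Q : Subgroup K).map K.subtype ≤ K := map_subtype_le _
        have h1 := le_centralizer_of_qgroup hp3 (Ne.symm hqp) hP (Q.2.map K.subtype) hQ C D hC hD
          (fun x hx c hc d hd => h x (hQK hx) c hc d hd)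
        have h2 : (Q : Subgroup K).map K.subtype ≤ K ⊓ centralizer (P : Set G) := by
          refine le_inf hQK ?_
          intro x hx
          rw [mem_centralizer_iff]
          intro y hy
          exact (mem_centralizer_iff.mp (h1 hy) x hx).symm
        have h3 : q ^ (Nat.card K).factorization q ∣ Nat.card ↥(K ⊓ centralizer (P : Set G)) := by
          rw [← Q.card_eq_multiplicity, ← Cop.card_map_subtype]
          exact card_dvd_of_le h2
        exact (hq.pow_dvd_iff_le_factorization Nat.card_pos.ne').mp h3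
    · rw [Nat.factorization_eq_zero_of_not_prime _ hq]
      exact Nat.zero_le _
  intro x hx
  rw [mem_centralizer_iff]
  intro y hy
  have hy' : y ∈ K ⊓ centralizer (P : Set G) := by rw [hF]; exact hy
  exact (mem_centralizer_iff.mp hy'.2 x hx).symm

end Cfsg.Agent.H73.CoFix
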