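import Mathlib
import Cfsg.Agent.ThreeTransp.SymPres

/-!
Moore's presentation of the alternating group.
-/

set_option autoImplicit false
set_option linter.unusedSectionVars false

namespace Cfsg.Agent.H73.MooreAlt

open Equiv Cfsg.Agent.ThreeTransp

/-- A homomorphism from the group of order two. -/
def c2 {H : Type*} [Group H] (h : H) (hh : h * h = 1) : Multiplicative (ZMod 2) →* H where
  toFun z := if Multiplicative.toAdd z = 0 then 1 else h
  map_one' := if_pos rfl
  map_mul' := by
    intro a b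
    have key : ∀ u v : ZMod 2, (if u + v = 0 then (1 : H) else h) =
        (if u = 0 then 1 else h) * (if v = 0 then 1 else h) := by
      intro u v
      have h11 : (1 : ZMod 2) + 1 = 0 := by decide
      have h10 : (1 : ZMod 2) ≠ 0 := by decide
      have hc : ∀ w : ZMod 2, w = 0 ∨ w = 1 := by decide
      rcases hc u with rfl | rfl <;> rcases hc v with rfl | rfl <;> simp [hh, h11, h10]
    exact key (Multiplicative.toAdd a) (Multiplicative.toAdd b)

/-- the generator -/
abbrev tt : Multiplicative (ZMod 2) := Multiplicative.ofAdd 1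

theorem c2_tt {H : Type*} [Group H] (h : H) (hh : h * h = 1) : c2 h hh tt = h := by
  show (if (1 : ZMod 2) = 0 then (1 : H) else h) = h
  rw [if_neg (by decide)]

theorem tt_mul : tt * tt = 1 := by decide

theorem eq_one_or (z : Multiplicative (ZMod 2)) : z = 1 ∨ z = tt := by
  revert z; decide

variable (m : ℕ)

/-- the relators, with `m + 1` generators -/
def rels : Set (FreeGroup (Fin (m + 1))) :=
  ({g : FreeGroup (Fin (m + 1)) | ∃ i : Fin (m + 1), i.val = 0 ∧ g = FreeGroup.of i ^ 3} ∪
       {g | ∃ i : Fin (m + 1), 1 ≤ i.val ∧ g = FreeGroup.of i ^ 2} ∪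
       {g | ∃ i j : Fin (m + 1), j.val = i.val + 1 ∧ g = (FreeGroup.of i * FreeGroup.of j) ^ 3} ∪
       {g | ∃ i j : Fin (m + 1), i.val + 1 < j.val ∧ g = (FreeGroup.of i * FreeGroup.of j) ^ 2})

/-- the presented group -/
abbrev PG : Type := PresentedGroup (rels m)

/-- A tuple satisfying the relations. -/
structure Mo {H : Type*} [Group H] (x : Fin (m + 1) → H) : Prop where
  cube : x 0 ^ 3 = 1
  sq : ∀ i : Fin (m + 1), 1 ≤ i.val → x i ^ 2 = 1
  braid : ∀ i j : Fin (m + 1), j.val = i.val + 1 → (x i * x j) ^ 3 = 1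
  comm : ∀ i j : Fin (m + 1), i.val + 1 < j.val → (x i * x j) ^ 2 = 1

theorem Mo.hrel {H : Type*} [Group H] {x : Fin (m + 1) → H} (h : Mo m x) :
    ∀ r ∈ rels m, FreeGroup.lift x r = 1 := by
  rintro r (((⟨i, hi, rfl⟩ | ⟨i, hi, rfl⟩) | ⟨i, j, hij, rfl⟩) | ⟨i, j, hij, rfl⟩)
  · have : i = 0 := Fin.ext hi
    subst this
    simpa using h.cube
  · simpa using h.sq i hi
  · simpa using h.braid i j hij
  · simpa using h.comm i j hij

/-- the canonical generators -/
def gen (i : Fin (m + 1)) : PG m := PresentedGroup.of i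

theorem mo_gen : Mo m (gen m) := by
  constructor
  · exact PresentedGroup.one_of_mem (rels := rels m) (Or.inl (Or.inl (Or.inl ⟨0, rfl, rfl⟩)))
  · intro i hi
    exact PresentedGroup.one_of_mem (rels := rels m) (Or.inl (Or.inl (Or.inr ⟨i, hi, rfl⟩)))
  · intro i j hij
    exact PresentedGroup.one_of_mem (rels := rels m) (Or.inl (Or.inr ⟨i, j, hij, rfl⟩))
  · intro i j hij
    exact PresentedGroup.one_of_mem (rels := rels m) (Or.inr ⟨i, j, hij, rfl⟩)

variable {m}

/-- the twisted tuple -/
def tw {H : Type*} [Group H] (x : Fin (m + 1) → H) (i : Fin (m + 1)) : H :=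
  if i = 0 then (x i)⁻¹ else x i

theorem tw_zero {H : Type*} [Group H] (x : Fin (m + 1) → H) : tw x 0 = (x 0)⁻¹ := if_pos rfl

theorem tw_of_ne {H : Type*} [Group H] (x : Fin (m + 1) → H) {i : Fin (m + 1)} (h : i ≠ 0) :
    tw x i = x i := if_neg h

theorem inv_mul_cube {H : Type*} [Group H] {a b : H} (hb : b ^ 2 = 1) (h : (a * b) ^ 3 = 1) :
    (a⁻¹ * b) ^ 3 = 1 := by
  have hb' : b⁻¹ = b := by rw [inv_eq_iff_mul_eq_one, ← pow_two, hb]
  have h1 : a⁻¹ * b = (b * a)⁻¹ := by rw [mul_inv_rev, hb']
  have h2 : b * a = a⁻¹ * (a * b) * a := by group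
  rw [h1, inv_pow, h2]
  have h3 : (a⁻¹ * (a * b) * a) ^ 3 = a⁻¹ * (a * b) ^ 3 * a := by
    simp only [pow_succ, pow_zero]; group
  rw [h3, h]; group

theorem inv_mul_sq {H : Type*} [Group H] {a b : H} (hb : b ^ 2 = 1) (h : (a * b) ^ 2 = 1) :
    (a⁻¹ * b) ^ 2 = 1 := by
  have hb' : b⁻¹ = b := by rw [inv_eq_iff_mul_eq_one, ← pow_two, hb]
  have h1 : a⁻¹ * b = (b * a)⁻¹ := by rw [mul_inv_rev, hb']
  have h2 : b * a = a⁻¹ * (a * b) * a := by group
  rw [h1, inv_pow, h2]
  have h3 : (a⁻¹ * (a * b) * a) ^ 2 = a⁻¹ * (a * b) ^ 2 * a := by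
    simp only [pow_succ, pow_zero]; group
  rw [h3, h]; group

theorem Mo.tw {H : Type*} [Group H] {x : Fin (m + 1) → H} (h : Mo m x) : Mo m (tw x) := by
  constructor
  · rw [tw_zero, inv_pow, h.cube, inv_one]
  · intro i hi
    rw [tw_of_ne x (by rintro rfl; simp at hi)]
    exact h.sq i hi
  · intro i j hij
    have hj : j ≠ 0 := by rintro rfl; simp at hij
    rw [tw_of_ne x hj]
    by_cases hi : i = 0
    · subst hi
      rw [tw_zero]
      exact inv_mul_cube (h.sq j (by omega)) (h.braid 0 j hij)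
    · rw [tw_of_ne x hi]; exact h.braid i j hij
  · intro i j hij
    have hj : j ≠ 0 := by rintro rfl; simp at hij
    rw [tw_of_ne x hj]
    by_cases hi : i = 0
    · subst hi
      rw [tw_zero]
      exact inv_mul_sq (h.sq j (by omega)) (h.comm 0 j hij)
    · rw [tw_of_ne x hi]; exact h.comm i j hij

/-- homomorphism attached to a tuple -/
def hom {H : Type*} [Group H] {x : Fin (m + 1) → H} (h : Mo m x) : PG m →* H :=
  PresentedGroup.toGroup h.hrel

theorem hom_gen {H : Type*} [Group H] {x : Fin (m + 1) → H} (h : Mo m x) (i : Fin (m + 1)) :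
    hom h (gen m i) = x i := PresentedGroup.toGroup.of h.hrel

theorem hom_ext' {H : Type*} [Group H] {f g : PG m →* H} (h : ∀ i, f (gen m i) = g (gen m i)) :
    f = g := PresentedGroup.ext h

/-- the twist endomorphism -/
def tau : PG m →* PG m := hom (mo_gen m).tw

theorem tau_gen (i : Fin (m + 1)) : tau (gen m i) = tw (gen m) i := hom_gen _ i

theorem tau_tau : (tau : PG m →* PG m).comp tau = MonoidHom.id _ := by
  apply hom_ext'
  intro i
  rw [MonoidHom.comp_apply, tau_gen, MonoidHom.id_apply]
  by_cases hi : i = 0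
  · subst hi
    rw [tw_zero, map_inv, tau_gen, tw_zero, inv_inv]
  · rw [tw_of_ne _ hi, tau_gen, tw_of_ne _ hi]

/-- the twist automorphism -/
def tauAut : MulAut (PG m) where
  toFun := tau
  invFun := tau
  left_inv x := DFunLike.congr_fun tau_tau x
  right_inv x := DFunLike.congr_fun tau_tau x
  map_mul' := map_mul tau

theorem tauAut_mul : (tauAut : MulAut (PG m)) * tauAut = 1 := by
  ext x
  exact DFunLike.congr_fun tau_tau x

/-- the action -/
def act : Multiplicative (ZMod 2) →* MulAut (PG m) := c2 tauAut tauAut_mul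

theorem act_tt : (act tt : MulAut (PG m)) = tauAut := c2_tt _ _

/-- the extended group -/
abbrev EG (m : ℕ) : Type := PG m ⋊[act] Multiplicative (ZMod 2)

/-- the involution -/
def T : EG m := SemidirectProduct.inr tt

theorem T_mul : (T : EG m) * T = 1 := by
  rw [T, ← map_mul, tt_mul, map_one]

theorem T_conj (x : PG m) : T * SemidirectProduct.inl x = SemidirectProduct.inl (tau x) * T := by
  have h := SemidirectProduct.inl_aut (φ := (act : Multiplicative (ZMod 2) →* MulAut (PG m))) tt x
  rw [act_tt] at h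
  have h2 : (SemidirectProduct.inl (tau x) : EG m) = T * SemidirectProduct.inl x * T := by
    have h3 : ((SemidirectProduct.inr tt : EG m))⁻¹ = T := by
      rw [inv_eq_iff_mul_eq_one]; exact T_mul
    change (SemidirectProduct.inl (tau x) : EG m) = SemidirectProduct.inr tt *
      SemidirectProduct.inl x * SemidirectProduct.inr tt⁻¹ at h
    rw [map_inv, h3] at h
    exact h
  rw [h2, mul_assoc, T_mul, mul_one]

/-- the Coxeter generators -/
def S : ℕ → EG m
  | 0 => T
  | i + 1 => if h : i < m + 1 then T * SemidirectProduct.inl (gen m ⟨i, h⟩) else 1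

theorem S_succ {i : ℕ} (h : i < m + 1) :
    (S (i + 1) : EG m) = T * SemidirectProduct.inl (gen m ⟨i, h⟩) := dif_pos h

theorem S_mul_S {i j : ℕ} (hi : i < m + 1) (hj : j < m + 1) :
    (S (i + 1) : EG m) * S (j + 1) =
      SemidirectProduct.inl (tw (gen m) ⟨i, hi⟩ * gen m ⟨j, hj⟩) := by
  rw [S_succ hi, S_succ hj, T_conj, mul_assoc, ← mul_assoc T T, T_mul, one_mul, tau_gen, ← map_mul]

theorem S_zero_mul {j : ℕ} (hj : j < m + 1) :
    (S 0 : EG m) * S (j + 1) = SemidirectProduct.inl (gen m ⟨j, hj⟩) := by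
  rw [S_succ hj]
  show T * (T * _) = _
  rw [← mul_assoc, T_mul, one_mul]

theorem S_mul_zero {j : ℕ} (hj : j < m + 1) :
    (S (j + 1) : EG m) * S 0 = SemidirectProduct.inl (tw (gen m) ⟨j, hj⟩) := by
  rw [S_succ hj]
  show T * _ * T = _
  rw [T_conj, mul_assoc, T_mul, mul_one, tau_gen]

theorem S_sq {i : ℕ} (hi : i < m + 2) : (S i : EG m) * S i = 1 := by
  rcases i with _ | i
  · exact T_mul
  · have hi' : i < m + 1 := by omega
    rw [S_mul_S hi' hi']
    by_cases h0 : (⟨i, hi'⟩ : Fin (m + 1)) = 0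
    · rw [h0, tw_zero, inv_mul_cancel, map_one]
    · rw [tw_of_ne _ h0, ← pow_two, (mo_gen m).sq, map_one]
      by_contra hcon
      apply h0
      apply Fin.ext
      simp only [Fin.val_zero] at hcon ⊢
      omega

theorem braid_of_cube {H : Type*} [Group H] {a b : H} (ha : a * a = 1) (hb : b * b = 1)
    (h : (a * b) ^ 3 = 1) : a * b * a = b * a * b := by
  have ha' : a⁻¹ = a := by rw [inv_eq_iff_mul_eq_one, ha]
  have hb' : b⁻¹ = b := by rw [inv_eq_iff_mul_eq_one, hb]
  have h1 : (a * b * a) * (b * a * b) = 1 := by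
    rw [← h]; simp only [pow_succ, pow_zero]; group
  have h2 := eq_inv_of_mul_eq_one_left h1
  rw [h2, mul_inv_rev, mul_inv_rev, ha', hb', mul_assoc]

theorem braidRel : BraidRel (m + 2) (S : ℕ → EG m) := by
  refine ⟨fun i hi => S_sq hi, fun i j hij hj => ?_, fun i hi => ?_⟩
  · obtain ⟨j, rfl⟩ : ∃ j', j = j' + 1 := ⟨j - 1, by omega⟩
    have hj' : j < m + 1 := by omega
    have hj0 : (⟨j, hj'⟩ : Fin (m + 1)) ≠ 0 := by
      intro h
      have := congrArg Fin.val h
      simp only [Fin.val_zero] at this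
      omega
    rcases i with _ | i
    · rw [S_zero_mul hj', S_mul_zero hj', tw_of_ne _ hj0]
    · have hi' : i < m + 1 := by omega
      rw [S_mul_S hi' hj', S_mul_S hj' hi', tw_of_ne _ hj0]
      congr 1
      have h1 := (mo_gen m).tw.comm ⟨i, hi'⟩ ⟨j, hj'⟩ (by simp only []; omega)
      have h2 := (mo_gen m).sq ⟨j, hj'⟩ (by simp only []; omega)
      rw [tw_of_ne _ hj0] at h1
      set a := tw (gen m) ⟨i, hi'⟩ with ha
      set b := gen m ⟨j, hj'⟩ with hb
      have hb' : b⁻¹ = b := by rw [inv_eq_iff_mul_eq_one, ← pow_two, h2]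
      have h3 : a * b = (a * b)⁻¹ := by
        rw [eq_inv_iff_mul_eq_one, ← pow_two, h1]
      rw [h3, mul_inv_rev, hb']
      congr 1
      -- `a⁻¹ = gen i`
      by_cases hi0 : (⟨i, hi'⟩ : Fin (m + 1)) = 0
      · rw [ha, hi0, tw_zero, inv_inv]
      · rw [ha, tw_of_ne _ hi0, inv_eq_iff_mul_eq_one, ← pow_two]
        apply (mo_gen m).sq
        by_contra hcon
        apply hi0
        apply Fin.ext
        simp only [Fin.val_zero] at hcon ⊢
        omega
  · apply braid_of_cube (S_sq (by omega)) (S_sq hi)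
    have hi1 : i < m + 1 := by omega
    rcases i with _ | i
    · rw [S_zero_mul hi1, ← map_pow]
      have := (mo_gen m).cube
      have h0 : (⟨0, hi1⟩ : Fin (m + 1)) = 0 := rfl
      rw [h0, this, map_one]
    · have hi' : i < m + 1 := by omega
      rw [S_mul_S hi' hi1, ← map_pow]
      have hj0 : (⟨i + 1, hi1⟩ : Fin (m + 1)) ≠ 0 := by
        intro h
        have := congrArg Fin.val h
        simp at this
      have h1 := (mo_gen m).tw.braid ⟨i, hi'⟩ ⟨i + 1, hi1⟩ rfl
      rw [tw_of_ne _ hj0] at h1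
      rw [h1, map_one]

/-- images of the generators in the symmetric group -/
def img (i : Fin (m + 1)) : Perm (Fin (m + 2 + 1)) := adj (m + 2) 0 * adj (m + 2) (i + 1)

theorem mo_img : Mo m (img : Fin (m + 1) → Perm (Fin (m + 2 + 1))) := by
  have hA := adj_braidRel (m + 2)
  have hcube : ∀ i, i + 1 < m + 2 → (adj (m + 2) i * adj (m + 2) (i + 1)) ^ 3 = 1 := by
    intro i hi
    have h1 := hA.braid i hi
    have h2 : (adj (m + 2) i * adj (m + 2) (i + 1)) ^ 3 =
        (adj (m + 2) i * adj (m + 2) (i + 1) * adj (m + 2) i) *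
        (adj (m + 2) (i + 1) * adj (m + 2) i * adj (m + 2) (i + 1)) := by
      simp only [pow_succ, pow_zero]; group
    rw [h2, ← h1]
    have h3 : ∀ a b : Perm (Fin (m + 2 + 1)), a * b * a * (a * b * a) =
      a * (b * (a * a) * b) * a := by intro a b; group
    rw [h3, hA.sq i (by omega), mul_one, hA.sq (i + 1) hi, mul_one, hA.sq i (by omega)]
  have hinv : (adj (m + 2) 0)⁻¹ = adj (m + 2) 0 := by
    rw [inv_eq_iff_mul_eq_one, hA.sq 0 (by omega)]
  have hprod : ∀ i j : Fin (m + 1), 1 ≤ j.val → (img i * img j : Perm (Fin (m + 2 + 1))) =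
      adj (m + 2) 0 * (adj (m + 2) (i + 1) * adj (m + 2) (j + 1)) * (adj (m + 2) 0)⁻¹ := by
    intro i j hj
    rw [img, img, hinv]
    have h1 := hA.comm 0 (j + 1) (by omega) (by omega)
    rw [h1]; group
  constructor
  · exact hcube 0 (by omega)
  · intro i hi
    have h1 := hprod i i hi
    rw [hA.sq _ (by omega), mul_one, mul_inv_cancel] at h1
    rw [pow_two]; exact h1
  · intro i j hij
    rw [hprod i j (by omega), conj_pow, hij, hcube (i + 1) (by omega), mul_one, mul_inv_cancel]
  · intro i j hij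
    have h1 := hA.comm (i + 1) (j + 1) (by omega) (by omega)
    have h2 : (adj (m + 2) (i + 1) * adj (m + 2) (j + 1)) ^ 2 = 1 := by
      rw [pow_two]
      nth_rewrite 2 [h1]
      rw [mul_assoc, ← mul_assoc (adj (m + 2) (j + 1)), hA.sq _ (by omega), one_mul,
        hA.sq _ (by omega)]
    rw [hprod i j (by omega), conj_pow, h2, mul_one, mul_inv_cancel]

theorem sign_img (i : Fin (m + 1)) : Perm.sign (img i : Perm (Fin (m + 2 + 1))) = 1 := by
  have h1 : ∀ i < m + 2, Perm.sign (adj (m + 2) i) = -1 := by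
    intro i hi
    simp only [adj, hi, dif_pos]
    apply Perm.sign_swap
    intro h
    have := congrArg Fin.val h
    simp at this
  rw [img, map_mul, h1 0 (by omega), h1 (i + 1) (by omega)]
  rfl

/-- the map to the alternating group -/
def toAlt : PG m →* alternatingGroup (Fin (m + 2 + 1)) :=
  (hom mo_img).codRestrict _ (by
    have h1 : (Perm.sign.comp (hom (mo_img (m := m)))) = 1 := by
      apply hom_ext'
      intro i
      rw [MonoidHom.comp_apply, hom_gen, sign_img]; rfl
    intro x
    rw [Perm.mem_alternatingGroup]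
    exact DFunLike.congr_fun h1 x)

theorem toAlt_coe (x : PG m) : (toAlt x : Perm (Fin (m + 2 + 1))) = hom mo_img x := rfl

theorem toAlt_surjective : Function.Surjective (toAlt (m := m)) := by
  -- the image together with `adj 0` generates everything
  have hA := adj_braidRel (m + 2)
  have hinv : (adj (m + 2) 0)⁻¹ = adj (m + 2) 0 := by
    rw [inv_eq_iff_mul_eq_one, hA.sq 0 (by omega)]
  let R : Subgroup (Perm (Fin (m + 2 + 1))) := (hom (mo_img (m := m))).range
  have hR : ∀ i : ℕ, i < m + 1 → adj (m + 2) 0 * adj (m + 2) (i + 1) ∈ R := by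
    intro i hi
    exact ⟨gen m ⟨i, hi⟩, hom_gen _ _⟩
  have hconj : ∀ x ∈ R, adj (m + 2) 0 * x * adj (m + 2) 0 ∈ R := by
    have h1 : (MulAut.conj (adj (m + 2) 0)).toMonoidHom.comp (hom (mo_img (m := m))) =
        (hom (mo_img (m := m))).comp tau := by
      apply hom_ext'
      intro i
      rw [MonoidHom.comp_apply, MonoidHom.comp_apply, hom_gen, tau_gen]
      show adj (m + 2) 0 * img i * (adj (m + 2) 0)⁻¹ = _
      by_cases hi : i = 0
      · subst hi
        rw [tw_zero, map_inv, hom_gen, img, mul_inv_rev, hinv, ← mul_assoc, hA.sq 0 (by omega),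
          one_mul, inv_eq_iff_mul_eq_one.mpr (hA.sq _ (by simp))]
      · have hi1 : 1 ≤ i.val := by
          by_contra hcon
          apply hi
          apply Fin.ext
          simp only [Fin.val_zero] at hcon ⊢
          omega
        rw [tw_of_ne _ hi, hom_gen, img, hinv, ← mul_assoc, hA.sq 0 (by omega), one_mul]
        exact (hA.comm 0 (i + 1) (by omega) (by omega)).symm
    rintro _ ⟨y, rfl⟩
    refine ⟨tau y, ?_⟩
    have h2 := DFunLike.congr_fun h1 y
    rw [MonoidHom.comp_apply, MonoidHom.comp_apply] at h2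
    rw [← h2]
    show _ * _ * (adj (m + 2) 0)⁻¹ = _
    rw [hinv]
  -- every permutation is in `R` or `adj 0 * R`
  have hall : ∀ σ : Perm (Fin (m + 2 + 1)), σ ∈ R ∨ adj (m + 2) 0 * σ ∈ R := by
    intro σ
    have hσ : σ ∈ genSub (m + 2) (adj (m + 2)) := by rw [genSub_adj]; trivial
    unfold genSub at hσ
    have hsR : ∀ i < m + 2, adj (m + 2) 0 * adj (m + 2) i ∈ R := by
      intro i hi
      rcases i with _ | i
      · rw [hA.sq 0 (by omega)]; exact one_mem _
      · exact hR i (by omega)
    induction hσ using Subgroup.closure_induction with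
    | mem x hx =>
      obtain ⟨i, hi, rfl⟩ := hx
      exact Or.inr (hsR i hi)
    | one => exact Or.inl (one_mem _)
    | mul x y _ _ hx hy =>
      rcases hx with hx | hx <;> rcases hy with hy | hy
      · exact Or.inl (mul_mem hx hy)
      · right
        have h1 := mul_mem (hconj x hx) hy
        have h2 : adj (m + 2) 0 * x * adj (m + 2) 0 * (adj (m + 2) 0 * y) =
            adj (m + 2) 0 * (x * y) := by
          rw [mul_assoc (_ * x), ← mul_assoc (adj (m + 2) 0) (adj (m + 2) 0), hA.sq 0 (by omega),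
            one_mul, mul_assoc]
        rw [h2] at h1; exact h1
      · right
        rw [← mul_assoc]; exact mul_mem hx hy
      · left
        have h1 := mul_mem (hconj _ hx) hy
        have h2 : adj (m + 2) 0 * (adj (m + 2) 0 * x) * adj (m + 2) 0 * (adj (m + 2) 0 * y) =
            x * y := by
          rw [← mul_assoc (adj (m + 2) 0) (adj (m + 2) 0), hA.sq 0 (by omega), one_mul,
            mul_assoc x, ← mul_assoc (adj (m + 2) 0) (adj (m + 2) 0), hA.sq 0 (by omega), one_mul]
        rw [h2] at h1; exact h1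
    | inv x _ hx =>
      rcases hx with hx | hx
      · exact Or.inl (inv_mem hx)
      · right
        have h1 := hconj _ (inv_mem hx)
        rw [mul_inv_rev, hinv] at h1
        have h2 : adj (m + 2) 0 * (x⁻¹ * adj (m + 2) 0) * adj (m + 2) 0 =
            adj (m + 2) 0 * x⁻¹ := by
          rw [mul_assoc, mul_assoc, hA.sq 0 (by omega), mul_one]
        rw [h2] at h1; exact h1
  intro σ
  have hs : Perm.sign (adj (m + 2) 0) = -1 := by
    simp only [adj, show 0 < m + 2 by omega, dif_pos]
    apply Perm.sign_swap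
    intro h
    have := congrArg Fin.val h
    simp at this
  have hRs : ∀ x ∈ R, Perm.sign x = 1 := by
    rintro _ ⟨y, rfl⟩
    have := (toAlt y).2
    rw [Perm.mem_alternatingGroup] at this
    exact this
  rcases hall σ with h | h
  · obtain ⟨y, hy⟩ := h
    exact ⟨y, Subtype.ext hy⟩
  · exfalso
    have h1 := hRs _ h
    have h2 := σ.2
    rw [Perm.mem_alternatingGroup] at h2
    rw [map_mul, hs, h2] at h1
    revert h1; decide

theorem card_le : Finite (PG m) ∧ 2 * Nat.card (PG m) ≤ (m + 3).factorial := by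
  obtain ⟨φ, hφ⟩ := (braidRel (m := m)).exists_hom
  have hsurj : Function.Surjective φ := by
    rw [← MonoidHom.range_eq_top, eq_top_iff]
    have hS : ∀ i < m + 2, (S i : EG m) ∈ φ.range := fun i hi => ⟨_, hφ i hi⟩
    have hinl : ∀ x : PG m, (SemidirectProduct.inl x : EG m) ∈ φ.range := by
      intro x
      have h1 : ∀ i : Fin (m + 1), (SemidirectProduct.inl (gen m i) : EG m) ∈ φ.range := by
        intro i
        rw [← S_zero_mul i.2]
        exact mul_mem (hS 0 (by omega)) (hS _ (by omega))
      have h2 : x ∈ Subgroup.closure (Set.range (PresentedGroup.of : Fin (m + 1) → PG m)) := by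
        rw [PresentedGroup.closure_range_of]; trivial
      induction h2 using Subgroup.closure_induction with
      | mem y hy => obtain ⟨i, rfl⟩ := hy; exact h1 i
      | one => rw [map_one]; exact one_mem _
      | mul y z _ _ hy hz => rw [map_mul]; exact mul_mem hy hz
      | inv y _ hy => rw [map_inv]; exact inv_mem hy
    intro z _
    rw [← SemidirectProduct.inl_left_mul_inr_right z]
    apply mul_mem (hinl _)
    rcases eq_one_or z.right with h | h
    · rw [h, map_one]; exact one_mem _
    · rw [h]; exact hS 0 (by omega)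
  have hfin : Finite (EG m) := Finite.of_surjective φ hsurj
  have hfinP : Finite (PG m) :=
    Finite.of_injective (SemidirectProduct.inl : PG m →* EG m) SemidirectProduct.inl_injective
  refine ⟨hfinP, ?_⟩
  have h1 := Nat.card_le_card_of_surjective φ hsurj
  rw [SemidirectProduct.card, Nat.card_perm, Nat.card_fin] at h1
  have h2 : Nat.card (Multiplicative (ZMod 2)) = 2 := by
    rw [Nat.card_congr Multiplicative.toAdd, Nat.card_zmod]
  rw [h2] at h1
  rw [mul_comm]; exact h1

theorem iso : Nonempty (PG m ≃* alternatingGroup (Fin (m + 2 + 1))) := by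
  obtain ⟨hf, hc⟩ := card_le (m := m)
  have h1 : Nat.card (PG m) ≤ Nat.card (alternatingGroup (Fin (m + 2 + 1))) := by
    have h2 : 2 * Nat.card (alternatingGroup (Fin (m + 2 + 1))) = (m + 2 + 1).factorial := by
      have := nat_card_alternatingGroup (α := Fin (m + 2 + 1))
      rw [this, Nat.card_fin]
      exact Nat.mul_div_cancel' (Nat.dvd_factorial (by norm_num) (by omega))
    have h3 : (m + 2 + 1).factorial = (m + 3).factorial := rfl
    omega
  have hbij : Function.Bijective (toAlt (m := m)) := by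
    rw [Nat.bijective_iff_surjective_and_card]
    exact ⟨toAlt_surjective, le_antisymm h1 (Nat.card_le_card_of_surjective _ toAlt_surjective)⟩
  exact ⟨MulEquiv.ofBijective _ hbij⟩

end Cfsg.Agent.H73.MooreAlt
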