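import Cfsg.Agent.H73.Sec
import Cfsg.Agent.H63.PG

set_option autoImplicit false

namespace Cfsg.Agent.H73.Sec
open Subgroup

/-- converse of `relIndex_le` -/
theorem intro {S : Type*} [Group S] [Finite S] {p k : ℕ}
    (h : ∀ L N : Subgroup S, N ≤ L → (∀ x ∈ L, ∀ y ∈ L, x * y * x⁻¹ * y⁻¹ ∈ N) → (∀ x ∈ L, x ^ p ∈ N) →
      N.relIndex L ≤ p ^ k) : Cfsg.SectionalPRankLE p k S := by
  intro H N hN A hA hAp
  set L0 : Subgroup H := A.comap (QuotientGroup.mk' N) with hL0
  have hNL0 : N ≤ L0 := by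
    intro n hn
    rw [hL0, mem_comap, QuotientGroup.mk'_apply, (QuotientGroup.eq_one_iff n).2 hn]
    exact one_mem _
  have h1 := h (L0.map H.subtype) (N.map H.subtype) (Subgroup.map_mono hNL0) ?_ ?_
  · have h2 : (N.map H.subtype).relIndex (L0.map H.subtype) = Nat.card A := by
      have h3 : Nat.card L0 = Nat.card A * Nat.card N := by
        have h4 := Subgroup.index_comap_of_surjective A (QuotientGroup.mk'_surjective N)
        have h5 := L0.card_mul_index
        have h6 := A.card_mul_index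
        have h7 := Subgroup.card_eq_card_quotient_mul_card_subgroup N
        have h8 : L0.index = A.index := h4
        rw [h8, h7, ← h6] at h5
        have h9 : 0 < A.index := Nat.pos_of_ne_zero Subgroup.index_ne_zero_of_finite
        refine Nat.eq_of_mul_eq_mul_right h9 ?_
        rw [h5]; ring
      have h5 := Cfsg.Agent.H63.card_mul_relIndex (Subgroup.map_mono (f := H.subtype) hNL0)
      rw [card_map_of_injective H.subtype_injective, card_map_of_injective H.subtype_injective, h3, mul_comm] at h5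
      exact Nat.eq_of_mul_eq_mul_right Nat.card_pos h5
    rwa [h2] at h1
  · rintro _ ⟨x, hx, rfl⟩ _ ⟨y, hy, rfl⟩
    refine ⟨x * y * x⁻¹ * y⁻¹, ?_, rfl⟩
    have h3 := hA.is_comm.comm (⟨QuotientGroup.mk' N x, hx⟩ : A) ⟨QuotientGroup.mk' N y, hy⟩
    have h4 : QuotientGroup.mk' N x * QuotientGroup.mk' N y = QuotientGroup.mk' N y * QuotientGroup.mk' N x := congrArg Subtype.val h3
    rw [SetLike.mem_coe, ← QuotientGroup.eq_one_iff, ← QuotientGroup.mk'_apply, map_mul, map_mul, map_mul, h4, map_inv, map_inv]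
    group
  · rintro _ ⟨x, hx, rfl⟩
    refine ⟨x ^ p, ?_, rfl⟩
    rw [SetLike.mem_coe, ← QuotientGroup.eq_one_iff, ← QuotientGroup.mk'_apply, map_pow]
    exact hAp _ hx

end Cfsg.Agent.H73.Sec
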