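import Mathlib

/-!
Soft subgroups of `p`-groups (Héthelyi): the step `|N(N(E)) : N(E)| = p`.
-/

set_option autoImplicit false
set_option linter.unusedSectionVars false
set_option linter.unusedVariables false
set_option linter.dupNamespace false

namespace Cfsg.Agent.H73.Soft
open Subgroup
open scoped commutatorElement

variable {P : Type*} [Group P] {p : ℕ}

structure Soft (p : ℕ) (E : Subgroup P) : Prop where
  comm : ∀ a ∈ E, ∀ b ∈ E, a * b = b * a
  cent : centralizer (E : Set P) ≤ E
  rel : E.relIndex (normalizer (E : Set P)) = p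

theorem dich (hp : p.Prime) {E K N : Subgroup P} (h1 : E ≤ K) (h2 : K ≤ N)
    (h : E.relIndex N = p) : K = E ∨ K = N := by
  have h3 := relIndex_mul_relIndex E K N h1 h2
  rw [h] at h3
  rcases (Nat.dvd_prime hp).mp (Dvd.intro _ h3) with h4 | h4
  · left; exact le_antisymm (relIndex_eq_one.mp h4) h1
  · right
    rw [h4] at h3
    have : K.relIndex N = 1 := by
      have := hp.pos
      exact Nat.eq_of_mul_eq_mul_left this (by rw [h3, mul_one])
    exact le_antisymm h2 (relIndex_eq_one.mp this)

theorem map_conj_eq [Finite P] {E : Subgroup P} {g : P}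
    (h : E.map (MulAut.conj g).toMonoidHom ≤ E) : g ∈ normalizer (E : Set P) := by
  have h1 : E.map (MulAut.conj g).toMonoidHom = E := by
    apply Subgroup.eq_of_le_of_card_ge h
    exact (Nat.card_congr (E.equivMapOfInjective _ (MulAut.conj g).injective).toEquiv).le
  rw [mem_normalizer_iff]
  intro x
  constructor
  · intro hx
    have : (MulAut.conj g).toMonoidHom x ∈ E.map (MulAut.conj g).toMonoidHom := mem_map_of_mem _ hx
    rw [h1] at this
    exact this
  · intro hx
    have h2 : g * x * g⁻¹ ∈ E.map (MulAut.conj g).toMonoidHom := by rwa [h1]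
    obtain ⟨y, hy, hyx⟩ := h2
    have : g * y * g⁻¹ = g * x * g⁻¹ := hyx
    have : y = x := mul_left_cancel (mul_right_cancel this)
    rwa [← this]

theorem index_lt_sq {Y : Type*} [Group Y] [Finite Y] {A : Subgroup Y} [A.Normal] {y : Y} (hy : y ∈ A)
    (hy1 : y ≠ 1) : (centralizer ({y} : Set Y)).index < Nat.card A := by
  let f : Y ⧸ centralizer ({y} : Set Y) → A := fun c => ⟨c.out * y * c.out⁻¹,
    ‹A.Normal›.conj_mem _ hy _⟩
  have hf : Function.Injective f := by
    intro c d h
    have h1 : c.out * y * c.out⁻¹ = d.out * y * d.out⁻¹ := congrArg Subtype.val h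
    rw [← c.out_eq', ← d.out_eq', QuotientGroup.eq, mem_centralizer_singleton_iff]
    calc c.out⁻¹ * d.out * y = c.out⁻¹ * (d.out * y * d.out⁻¹) * d.out := by group
      _ = c.out⁻¹ * (c.out * y * c.out⁻¹) * d.out := by rw [h1]
      _ = y * (c.out⁻¹ * d.out) := by group
  have h1 : Set.range f ⊂ Set.univ := by
    rw [Set.ssubset_univ_iff]
    intro h
    have : (1 : A) ∈ Set.range f := by rw [h]; trivial
    obtain ⟨c, hc⟩ := this
    have h2 : c.out * y * c.out⁻¹ = 1 := congrArg Subtype.val hc
    apply hy1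
    have h3 : y = c.out⁻¹ * (c.out * y * c.out⁻¹) * c.out := by group
    rw [h3, h2]; group
  have h2 : Nat.card (Set.range f) < Nat.card (Set.univ : Set A) :=
    Set.Finite.card_lt_card (Set.toFinite _) h1
  rw [Nat.card_congr (Equiv.Set.univ A)] at h2
  rw [Nat.card_congr (Equiv.ofInjective f hf).symm] at h2
  exact h2

theorem stepA [Finite P] (hp : p.Prime) (hP : IsPGroup p P) {E : Subgroup P} (hE : Soft p E)
    (hN : (normalizer (E : Set P)).Normal) (hne : normalizer (E : Set P) ≠ ⊤) :
    (normalizer (E : Set P)).index = p := by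
  have : Fact p.Prime := ⟨hp⟩
  set N := normalizer (E : Set P) with hNdef
  have hEN : E ≤ N := le_normalizer
  obtain ⟨g, hg⟩ : ∃ g, g ∉ N := by
    by_contra h
    push Not at h
    exact hne (eq_top_iff.mpr fun x _ => h x)
  have hmapN : N.map (MulAut.conj g).toMonoidHom = N := by
    have := hN
    exact Subgroup.Normal.map_conj_eq N g
  set E' := E.map (MulAut.conj g).toMonoidHom with hE'
  have hE'N : E' ≤ N := by rw [← hmapN]; exact map_mono hEN
  have hE'E : ¬ E' ≤ E := fun h => hg (map_conj_eq h)
  have hsup : E ⊔ E' = N := by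
    rcases dich hp le_sup_left (sup_le hEN hE'N) hE.rel with h | h
    · exact absurd (sup_eq_left.mp h) hE'E
    · exact h
  have hcommE' : ∀ a ∈ E', ∀ b ∈ E', a * b = b * a := by
    rintro _ ⟨a, ha, rfl⟩ _ ⟨b, hb, rfl⟩
    rw [← map_mul, ← map_mul, hE.comm a ha b hb]
  set Z := centralizer (N : Set P) with hZ
  have hZn : Z.Normal := by rw [hZ]; infer_instance
  have hZE : Z ≤ E := (centralizer_le hEN).trans hE.cent
  have hZE' : Z ≤ E' := by
    intro x hx
    refine ⟨g⁻¹ * x * g, hZE ?_, ?_⟩
    · have := hZn.conj_mem x hx g⁻¹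
      simpa using this
    · show g * (g⁻¹ * x * g) * g⁻¹ = x
      group
  have hZeq : E' ⊓ E = Z := by
    apply le_antisymm
    · rintro x ⟨hx', hx⟩
      rw [hZ, mem_centralizer_iff]
      have h1 : N ≤ centralizer ({x} : Set P) := by
        rw [← hsup, sup_le_iff]
        constructor
        · intro y hy; rw [mem_centralizer_singleton_iff]; exact hE.comm y hy x hx
        · intro y hy; rw [mem_centralizer_singleton_iff]; exact hcommE' y hy x hx'
      intro y hy
      exact mem_centralizer_singleton_iff.mp (h1 hy)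
    · exact le_inf hZE' hZE
  have hrelE' : E'.relIndex N = p := by
    rw [← hmapN, hE', relIndex_map_map_of_injective _ _ (MulAut.conj g).injective]
    exact hE.rel
  have hrelZ : Z.relIndex E = p := by
    rw [← hZeq, inf_relIndex_right]
    have h1 : E'.relIndex E ≤ p := by
      rw [← hrelE']
      exact relIndex_le_of_le_right hEN (by rw [hrelE']; exact hp.ne_zero)
    have h2 : E'.relIndex E ≠ 1 := by
      intro h
      have h3 := relIndex_eq_one.mp h
      have h4 : E = E' := Subgroup.eq_of_le_of_card_ge h3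
        (Nat.card_congr (E.equivMapOfInjective _ (MulAut.conj g).injective).toEquiv).ge
      exact hE'E h4.ge
    obtain ⟨n, hn⟩ := (hP.to_subgroup E).index (E'.subgroupOf E)
    have hn' : E'.relIndex E = p ^ n := hn
    rw [hn'] at h1 h2 ⊢
    have hn0 : n ≠ 0 := by rintro rfl; simp at h2
    have hn1 : n ≤ 1 := by
      by_contra hcon
      push Not at hcon
      have : p ^ 1 < p ^ n := Nat.pow_lt_pow_right hp.one_lt hcon
      rw [pow_one] at this
      omega
    rw [show n = 1 by omega, pow_one]
  set q := QuotientGroup.mk' Z with hq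
  have hker : q.ker = Z := QuotientGroup.ker_mk' Z
  have hcardN : Nat.card (N.map q) = p ^ 2 := by
    rw [← relIndex_bot_left (N.map q), ← relIndex_comap, MonoidHom.comap_bot, hker]
    rw [← relIndex_mul_relIndex Z E N hZE hEN, hrelZ, hE.rel, pow_two]
  obtain ⟨e, heE, heZ⟩ : ∃ e ∈ E, e ∉ Z := by
    by_contra h
    push Not at h
    have : Z.relIndex E = 1 := relIndex_eq_one.mpr h
    rw [hrelZ] at this
    exact hp.one_lt.ne' this
  have hEe : zpowers e ⊔ Z = E := by
    rcases dich hp (le_sup_right : Z ≤ zpowers e ⊔ Z) (sup_le (by rwa [zpowers_le]) hZE) hrelZ with h | h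
    · exact absurd ((le_sup_left : zpowers e ≤ zpowers e ⊔ Z) (mem_zpowers e)) (by rwa [h])
    · exact h
  have hNn : (N.map q).Normal := hN.map q (QuotientGroup.mk'_surjective Z)
  have hcent : centralizer ({q e} : Set (P ⧸ Z)) = N.map q := by
    apply le_antisymm
    · intro y hy
      obtain ⟨h, rfl⟩ := QuotientGroup.mk'_surjective Z y
      refine mem_map_of_mem _ ?_
      rw [mem_centralizer_singleton_iff] at hy
      have h1 : q (h * e * h⁻¹) = q e := by
        rw [map_mul, map_mul, map_inv]
        change q h * q e * (q h)⁻¹ = q e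
        have : q h * q e = q e * q h := hy
        rw [this]; group
      have h2 : (h * e * h⁻¹)⁻¹ * e ∈ Z := by
        rw [← QuotientGroup.eq]; exact h1
      have h3 : h * e * h⁻¹ ∈ E := by
        have := E.mul_mem heE (E.inv_mem (hZE h2))
        have e4 : e * ((h * e * h⁻¹)⁻¹ * e)⁻¹ = h * e * h⁻¹ := by group
        rwa [e4] at this
      apply map_conj_eq
      rw [← hEe, Subgroup.map_sup, sup_le_iff]
      constructor
      · rw [MonoidHom.map_zpowers, zpowers_le, hEe]
        exact h3
      · rintro _ ⟨z, hz, rfl⟩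
        rw [hEe]
        exact hZE (hZn.conj_mem z hz h)
    · intro y hy
      have hc := (IsPGroup.isMulCommutative_of_card_eq_prime_sq hcardN).1.1
      rw [mem_centralizer_singleton_iff]
      exact congrArg Subtype.val (hc ⟨y, hy⟩ ⟨q e, mem_map_of_mem _ (hEN heE)⟩)
  have hqe : q e ≠ 1 := by
    intro h
    apply heZ
    rw [← hker]; exact h
  have h1 := index_lt_sq (A := N.map q) (mem_map_of_mem q (hEN heE)) hqe
  rw [hcent, hcardN, index_map_eq N (QuotientGroup.mk'_surjective Z) (by rw [hker]; exact hZE.trans hEN)] at h1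
  obtain ⟨n, hn⟩ := hP.index N
  rw [hn] at h1 ⊢
  have h2 : n < 2 := (Nat.pow_lt_pow_iff_right hp.one_lt).mp h1
  have h3 : n ≠ 0 := by
    rintro rfl
    rw [pow_zero] at hn
    exact hne (index_eq_one.mp hn)
  rw [show n = 1 by omega, pow_one]

end Cfsg.Agent.H73.Soft
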