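import Cfsg.Agent.H73.Soft

/-!
Soft subgroups of `p`-groups (Héthelyi).
-/

set_option autoImplicit false
set_option linter.unusedSectionVars false
set_option linter.unusedVariables false
set_option linter.dupNamespace false

namespace Cfsg.Agent.H73.Soft
open Subgroup
open scoped commutatorElement

universe u

section
variable {P : Type*} [Group P] {p : ℕ}

theorem soft_restrict {E K : Subgroup P} (hE : Soft p E) (hK : normalizer (E : Set P) ≤ K) :
    Soft p (E.subgroupOf K) := by
  have hEK : E ≤ K := le_normalizer.trans hK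
  refine ⟨?_, ?_, ?_⟩
  · rintro ⟨a, ha'⟩ ha ⟨b, hb'⟩ hb
    exact Subtype.ext (hE.comm a ha b hb)
  · rintro ⟨a, ha'⟩ ha
    rw [mem_subgroupOf]
    apply hE.cent
    rw [mem_centralizer_iff] at ha ⊢
    intro x hx
    exact congrArg Subtype.val (ha ⟨x, hEK hx⟩ hx)
  · rw [← subgroupOf_normalizer_eq hEK, relIndex, subgroupOf, ]
    have := relIndex_comap E K.subtype ((normalizer (E : Set P)).subgroupOf K)
    change relIndex (comap K.subtype E) ((normalizer (E : Set P)).subgroupOf K) = p
    rw [this, subgroupOf_map_subtype, inf_eq_left.mpr hK]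
    exact hE.rel

theorem stepB [Finite P] (hp : p.Prime) (hP : IsPGroup p P) {E : Subgroup P} (hE : Soft p E)
    (hne : normalizer (E : Set P) ≠ ⊤) :
    (normalizer (E : Set P)).relIndex (normalizer (normalizer (E : Set P) : Set P)) = p := by
  set N := normalizer (E : Set P) with hN
  set M := normalizer (N : Set P) with hM
  have hEN : E ≤ N := le_normalizer
  have hNM : N ≤ M := le_normalizer
  have h1 : normalizer ((E.subgroupOf M : Subgroup M) : Set M) = N.subgroupOf M :=
    (subgroupOf_normalizer_eq (hEN.trans hNM)).symm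
  have hnil : Group.IsNilpotent P := by
    have : Fact p.Prime := ⟨hp⟩
    exact hP.isNilpotent
  have hlt : N < M := Group.normalizerCondition_of_isNilpotent N (lt_top_iff_ne_top.mpr hne)
  have h2 := stepA hp (hP.to_subgroup M) (soft_restrict hE hNM)
    (by rw [h1]; exact normal_subgroupOf_iff_le_normalizer hNM |>.mpr le_rfl)
    (by
      rw [h1]
      intro h
      rw [subgroupOf_eq_top] at h
      exact hlt.not_ge h)
  rw [h1] at h2
  exact h2

theorem relIndex_quot {Z : Subgroup P} [Z.Normal] {A : Subgroup P} (hZA : Z ≤ A) :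
    (A.map (QuotientGroup.mk' Z)).relIndex (normalizer (A.map (QuotientGroup.mk' Z) : Set (P ⧸ Z))) =
      A.relIndex (normalizer (A : Set P)) := by
  set q := QuotientGroup.mk' Z
  have hs : Function.Surjective q := QuotientGroup.mk'_surjective Z
  have h1 : comap q (A.map q) = A := by
    rw [comap_map_eq_self]
    rw [QuotientGroup.ker_mk']; exact hZA
  have h2 : comap q (normalizer (A.map q : Set (P ⧸ Z))) = normalizer (A : Set P) := by
    rw [comap_normalizer_eq_of_surjective _ hs, h1]
  rw [← h2]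
  nth_rewrite 3 [← h1]
  rw [relIndex_comap, map_comap_eq_self_of_surjective hs]

theorem soft_quot {Z : Subgroup P} [Z.Normal] {A : Subgroup P} (hZA : Z ≤ A)
    (hcomm : ∀ a ∈ A, ∀ b ∈ A, ⁅a, b⁆ ∈ Z) (hcent : ∀ g, (∀ a ∈ A, ⁅g, a⁆ ∈ Z) → g ∈ A)
    (hrel : A.relIndex (normalizer (A : Set P)) = p) : Soft p (A.map (QuotientGroup.mk' Z)) := by
  set q := QuotientGroup.mk' Z with hq
  have hker : q.ker = Z := QuotientGroup.ker_mk' Z
  have hc : ∀ a b : P, ⁅a, b⁆ ∈ Z ↔ q a * q b = q b * q a := by
    intro a b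
    have h0 : ⁅a, b⁆ ∈ Z ↔ q ⁅a, b⁆ = 1 := (QuotientGroup.eq_one_iff _).symm
    rw [h0, map_commutatorElement, commutatorElement_eq_one_iff_mul_comm]
  refine ⟨?_, ?_, ?_⟩
  · rintro _ ⟨a, ha, rfl⟩ _ ⟨b, hb, rfl⟩
    exact (hc a b).mp (hcomm a ha b hb)
  · intro y hy
    obtain ⟨g, rfl⟩ := QuotientGroup.mk'_surjective Z y
    refine mem_map_of_mem _ (hcent g fun a ha => ?_)
    rw [hc]
    exact (mem_centralizer_iff.mp hy (q a) (mem_map_of_mem q ha)).symm
  · rw [relIndex_quot hZA, hrel]

theorem overE [Finite P] (hp : p.Prime) (hP : IsPGroup p P) {E : Subgroup P} (hE : Soft p E)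
    {K : Subgroup P} (hK : E ≤ K) : K = E ∨ normalizer (E : Set P) ≤ K := by
  by_cases hKE : K = E
  · exact Or.inl hKE
  right
  have hnil : Group.IsNilpotent K := by
    have : Fact p.Prime := ⟨hp⟩
    exact (hP.to_subgroup K).isNilpotent
  have h1 : E.subgroupOf K < ⊤ := by
    rw [lt_top_iff_ne_top, Ne, subgroupOf_eq_top]
    exact fun h => hKE (le_antisymm h hK)
  have h2 := Group.normalizerCondition_of_isNilpotent (E.subgroupOf K) h1
  rw [← subgroupOf_normalizer_eq hK] at h2
  obtain ⟨⟨x, hxK⟩, hx1, hx2⟩ := SetLike.exists_of_lt h2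
  rw [mem_subgroupOf] at hx1 hx2
  rcases dich hp (le_inf hK le_normalizer : E ≤ K ⊓ normalizer (E : Set P)) inf_le_right hE.rel with h | h
  · exfalso
    apply hx2
    have : x ∈ K ⊓ normalizer (E : Set P) := ⟨hxK, hx1⟩
    rwa [h] at this
  · exact inf_eq_right.mp h

theorem mem_norm_of_comm [Finite P] {E Z : Subgroup P} (hZ : Z ≤ E) {g : P} (h : ∀ a ∈ E, ⁅g, a⁆ ∈ Z) :
    g ∈ normalizer (E : Set P) := by
  apply map_conj_eq
  rintro _ ⟨a, ha, rfl⟩
  show g * a * g⁻¹ ∈ E
  have := E.mul_mem (hZ (h a ha)) ha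
  have e : ⁅g, a⁆ * a = g * a * g⁻¹ := by rw [commutatorElement_def]; group
  rwa [e] at this

theorem gen_comm [Finite P] (hp : p.Prime) {E N Z : Subgroup P} [Z.Normal]
    (hcomm : ∀ a ∈ E, ∀ b ∈ E, a * b = b * a) (hEN : E ≤ N) (hrel : E.relIndex N = p) {d : P} (hdN : d ∈ N)
    (hdE : d ∉ E) (hd : ∀ a ∈ E, ⁅d, a⁆ ∈ Z) : ∀ a ∈ N, ∀ b ∈ N, ⁅a, b⁆ ∈ Z := by
  have hc : ∀ a b : P, ⁅a, b⁆ ∈ Z ↔ QuotientGroup.mk' Z a * QuotientGroup.mk' Z b =
      QuotientGroup.mk' Z b * QuotientGroup.mk' Z a := by
    intro a b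
    have h0 : ⁅a, b⁆ ∈ Z ↔ QuotientGroup.mk' Z ⁅a, b⁆ = 1 := (QuotientGroup.eq_one_iff _).symm
    rw [h0, map_commutatorElement, commutatorElement_eq_one_iff_mul_comm]
  have hgen : E ⊔ zpowers d = N := by
    rcases dich hp le_sup_left (sup_le hEN (by rwa [zpowers_le])) hrel with h | h
    · exact absurd ((le_sup_right : zpowers d ≤ E ⊔ zpowers d) (mem_zpowers d)) (by rwa [h])
    · exact h
  -- elements commuting with everything in `E` and `d` modulo `Z`
  have h1 : ∀ b ∈ N, ∀ a ∈ E, ⁅b, a⁆ ∈ Z := by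
    intro b hb a ha
    have h2 : N ≤ comap (QuotientGroup.mk' Z) (centralizer {QuotientGroup.mk' Z a}) := by
      rw [← hgen, sup_le_iff]
      constructor
      · intro x hx
        rw [mem_comap, mem_centralizer_singleton_iff, ← hc]
        rw [commutatorElement_eq_one_iff_mul_comm.mpr (hcomm x hx a ha)]
        exact one_mem _
      · rw [zpowers_le, mem_comap, mem_centralizer_singleton_iff, ← hc]
        exact hd a ha
    have h3 := h2 hb
    rw [mem_comap, mem_centralizer_singleton_iff, ← hc] at h3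
    exact h3
  intro a ha b hb
  have h2 : N ≤ comap (QuotientGroup.mk' Z) (centralizer {QuotientGroup.mk' Z a}) := by
    rw [← hgen, sup_le_iff]
    constructor
    · intro x hx
      rw [mem_comap, mem_centralizer_singleton_iff]
      exact ((hc a x).mp (h1 a ha x hx)).symm
    · rw [zpowers_le, mem_comap, mem_centralizer_singleton_iff]
      have h3 : N ≤ comap (QuotientGroup.mk' Z) (centralizer {QuotientGroup.mk' Z d}) := by
        rw [← hgen, sup_le_iff]
        constructor
        · intro x hx
          rw [mem_comap, mem_centralizer_singleton_iff]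
          exact ((hc d x).mp (hd x hx)).symm
        · rw [zpowers_le, mem_comap, mem_centralizer_singleton_iff]
      have h4 := h3 ha
      rw [mem_comap, mem_centralizer_singleton_iff] at h4
      exact h4.symm
  have h3 := h2 hb
  rw [mem_comap, mem_centralizer_singleton_iff] at h3
  exact (hc a b).mpr h3.symm

theorem card_quot_lt [Finite P] {Z : Subgroup P} [Z.Normal] (hZ : Z ≠ ⊥) :
    Nat.card (P ⧸ Z) < Nat.card P := by
  have h1 := Z.card_mul_index
  have h2 : 1 < Nat.card Z := by
    rw [Finite.one_lt_card_iff_nontrivial]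
    exact (nontrivial_iff_ne_bot Z).mpr hZ
  have h3 : 0 < Z.index := Nat.pos_of_ne_zero Z.index_ne_zero_of_finite
  show Z.index < _
  nlinarith

theorem class_congr {G H : Type*} [Group G] [Group H] [Group.IsNilpotent G] [Group.IsNilpotent H] (e : G ≃* H) :
    Group.nilpotencyClass G = Group.nilpotencyClass H := by
  apply le_antisymm
  · exact Group.nilpotencyClass_le_of_surjective e.symm.toMonoidHom e.symm.surjective
  · exact Group.nilpotencyClass_le_of_surjective e.toMonoidHom e.surjective

end

structure Concl {P : Type*} [Group P] (p : ℕ) (E : Subgroup P) : Prop where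
  chain : ∀ K L : Subgroup P, E ≤ K → E ≤ L → K ≤ L ∨ L ≤ K
  rel : ∀ K : Subgroup P, E ≤ K → K ≠ ⊤ → K.relIndex (normalizer (K : Set P)) = p
  comm : ∀ H : Subgroup P, E ≤ H → H.index = p → ∀ a ∈ normalizer (E : Set P),
    ∀ b ∈ normalizer (E : Set P), ∀ h ∈ H, ⁅a, b⁆ * h = h * ⁅a, b⁆
  cls : ∀ H : Subgroup P, E ≤ H → H.index = p → ∀ m, E.index = p ^ m → Group.nilpotencyClass ↥H = m

theorem main {p : ℕ} (hp : p.Prime) : ∀ (n : ℕ) (P : Type u) [Group P] [Finite P], Nat.card P = n →
    IsPGroup p P → ∀ E : Subgroup P, Soft p E → p ^ 2 ≤ E.index → Concl p E := by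
  have hfact : Fact p.Prime := ⟨hp⟩
  intro n
  induction n using Nat.strong_induction_on with
  | _ n ih =>
  intro P _ _ hn hP E hE hidx
  subst hn
  set N := normalizer (E : Set P) with hN
  have hEN : E ≤ N := le_normalizer
  have hmul : p * N.index = E.index := by
    rw [← relIndex_mul_index hEN, hE.rel]
  have hNne : N ≠ ⊤ := by
    intro h
    rw [h, index_top, mul_one] at hmul
    rw [← hmul] at hidx
    have : p ^ 1 < p ^ 2 := Nat.pow_lt_pow_right hp.one_lt (by norm_num)
    rw [pow_one] at this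
    omega
  have hEne : E ≠ ⊤ := by rintro rfl; exact hNne (top_le_iff.mp hEN)
  have hNidx : N.index = p ∨ p ^ 2 ≤ N.index := by
    obtain ⟨k, hk⟩ := hP.index N
    rw [hk]
    rcases Nat.lt_or_ge k 2 with h | h
    · interval_cases k
      · rw [pow_zero] at hk
        exact absurd (index_eq_one.mp hk) hNne
      · left; rw [pow_one]
    · right
      exact Nat.pow_le_pow_right hp.pos h
  have hNrel := stepB hp hP hE hNne
  have hZE : center P ≤ E := (center_le_centralizer _).trans hE.cent
  have hPnt : Nontrivial P := by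
    by_contra h
    rw [not_nontrivial_iff_subsingleton] at h
    exact hEne (Subsingleton.elim _ _)
  have hZne : center P ≠ ⊥ := (hP.bot_lt_center).ne'
  have hZlt := card_quot_lt hZne
  have hindex_map : ∀ (Z A : Subgroup P) [Z.Normal], Z ≤ A →
      (A.map (QuotientGroup.mk' Z)).index = A.index := by
    intro Z A _ hZA
    exact index_map_eq A (QuotientGroup.mk'_surjective Z) (by rw [QuotientGroup.ker_mk']; exact hZA)
  have hmaple : ∀ (Z K L : Subgroup P) [Z.Normal], Z ≤ L →
      K.map (QuotientGroup.mk' Z) ≤ L.map (QuotientGroup.mk' Z) → K ≤ L := by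
    intro Z K L _ hZL h
    have h1 : comap (QuotientGroup.mk' Z) (L.map (QuotientGroup.mk' Z)) = L := by
      rw [comap_map_eq_self]
      rw [QuotientGroup.ker_mk']; exact hZL
    rw [← h1, ← map_le_iff_le_comap]
    exact h
  have hmapne : ∀ (Z K : Subgroup P) [Z.Normal], Z ≤ K → K ≠ ⊤ → K.map (QuotientGroup.mk' Z) ≠ ⊤ := by
    intro Z K _ hZK hK h
    apply hK
    rw [← index_eq_one, ← hindex_map Z K hZK, h, index_top]
  have hSB : ¬ (∀ a ∈ N, ∀ b ∈ N, ⁅a, b⁆ ∈ center P) →
      Soft p (E.map (QuotientGroup.mk' (center P))) := by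
    intro hA
    refine soft_quot hZE ?_ ?_ hE.rel
    · intro a ha b hb
      rw [commutatorElement_eq_one_iff_mul_comm.mpr (hE.comm a ha b hb)]
      exact one_mem _
    · intro g hg
      by_contra hgE
      exact hA (gen_comm hp hE.comm hEN hE.rel (mem_norm_of_comm hZE hg) hgE hg)
  -- the dichotomy
  have h12 : (∀ K L : Subgroup P, E ≤ K → E ≤ L → K ≤ L ∨ L ≤ K) ∧
      (∀ K : Subgroup P, E ≤ K → K ≠ ⊤ → K.relIndex (normalizer (K : Set P)) = p) := by
    by_cases hA : ∀ a ∈ N, ∀ b ∈ N, ⁅a, b⁆ ∈ center P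
    · rcases hNidx with hNp | hNp
      · have h3 : ∀ K : Subgroup P, E ≤ K → K = E ∨ K = N ∨ K = ⊤ := by
          intro K hK
          rcases overE hp hP hE hK with h | h
          · exact Or.inl h
          · right
            exact dich hp h le_top (by rw [relIndex_top_right, hNp])
        constructor
        · intro K L hK hL
          rcases h3 K hK with h | h | h <;> rcases h3 L hL with h' | h' | h' <;> subst h <;> subst h' <;>
            first | exact Or.inl le_rfl | exact Or.inl hEN | exact Or.inr hEN | exact Or.inl le_top | exact Or.inr le_top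
        · intro K hK hKt
          rcases h3 K hK with h | h | h
          · rw [h]; exact hE.rel
          · rw [h]; exact hNrel
          · exact absurd h hKt
      · have hS : Soft p (N.map (QuotientGroup.mk' (center P))) := by
          apply soft_quot (hZE.trans hEN) hA _ hNrel
          intro g hg
          exact mem_norm_of_comm hZE (fun a ha => hg a (hEN ha))
        have IH := ih _ hZlt (P ⧸ center P) rfl (hP.to_quotient _) _ hS
          (by rw [hindex_map _ _ (hZE.trans hEN)]; exact hNp)
        constructor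
        · intro K L hK hL
          rcases overE hp hP hE hK with h | h
          · left; rw [h]; exact hL
          rcases overE hp hP hE hL with h' | h'
          · right; rw [h']; exact hK
          rcases IH.chain (K.map (QuotientGroup.mk' (center P))) (L.map (QuotientGroup.mk' (center P)))
            (map_mono h) (map_mono h') with h1 | h1
          · exact Or.inl (hmaple _ _ _ (hZE.trans hL) h1)
          · exact Or.inr (hmaple _ _ _ (hZE.trans hK) h1)
        · intro K hK hKt
          rcases overE hp hP hE hK with h | h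
          · rw [h]; exact hE.rel
          rw [← relIndex_quot (Z := center P) (hZE.trans hK)]
          exact IH.rel _ (map_mono h) (hmapne _ _ (hZE.trans hK) hKt)
    · have hS := hSB hA
      have IH := ih _ hZlt (P ⧸ center P) rfl (hP.to_quotient _) _ hS
        (by rw [hindex_map _ _ hZE]; exact hidx)
      constructor
      · intro K L hK hL
        rcases IH.chain (K.map (QuotientGroup.mk' (center P))) (L.map (QuotientGroup.mk' (center P)))
          (map_mono hK) (map_mono hL) with h1 | h1
        · exact Or.inl (hmaple _ _ _ (hZE.trans hL) h1)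
        · exact Or.inr (hmaple _ _ _ (hZE.trans hK) h1)
      · intro K hK hKt
        rw [← relIndex_quot (Z := center P) (hZE.trans hK)]
        exact IH.rel _ (map_mono hK) (hmapne _ _ (hZE.trans hK) hKt)
  obtain ⟨hchain, hrel⟩ := h12
  have hnt : ∀ H : Subgroup P, H.index = p → H ≠ ⊤ := by
    rintro H hH rfl
    rw [index_top] at hH
    exact hp.one_lt.ne hH
  have hHn : ∀ H : Subgroup P, E ≤ H → H.index = p → H.Normal := by
    intro H hEH hH
    have h1 := hrel H hEH (hnt H hH)
    have h2 := relIndex_mul_index (le_normalizer : H ≤ normalizer (H : Set P))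
    rw [h1, hH] at h2
    have h3 : (normalizer (H : Set P)).index = 1 :=
      Nat.eq_of_mul_eq_mul_left hp.pos (by rw [h2, mul_one])
    exact normalizer_eq_top_iff.mp (index_eq_one.mp h3)
  have hNE : ∀ a ∈ N, ∀ b ∈ N, ⁅a, b⁆ ∈ E := by
    -- `N/E` is abelian
    have hEn : (E.subgroupOf N).Normal := normal_in_normalizer
    intro a ha b hb
    have hcd : Nat.card (N ⧸ E.subgroupOf N) = p := hE.rel
    have hcyc : IsCyclic (N ⧸ E.subgroupOf N) := isCyclic_of_prime_card hcd
    have h1 : QuotientGroup.mk' (E.subgroupOf N) ⟨a, ha⟩ * QuotientGroup.mk' (E.subgroupOf N) ⟨b, hb⟩ =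
        QuotientGroup.mk' (E.subgroupOf N) ⟨b, hb⟩ * QuotientGroup.mk' (E.subgroupOf N) ⟨a, ha⟩ :=
      (IsCyclic.commGroup (α := N ⧸ E.subgroupOf N)).mul_comm _ _
    rw [← commutatorElement_eq_one_iff_mul_comm, ← map_commutatorElement] at h1
    have h2 : (⁅(⟨a, ha⟩ : N), ⟨b, hb⟩⁆ : N) ∈ E.subgroupOf N := (QuotientGroup.eq_one_iff _).mp h1
    exact h2
  have hcomm : ∀ H : Subgroup P, E ≤ H → H.index = p → ∀ a ∈ N, ∀ b ∈ N, ∀ h ∈ H,
      ⁅a, b⁆ * h = h * ⁅a, b⁆ := by
    intro H hEH hH a ha b hb
    by_cases hA : ∀ a ∈ N, ∀ b ∈ N, ⁅a, b⁆ ∈ center P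
    · intro h hh
      exact ((mem_center_iff.mp (hA a ha b hb)) h).symm
    have IH := ih _ hZlt (P ⧸ center P) rfl (hP.to_quotient _) _ (hSB hA)
      (by rw [hindex_map _ _ hZE]; exact hidx)
    obtain ⟨d, hd⟩ : ∃ d, d = ⁅a, b⁆ := ⟨_, rfl⟩
    have hdE : d ∈ E := by rw [hd]; exact hNE a ha b hb
    have hdH : ∀ h ∈ H, ⁅d, h⁆ ∈ center P := by
      intro h hh
      have hq : ∀ x ∈ N, QuotientGroup.mk' (center P) x ∈
          normalizer ((E.map (QuotientGroup.mk' (center P)) : Subgroup (P ⧸ center P)) : Set (P ⧸ center P)) := by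
        intro x hx
        have := le_normalizer_map (QuotientGroup.mk' (center P)) (mem_map_of_mem _ hx)
        exact this
      have h1 := IH.comm (H.map (QuotientGroup.mk' (center P))) (map_mono hEH)
        (by rw [hindex_map _ _ (hZE.trans hEH)]; exact hH) _ (hq a ha) _ (hq b hb) _
        (mem_map_of_mem _ hh)
      rw [← map_commutatorElement, ← hd] at h1
      have h0 : ⁅d, h⁆ ∈ center P ↔ QuotientGroup.mk' (center P) ⁅d, h⁆ = 1 := (QuotientGroup.eq_one_iff _).symm
      rw [h0, map_commutatorElement, commutatorElement_eq_one_iff_mul_comm]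
      exact h1
    by_contra hcon
    push Not at hcon
    obtain ⟨h0, hh0, hne0⟩ := hcon
    rw [← hd] at hne0
    set C := H ⊓ centralizer ({d} : Set P) with hC
    have hEC : E ≤ C := le_inf hEH (fun x hx => by
      rw [mem_centralizer_singleton_iff]; exact hE.comm x hx d hdE)
    have hCH : C ≤ H := inf_le_left
    have hCne : C ≠ H := by
      intro h
      have : h0 ∈ C := by rw [h]; exact hh0
      exact hne0 (mem_centralizer_singleton_iff.mp this.2).symm
    have hHNC : H ≤ normalizer (C : Set P) := by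
      intro h hh
      apply map_conj_eq
      rintro _ ⟨c, ⟨hcH, hcd⟩, rfl⟩
      refine ⟨H.mul_mem (H.mul_mem hh hcH) (H.inv_mem hh), ?_⟩
      replace hcd : c * d = d * c := mem_centralizer_singleton_iff.mp hcd
      refine mem_centralizer_singleton_iff.mpr ?_
      show h * c * h⁻¹ * d = d * (h * c * h⁻¹)
      -- `h⁻¹ d h = z d` with `z` central
      have h1 := hdH h⁻¹ (H.inv_mem hh)
      obtain ⟨z, hz⟩ : ∃ z, z = ⁅d, h⁻¹⁆ := ⟨_, rfl⟩
      rw [← hz] at h1
      have h2 : h⁻¹ * d * h = z⁻¹ * d := by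
        rw [hz, commutatorElement_def]; group
      have hzc : ∀ x, x * z⁻¹ = z⁻¹ * x := mem_center_iff.mp (inv_mem h1)
      have hcz : c * (z⁻¹ * d) = z⁻¹ * d * c := by
        rw [← mul_assoc c, hzc c, mul_assoc z⁻¹, hcd, ← mul_assoc]
      calc h * c * h⁻¹ * d = h * (c * (h⁻¹ * d * h)) * h⁻¹ := by group
        _ = h * (c * (z⁻¹ * d)) * h⁻¹ := by rw [h2]
        _ = h * ((z⁻¹ * d) * c) * h⁻¹ := by rw [hcz]
        _ = h * ((h⁻¹ * d * h) * c) * h⁻¹ := by rw [h2]
        _ = d * (h * c * h⁻¹) := by group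
    have hCt : C ≠ ⊤ := fun h => hCne (le_antisymm hCH (by rw [h]; exact le_top))
    have hHN : H = normalizer (C : Set P) :=
      (dich hp hCH hHNC (hrel C hEC hCt)).resolve_left (fun h => hCne h.symm)
    obtain ⟨g, hg⟩ : ∃ g, g ∉ H := by
      by_contra h
      push Not at h
      exact hnt H hH (eq_top_iff.mpr fun x _ => h x)
    have hHnorm := hHn H hEH hH
    obtain ⟨d', hd'⟩ : ∃ d', d' = g * d * g⁻¹ := ⟨_, rfl⟩
    have hd'H : ∀ h ∈ H, ⁅d', h⁆ ∈ center P := by
      intro h hh
      have h1 := hdH (g⁻¹ * h * g) (by simpa using hHnorm.conj_mem h hh g⁻¹)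
      have h2 : ⁅d', h⁆ = g * ⁅d, g⁻¹ * h * g⁆ * g⁻¹ := by
        rw [hd', commutatorElement_def, commutatorElement_def]; group
      rw [h2]
      exact (inferInstance : (center P).Normal).conj_mem _ h1 g
    by_cases hd'E : d' ∈ E
    · -- `E ≤ C^g`
      have hEC' : E ≤ C.map (MulAut.conj g).toMonoidHom := by
        intro x hx
        refine ⟨g⁻¹ * x * g, ⟨?_, ?_⟩, ?_⟩
        · simpa using hHnorm.conj_mem x (hEH hx) g⁻¹
        · refine mem_centralizer_singleton_iff.mpr ?_
          have h1 := hE.comm x hx d' hd'E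
          rw [hd'] at h1
          calc g⁻¹ * x * g * d = g⁻¹ * (x * (g * d * g⁻¹)) * g := by group
            _ = g⁻¹ * ((g * d * g⁻¹) * x) * g := by rw [h1]
            _ = d * (g⁻¹ * x * g) := by group
        · show g * (g⁻¹ * x * g) * g⁻¹ = x
          group
      have hcard : Nat.card (C.map (MulAut.conj g).toMonoidHom) = Nat.card C :=
        (Nat.card_congr (C.equivMapOfInjective _ (MulAut.conj g).injective).toEquiv).symm
      have hgC : g ∈ normalizer (C : Set P) := by
        apply map_conj_eq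
        rcases hchain _ _ hEC hEC' with h | h
        · exact (Subgroup.eq_of_le_of_card_ge h hcard.le).ge
        · exact h
      rw [← hHN] at hgC
      exact hg hgC
    · apply hA
      apply gen_comm hp hE.comm hEN hE.rel _ hd'E (fun a ha => hd'H a (hEH ha))
      exact mem_norm_of_comm hZE (fun a ha => hd'H a (hEH ha))
  refine ⟨hchain, hrel, hcomm, ?_⟩
  intro H hEH hH m hm
  have hHnorm := hHn H hEH hH
  set ZH := centralizer (H : Set P) with hZH
  have hZHn : ZH.Normal := by rw [hZH]; infer_instance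
  have hZHE : ZH ≤ E := (centralizer_le hEH).trans hE.cent
  have hHnt : Nontrivial H := by
    rw [nontrivial_iff_ne_bot]
    rintro rfl
    have : E = ⊥ := le_bot_iff.mp hEH
    have h1 : (⊤ : Subgroup P) ≤ E := by
      refine le_trans ?_ hE.cent
      rw [this]
      intro x _
      rw [mem_centralizer_iff]
      intro y hy
      rw [mem_bot.mp hy, one_mul, mul_one]
    exact hEne (top_le_iff.mp h1)
  have hHnil : Group.IsNilpotent H := (hP.to_subgroup H).isNilpotent
  have hm2 : 2 ≤ m := by
    rw [hm] at hidx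
    exact (Nat.pow_le_pow_iff_right hp.one_lt).mp hidx
  have hNm : N.index = p ^ (m - 1) := by
    apply Nat.eq_of_mul_eq_mul_left hp.pos
    rw [hmul, hm, ← pow_succ', show m - 1 + 1 = m by omega]
  have hNH : N ≤ H := by
    rcases overE hp hP hE hEH with h | h
    · exfalso
      rw [← h, hH] at hidx
      have : p ^ 1 < p ^ 2 := Nat.pow_lt_pow_right hp.one_lt (by norm_num)
      rw [pow_one] at this
      omega
    · exact h
  have hcZH : ∀ a ∈ N, ∀ b ∈ N, ⁅a, b⁆ ∈ ZH := by
    intro a ha b hb
    rw [hZH, mem_centralizer_iff]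
    intro h hh
    exact (hcomm H hEH hH a ha b hb h hh).symm
  -- the quotient
  set q := QuotientGroup.mk' ZH with hq
  let f : H →* P ⧸ ZH := q.comp H.subtype
  have hfker : f.ker = center H := by
    ext ⟨x, hx⟩
    rw [MonoidHom.mem_ker, mem_center_iff]
    have h0 : f ⟨x, hx⟩ = 1 ↔ x ∈ ZH := QuotientGroup.eq_one_iff _
    rw [h0, hZH, mem_centralizer_iff]
    constructor
    · rintro h ⟨y, hy⟩
      exact Subtype.ext (h y hy)
    · intro h y hy
      exact congrArg Subtype.val (h ⟨y, hy⟩)
  have hfrange : f.range = H.map q := by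
    rw [MonoidHom.range_eq_map, ← Subgroup.map_map]
    congr 1
    rw [← MonoidHom.range_eq_map, range_subtype]
  have hpq : IsPGroup p (P ⧸ ZH) := hP.to_quotient _
  have hnil2 : Group.IsNilpotent ↥(H.map q) := (hpq.to_subgroup _).isNilpotent
  have hnil3 : Group.IsNilpotent (H ⧸ center H) := ((hP.to_subgroup H).to_quotient _).isNilpotent
  have hcl : Group.nilpotencyClass ↥H = Group.nilpotencyClass ↥(H.map q) + 1 := by
    rw [Group.nilpotencyClass_eq_quotient_center_plus_one]
    congr 1
    have e1 : (H ⧸ center H) ≃* (H ⧸ f.ker) := QuotientGroup.quotientMulEquivOfEq hfker.symm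
    have e2 : (H ⧸ f.ker) ≃* f.range := QuotientGroup.quotientKerEquivRange f
    have e3 : f.range ≃* ↥(H.map q) := MulEquiv.subgroupCongr hfrange
    exact class_congr ((e1.trans e2).trans e3)
  rw [hcl]
  rcases Nat.lt_or_ge m 3 with hm3 | hm3
  · -- `m = 2`
    have hm' : m = 2 := by omega
    subst hm'
    have hNeqH : N = H := by
      refine Subgroup.eq_of_le_of_card_ge hNH ?_
      have h1 := N.card_mul_index
      have h2 := H.card_mul_index
      rw [hNm] at h1
      rw [hH] at h2
      norm_num at h1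
      exact (Nat.eq_of_mul_eq_mul_right hp.pos (h1.trans h2.symm)).ge
    have h1 : IsMulCommutative ↥(H.map q) := by
      refine ⟨⟨?_⟩⟩
      rintro ⟨_, a, ha, rfl⟩ ⟨_, b, hb, rfl⟩
      apply Subtype.ext
      show q a * q b = q b * q a
      have h2 := hcZH a (by rw [hNeqH]; exact ha) b (by rw [hNeqH]; exact hb)
      have h0 : ⁅a, b⁆ ∈ ZH ↔ q ⁅a, b⁆ = 1 := (QuotientGroup.eq_one_iff _).symm
      rw [h0, map_commutatorElement, commutatorElement_eq_one_iff_mul_comm] at h2
      exact h2
    have h2 := Group.IsNilpotent.nilpotencyClass_le_one_iff.mpr h1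
    have h3 : Group.nilpotencyClass ↥(H.map q) ≠ 0 := by
      intro h
      rw [Group.nilpotencyClass_zero_iff_subsingleton] at h
      -- then `N = E`
      have h4 : H ≤ E := by
        intro x hx
        apply hZHE
        have : (⟨q x, mem_map_of_mem q hx⟩ : ↥(H.map q)) = 1 := Subsingleton.elim _ _
        exact (QuotientGroup.eq_one_iff _).mp (congrArg Subtype.val this)
      have h5 : E = H := le_antisymm hEH h4
      rw [h5, hH] at hidx
      have : p ^ 1 < p ^ 2 := Nat.pow_lt_pow_right hp.one_lt (by norm_num)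
      rw [pow_one] at this
      omega
    omega
  · have hZHne : ZH ≠ ⊥ := by
      have h1 : center H ≠ ⊥ := (IsPGroup.bot_lt_center (hP.to_subgroup H)).ne'
      intro h
      apply h1
      rw [← hfker, eq_bot_iff]
      rintro ⟨x, hx⟩ hx2
      have h0 : x ∈ ZH := (QuotientGroup.eq_one_iff _).mp hx2
      rw [h, mem_bot] at h0
      exact Subtype.ext h0
    have hS : Soft p (N.map q) := by
      apply soft_quot (hZHE.trans hEN) hcZH _ hNrel
      intro g hg
      exact mem_norm_of_comm hZHE (fun a ha => hg a (hEN ha))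
    have IH := ih _ (card_quot_lt hZHne) (P ⧸ ZH) rfl hpq _ hS
      (by
        rw [hindex_map _ _ (hZHE.trans hEN), hNm]
        exact Nat.pow_le_pow_right hp.pos (by omega))
    have h1 := IH.cls (H.map q) (map_mono hNH)
      (by rw [hindex_map _ _ (hZHE.trans hEH)]; exact hH) (m - 1)
      (by rw [hindex_map _ _ (hZHE.trans hEN)]; exact hNm)
    rw [h1]; omega

end Cfsg.Agent.H73.Soft
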